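import Cfsg.Agent.Lib.SpinCent.Bound

/-!
# Cores of centralisers of several lifts
-/

set_option autoImplicit false
set_option linter.unusedSectionVars false
set_option linter.style.haveILetI false

namespace CfsgLib.SpinCent

open Equiv Equiv.Perm

variable {G : Type*} [Group G] [Finite G] {n : ℕ} {z x : G}

/-- An element is a fixed one times an inverted one. -/
theorem exists_fixed_mul_inverted {R : Subgroup G} {s : G} (hR : Odd (Nat.card R)) (hs : s * s = 1)
    (hn : ∀ g ∈ R, s * g * s⁻¹ ∈ R) {g : G} (hg : g ∈ R) :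
    ∃ f ∈ R, f * s = s * f ∧ ∃ i ∈ R, s * i * s⁻¹ = i⁻¹ ∧ g = f * i := by
  set I := CfsgLib.SmallCent.inverted R s
  set F := R ⊓ Subgroup.centralizer ({s} : Set G)
  have hF : ∀ f : F, s * (f : G) * s⁻¹ = f := fun f =>
    mul_inv_eq_iff_eq_mul.mpr (Subgroup.mem_centralizer_singleton_iff.mp (Subgroup.mem_inf.mp f.2).2).symm
  let μ : F × I → R := fun t => ⟨t.1.1 * t.2.1, R.mul_mem (Subgroup.mem_inf.mp t.1.2).1 t.2.2.1⟩
  have hμ : Function.Injective μ := by
    rintro ⟨f, ⟨i, hi⟩⟩ ⟨f', ⟨i', hi'⟩⟩ e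
    have e1 : (f : G) * i = f' * i' := congrArg Subtype.val e
    have e2 : (f : G) * i⁻¹ = f' * i'⁻¹ := by
      have := congrArg (fun g => s * g * s⁻¹) e1
      rw [show s * ((f : G) * i) * s⁻¹ = (s * f * s⁻¹) * (s * i * s⁻¹) by group, hF f, hi.2,
        show s * ((f' : G) * i') * s⁻¹ = (s * f' * s⁻¹) * (s * i' * s⁻¹) by group, hF f', hi'.2] at this
      exact this
    have e3 : i * i = i' * i' := by
      have h := congrArg (fun g => ((f : G) * i⁻¹)⁻¹ * g) e1
      rw [show ((f : G) * i⁻¹)⁻¹ * (f * i) = i * i by group, e2,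
        show ((f' : G) * i'⁻¹)⁻¹ * (f' * i') = i' * i' by group] at h
      exact h
    obtain ⟨k, hk⟩ := CfsgLib.SmallCent.odd_half hR
    have e4 : i = i' := by rw [← (hk i hi.1).2, e3, (hk i' hi'.1).2]
    subst e4
    obtain rfl : f = f' := Subtype.ext (mul_right_cancel e1)
    rfl
  have hb := hμ.bijective_of_nat_card_le (by
    rw [Nat.card_prod, CfsgLib.SmallCent.card_fixed_mul_inverted hR hs hn, Nat.card_coe_set_eq])
  obtain ⟨⟨f, ⟨i, hi⟩⟩, e⟩ := hb.2 ⟨g, hg⟩
  exact ⟨f, (Subgroup.mem_inf.mp f.2).1, Subgroup.mem_centralizer_singleton_iff.mp (Subgroup.mem_inf.mp f.2).2,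
    i, hi.1, hi.2, (congrArg Subtype.val e).symm⟩

theorem odd_orderOf {R : Subgroup G} (hR : Odd (Nat.card R)) {g : G} (hg : g ∈ R) : Odd (orderOf g) :=
  hR.of_dvd_nat (Subgroup.orderOf_dvd_natCard _ hg)

namespace Std

variable (S : Std n z x)

/-- An odd group centralising `y`, `z` and `x` has order dividing three. -/
theorem odd_both_dvd {K : Subgroup G} (hK : Odd (Nat.card K)) (hz : ∀ g ∈ K, g * z = z * g)
    (hx : ∀ g ∈ K, g * x = x * g) (hy : ∀ g ∈ K, g * S.y = S.y * g) : Nat.card K ∣ 3 := by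
  have h1 := S.odd_dvd hK hz hy
  have h2 : Nat.card K ∣ 3 * 2 ^ 9 :=
    (Subgroup.card_dvd_of_le (fun g hg => mem_both.mpr ⟨hz g hg, hx g hg⟩)).trans S.card_both_dvd
  exact (Nat.dvd_gcd h1 h2).trans (by decide)

/-- The odd subgroups centralising `y` and one of `x`, `x * z`. -/
theorem odd_dvd_x {K : Subgroup G} (hK : Odd (Nat.card K)) {u : G} (hu : u = x ∨ u = x * z)
    (hx : ∀ g ∈ K, g * u = u * g) (hy : ∀ g ∈ K, g * S.y = S.y * g) : Nat.card K ∣ 27 := by
  obtain ⟨E, hEy, hE1, hE2, hE3⟩ := S.exists_E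
  obtain ⟨F, hFy, hFu⟩ : ∃ F : G, F * S.y = S.y * F ∧ F * u * F⁻¹ = z := by
    rcases hu with rfl | rfl
    · refine ⟨E⁻¹, (show Commute E S.y from hEy).inv_left.eq, ?_⟩
      rw [← hE1]; group
    · exact ⟨E, hEy, hE3⟩
  have hc : Nat.card (K.map (MulAut.conj F).toMonoidHom) = Nat.card K :=
    Subgroup.card_map_of_injective (MulAut.conj F).injective
  rw [← hc]
  refine S.odd_dvd (hc ▸ hK) ?_ ?_
  · rintro _ ⟨g, hg, rfl⟩
    show F * g * F⁻¹ * z = z * (F * g * F⁻¹)
    rw [← hFu]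
    calc F * g * F⁻¹ * (F * u * F⁻¹) = F * (g * u) * F⁻¹ := by group
      _ = F * (u * g) * F⁻¹ := by rw [hx g hg]
      _ = _ := by group
  · rintro _ ⟨g, hg, rfl⟩
    show F * g * F⁻¹ * S.y = S.y * (F * g * F⁻¹)
    have hy' : F * S.y * F⁻¹ = S.y := mul_inv_eq_iff_eq_mul.mpr hFy
    calc F * g * F⁻¹ * S.y = F * g * F⁻¹ * (F * S.y * F⁻¹) := by rw [hy']
      _ = F * (g * S.y) * F⁻¹ := by group
      _ = F * (S.y * g) * F⁻¹ := by rw [hy g hg]
      _ = (F * S.y * F⁻¹) * (F * g * F⁻¹) := by group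
      _ = _ := by rw [hy']

/-- A set of lifts to be centralised. -/
structure Gens (S : Std n z x) (s : Set G) : Prop where
  sub : s ⊆ S.P3
  y_mem : S.y ∈ Subgroup.closure s
  has : ∃ c ∈ s, (S.H.p c).IsThreeCycle
  x_stable : ∀ u ∈ s, x * u * x⁻¹ ∈ Subgroup.closure s

variable {S} {s : Set G} {O : Subgroup G}

theorem Gens.exists_core (h : Gens S s) : ∃ O, Split z (Subgroup.centralizer s) O := by
  obtain ⟨c, hcs, hc3⟩ := h.has
  exact S.exists_core hcs (S.P3_comm_z (h.sub hcs)) hc3 fun u hu => S.P3_comm_z (h.sub hu)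

theorem Gens.comm_y (h : Gens S s) {g : G} (hg : g ∈ Subgroup.centralizer s) : g * S.y = S.y * g := by
  have : g ∈ Subgroup.centralizer ((Subgroup.closure s : Subgroup G) : Set G) := by
    rwa [Subgroup.centralizer_closure]
  exact (Subgroup.mem_centralizer_iff.mp this S.y h.y_mem).symm

theorem Gens.closure_le (h : Gens S s) : Subgroup.closure s ≤ S.P3 := (Subgroup.closure_le _).mpr h.sub

theorem Gens.z_mem (h : Gens S s) : z ∈ Subgroup.centralizer s :=
  Subgroup.mem_centralizer_iff.mpr fun u hu => S.P3_comm_z (h.sub hu)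

theorem Gens.closure_le_core (h : Gens S s) (P : Split z (Subgroup.centralizer s) O) : Subgroup.closure s ≤ O := by
  refine P.absorb _ ((Subgroup.closure_le _).mpr fun u hu => Subgroup.mem_centralizer_iff.mpr fun w hw =>
    S.P3_comm (h.sub hw) (h.sub hu)) ?_ ?_
  · have := Subgroup.card_dvd_of_le h.closure_le
    rw [S.card_P3] at this
    exact (show Odd 27 by decide).of_dvd_nat this
  · intro c hc _ b hb
    have : c ∈ Subgroup.centralizer ((Subgroup.closure s : Subgroup G) : Set G) := by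
      rwa [Subgroup.centralizer_closure]
    rw [mul_inv_eq_iff_eq_mul.mpr (Subgroup.mem_centralizer_iff.mp this b hb).symm]
    exact hb

theorem Gens.z_norm (h : Gens S s) (P : Split z (Subgroup.centralizer s) O) {g : G} (hg : g ∈ O) :
    z * g * z⁻¹ ∈ O :=
  (Subgroup.mem_normalizer_iff.mp (P.stable z (Subgroup.le_normalizer h.z_mem)) g).mp hg

theorem Gens.x_norm (h : Gens S s) (P : Split z (Subgroup.centralizer s) O) {g : G} (hg : g ∈ O) :
    x * g * x⁻¹ ∈ O := by
  refine (Subgroup.mem_normalizer_iff.mp (P.stable x (mem_normalizer_centralizer h.x_stable ?_)) g).mp hg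
  intro u hu
  have := h.x_stable u hu
  rwa [inv_eq_of_mul_eq_one_right S.xx] at this ⊢

/-- The orders of the fixed groups of the four group on the core. -/
theorem Gens.card_core (h : Gens S s) (P : Split z (Subgroup.centralizer s) O) :
    9 * (CfsgLib.SmallCent.inverted O z).ncard =
      Nat.card ↥(O ⊓ Subgroup.centralizer ({x} : Set G)) * Nat.card ↥(O ⊓ Subgroup.centralizer ({x * z} : Set G)) ∧
    Nat.card O = Nat.card ↥(O ⊓ Subgroup.centralizer ({z} : Set G)) * (CfsgLib.SmallCent.inverted O z).ncard ∧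
    Nat.card ↥(O ⊓ Subgroup.centralizer ({x} : Set G)) ∣ 27 ∧
    Nat.card ↥(O ⊓ Subgroup.centralizer ({x * z} : Set G)) ∣ 27 ∧ IsPGroup 3 O := by
  haveI := Fact.mk Nat.prime_three
  have hy : ∀ g ∈ O, g * S.y = S.y * g := fun g hg => h.comm_y (P.le hg)
  have hdiv : ∀ {K : Subgroup G}, K ≤ O → Odd (Nat.card K) := fun hK => P.odd.of_dvd_nat (Subgroup.card_dvd_of_le hK)
  have hz := CfsgLib.SmallCent.card_fixed_mul_inverted P.odd S.H.zz (fun g hg => h.z_norm P hg)
  have hfp := CfsgLib.SmallCent.four_product (R := O) P.odd S.H.zz S.xx (show Commute z x from S.xz.symm)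
    (fun g hg => h.z_norm P hg) (fun g hg => h.x_norm P hg)
  rw [show z * x = x * z from S.xz.symm] at hfp
  have h3 : Nat.card ↥(O ⊓ Subgroup.centralizer ({z, x} : Set G)) = 3 := by
    refine Nat.dvd_antisymm (S.odd_both_dvd (hdiv inf_le_left) ?_ ?_ (fun g hg => hy g (Subgroup.mem_inf.mp hg).1)) ?_
    · exact fun g hg => (Subgroup.mem_centralizer_iff.mp (Subgroup.mem_inf.mp hg).2 z (Or.inl rfl)).symm
    · exact fun g hg => (Subgroup.mem_centralizer_iff.mp (Subgroup.mem_inf.mp hg).2 x (Or.inr rfl)).symm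
    · rw [← S.orderOf_y]
      refine Subgroup.orderOf_dvd_natCard _ (Subgroup.mem_inf.mpr ⟨h.closure_le_core P h.y_mem,
        Subgroup.mem_centralizer_iff.mpr ?_⟩)
      rintro u (rfl | rfl)
      · exact S.y_z.symm
      · exact S.y_x.symm
  have hzd := S.odd_dvd (K := O ⊓ Subgroup.centralizer ({z} : Set G)) (hdiv inf_le_left)
    (fun g hg => mem_cent.mp (Subgroup.mem_inf.mp hg).2) (fun g hg => hy g (Subgroup.mem_inf.mp hg).1)
  have hxd := S.odd_dvd_x (K := O ⊓ Subgroup.centralizer ({x} : Set G)) (hdiv inf_le_left) (Or.inl rfl)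
    (fun g hg => mem_cent.mp (Subgroup.mem_inf.mp hg).2) (fun g hg => hy g (Subgroup.mem_inf.mp hg).1)
  have hxzd := S.odd_dvd_x (K := O ⊓ Subgroup.centralizer ({x * z} : Set G)) (hdiv inf_le_left) (Or.inr rfl)
    (fun g hg => mem_cent.mp (Subgroup.mem_inf.mp hg).2) (fun g hg => hy g (Subgroup.mem_inf.mp hg).1)
  rw [h3] at hfp
  refine ⟨?_, hz, hxd, hxzd, ?_⟩
  · refine Nat.eq_of_mul_eq_mul_left (Nat.card_pos (α := ↥(O ⊓ Subgroup.centralizer ({z} : Set G)))) ?_
    rw [← mul_assoc, ← mul_assoc, ← hfp, hz]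
    ring
  · have hd : Nat.card O ∣ 3 ^ 9 := by
      refine (dvd_mul_right _ (3 ^ 2)).trans ?_
      rw [hfp]
      exact (Nat.mul_dvd_mul (Nat.mul_dvd_mul hzd hxd) hxzd).trans (by norm_num)
    obtain ⟨k, -, hk⟩ := (Nat.dvd_prime_pow Nat.prime_three).mp hd
    exact IsPGroup.iff_card.mpr ⟨k, hk⟩

/-- Eighty-one inverted elements contradict the bound. -/
theorem Gens.false_of_inverted (h : Gens S s) (P : Split z (Subgroup.centralizer s) O) {c v u g : G}
    (hA : Axis S c v) (hcs : c ∈ Subgroup.closure s) (hus : u ∈ Subgroup.closure s) (hgc : g * c = c * g)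
    (hz : z ∈ Subgroup.closure ({u, g * u * g⁻¹} : Set G))
    (hI : (CfsgLib.SmallCent.inverted O z).ncard = 81) : False := by
  obtain ⟨Oc, Pc⟩ := S.exists_core (s := {c}) rfl hA.comm hA.three (fun u hu => hu ▸ hA.comm)
  obtain ⟨-, -, -, -, h3⟩ := h.card_core P
  have hcent : ∀ g ∈ O, ∀ w ∈ Subgroup.closure s, g * w = w * g := fun g hg w hw => by
    have : g ∈ Subgroup.centralizer ((Subgroup.closure s : Subgroup G) : Set G) := by
      rw [Subgroup.centralizer_closure]; exact P.le hg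
    exact (Subgroup.mem_centralizer_iff.mp this w hw).symm
  set A0 := O ⊓ Oc
  have hcA : c ∈ A0 := Subgroup.mem_inf.mpr ⟨h.closure_le_core P hcs, hA.c_mem Pc⟩
  have hzA : ∀ g ∈ A0, z * g * z⁻¹ ∈ A0 := fun g hg =>
    Subgroup.mem_inf.mpr ⟨h.z_norm P (Subgroup.mem_inf.mp hg).1, hA.z_norm Pc (Subgroup.mem_inf.mp hg).2⟩
  have hfix : A0 ⊓ Subgroup.centralizer ({z} : Set G) = Subgroup.zpowers c := by
    refine le_antisymm (fun g hg => hA.fixed Pc (Subgroup.mem_inf.mp (Subgroup.mem_inf.mp hg).1).2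
      (mem_cent.mp (Subgroup.mem_inf.mp hg).2)) ?_
    rw [Subgroup.zpowers_le]
    exact Subgroup.mem_inf.mpr ⟨hcA, mem_cent.mpr hA.comm⟩
  have hinv : CfsgLib.SmallCent.inverted A0 z = CfsgLib.SmallCent.inverted O z := by
    refine Set.ext fun g => ⟨fun hg => ⟨(Subgroup.mem_inf.mp hg.1).1, hg.2⟩, fun hg => ⟨?_, hg.2⟩⟩
    refine Subgroup.mem_inf.mpr ⟨hg.1, Pc.mem_of_inverted (Subgroup.mem_centralizer_singleton_iff.mpr hA.comm.symm)
      (Subgroup.mem_centralizer_singleton_iff.mpr (hcent g hg.1 c hcs)) (odd_orderOf P.odd hg.1) hg.2⟩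
  have hc3 : orderOf c = 3 := orderOf_eq_prime hA.cube fun e => by
    have h := hA.three.orderOf
    rw [e, S.H.p_one, orderOf_one] at h
    norm_num at h
  have hcard := CfsgLib.SmallCent.card_fixed_mul_inverted (R := A0)
    (P.odd.of_dvd_nat (Subgroup.card_dvd_of_le inf_le_left)) S.H.zz hzA
  rw [hfix, hinv, hI, Nat.card_zpowers, hc3] at hcard
  exact hA.big Pc inf_le_right (h3.to_le inf_le_left) (by rw [hcard]; norm_num) hcA
    (fun a ha => hcent a (Subgroup.mem_inf.mp ha).1 u hus) hgc hz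

/-- A group invariant under `z` whose fixed part lies in the core lies in it. -/
theorem Gens.le_core (h : Gens S s) (P : Split z (Subgroup.centralizer s) O) {R : Subgroup G}
    (hR : Odd (Nat.card R)) (hRs : R ≤ Subgroup.centralizer s) (hn : ∀ g ∈ R, z * g * z⁻¹ ∈ R)
    (hf : ∀ g ∈ R, g * z = z * g → g ∈ O) : R ≤ O := by
  intro g hg
  obtain ⟨f, hfR, hfz, i, hiR, hiz, rfl⟩ := exists_fixed_mul_inverted hR S.H.zz hn hg
  exact O.mul_mem (hf f hfR hfz) (P.mem_of_inverted h.z_mem (hRs hiR) (odd_orderOf hR hiR) hiz)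

end Std

end CfsgLib.SpinCent
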