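import Cfsg.Agent.Lib.SpinCent.Isolated
import Cfsg.Agent.Lib.Coprime.Action

/-!
# The odd core of the centraliser of a lift of a three-cycle
-/

set_option autoImplicit false
set_option linter.unusedSectionVars false
set_option linter.style.haveILetI false

namespace CfsgLib.SpinCent

open Equiv Equiv.Perm

variable {G : Type*} [Group G] [Finite G] {n : ℕ} {z x : G}

/-- A group of odd order on which an involution fixes only the identity is abelian. -/
theorem comm_of_fixed_free {R : Subgroup G} {s : G} (hR : Odd (Nat.card R)) (hs : s * s = 1)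
    (hn : ∀ g ∈ R, s * g * s⁻¹ ∈ R) (hfix : ∀ g ∈ R, g * s = s * g → g = 1) :
    ∀ g ∈ R, ∀ h ∈ R, g * h = h * g := by
  have hcount := CfsgLib.SmallCent.card_fixed_mul_inverted hR hs hn
  have hbot : R ⊓ Subgroup.centralizer ({s} : Set G) = ⊥ := (Subgroup.eq_bot_iff_forall _).mpr fun g hg =>
    hfix g (Subgroup.mem_inf.mp hg).1 (Subgroup.mem_centralizer_singleton_iff.mp (Subgroup.mem_inf.mp hg).2)
  rw [hbot, Subgroup.card_bot, one_mul] at hcount
  have hall : ∀ g ∈ R, s * g * s⁻¹ = g⁻¹ := by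
    have hsub : CfsgLib.SmallCent.inverted R s ⊆ (R : Set G) := fun g hg => hg.1
    have heq := Set.eq_of_subset_of_ncard_le hsub (le_of_eq (by rw [← hcount, ← Nat.card_coe_set_eq]; rfl))
    exact fun g hg => (heq.symm.subset hg).2
  intro g hg h hh
  have e := hall _ (R.mul_mem hg hh)
  rw [show s * (g * h) * s⁻¹ = (s * g * s⁻¹) * (s * h * s⁻¹) by group, hall g hg, hall h hh, mul_inv_rev] at e
  have e2 := congrArg (fun t => t⁻¹) e
  simp only [mul_inv_rev, inv_inv] at e2
  exact e2.symm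

/-- An abelian group of three-power order in a double cover of the alternating group on at most ten points. -/
theorem Hyp.abelian_three_le (H : Hyp n z) (h9 : 9 ≤ n) (h10 : n ≤ 10) {A : Subgroup G}
    (hA : ∀ g ∈ A, g * z = z * g) (h3 : IsPGroup 3 A) (hcomm : ∀ g ∈ A, ∀ h ∈ A, g * h = h * g) :
    Nat.card A ≤ 27 := by
  haveI := Fact.mk Nat.prime_three
  let φ : A →* Perm (Fin n) :=
    { toFun := fun g => H.p g
      map_one' := H.p_one
      map_mul' := fun a b => H.p_mul (hA a a.2) (hA b b.2) }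
  obtain ⟨k, hk⟩ := IsPGroup.iff_card.mp h3
  have hinj : Function.Injective φ := (injective_iff_map_eq_one φ).mpr fun g hg => by
    rcases H.eq_or_of_p_eq_one (hA g g.2) hg with e | e
    · exact Subtype.ext e
    · exfalso
      have h := Subgroup.orderOf_dvd_natCard A g.2
      rw [e, H.ord, hk] at h
      have := Nat.prime_two.dvd_of_dvd_pow h
      norm_num at this
  have hR : Nat.card φ.range = 3 ^ k := by rw [← Nat.card_congr (MonoidHom.ofInjective hinj).toEquiv, hk]
  obtain ⟨P, hP⟩ := (IsPGroup.iff_card.mpr ⟨k, hR⟩ : IsPGroup 3 φ.range).exists_le_sylow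
  obtain ⟨j, hj⟩ := IsPGroup.iff_card.mp P.isPGroup'
  have hj4 : j ≤ 4 := by
    by_contra hh
    have h1 : 3 ^ 5 ∣ Nat.card (Perm (Fin n)) :=
      ((pow_dvd_pow 3 (by omega : 5 ≤ j)).trans (hj ▸ Subgroup.card_subgroup_dvd_card _))
    rw [Nat.card_perm, Nat.card_fin] at h1
    rcases (show n = 9 ∨ n = 10 by omega) with rfl | rfl <;> revert h1 <;> decide
  have hkj : k ≤ j := by
    have := Subgroup.card_le_of_le hP
    rw [hR, hj] at this
    exact (Nat.pow_le_pow_iff_right (by norm_num)).mp this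
  by_contra hlt
  have hk4 : k = 4 := by
    by_contra hne
    exact hlt (by rw [hk]; exact (Nat.pow_le_pow_right (by norm_num) (show k ≤ 3 by omega)).trans (by norm_num))
  have hPR : φ.range = (P : Subgroup _) := Subgroup.eq_of_le_of_card_ge hP (by
    rw [hR, hj]; exact Nat.pow_le_pow_right (by norm_num) (by omega))
  have hY : orderOf (emb h9 (permA * permB)) = 3 := by
    rw [orderOf_injective _ (emb_injective h9), orderOf_eq_prime_iff]; decide +kernel
  obtain ⟨P', hP'⟩ := (IsPGroup.iff_card.mpr ⟨1, by rw [Nat.card_zpowers, hY, pow_one]⟩ :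
    IsPGroup 3 (Subgroup.zpowers (emb h9 (permA * permB)))).exists_le_sylow
  obtain ⟨g, hg⟩ := MulAction.exists_smul_eq (Perm (Fin n)) P' P
  set Y := g * emb h9 (permA * permB) * g⁻¹ with hYd
  have hmem : Y ∈ φ.range := by
    rw [hPR, ← hg]
    exact Subgroup.smul_mem_pointwise_smul _ (MulAut.conj g) _ (hP' (Subgroup.mem_zpowers _))
  have hle : φ.range ≤ Subgroup.centralizer ({Y} : Set (Perm (Fin n))) := by
    rintro _ ⟨a, rfl⟩
    obtain ⟨b, hb⟩ := hmem
    rw [Subgroup.mem_centralizer_singleton_iff, ← hb, ← map_mul, ← map_mul]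
    exact congrArg φ (Subtype.ext (hcomm a a.2 b b.2))
  have hcard : Nat.card (Subgroup.centralizer ({Y} : Set (Perm (Fin n)))) = (n - 6).factorial * 18 := by
    rw [← card_cent_permY h9, Equiv.Perm.nat_card_centralizer, Equiv.Perm.nat_card_centralizer, hYd, cycleType_conj]
  have h81 := Subgroup.card_dvd_of_le hle
  rw [hR, hk4, hcard] at h81
  rcases (show n = 9 ∨ n = 10 by omega) with rfl | rfl <;> revert h81 <;> decide

theorem not_dvd_mul {a b : ℕ} (ha : a ≠ 0) (hb : b ≠ 0) (h1 : ¬ 3 ^ 4 ∣ a) (h2 : ¬ 3 ^ 4 ∣ b) :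
    ¬ 3 ^ 8 ∣ 3 * a * b := by
  rw [Nat.prime_three.pow_dvd_iff_le_factorization ha] at h1
  rw [Nat.prime_three.pow_dvd_iff_le_factorization hb] at h2
  rw [Nat.prime_three.pow_dvd_iff_le_factorization (by positivity), Nat.factorization_mul (by positivity) hb,
    Nat.factorization_mul (by norm_num) ha, Finsupp.add_apply, Finsupp.add_apply,
    Nat.Prime.factorization_self Nat.prime_three]
  omega

/-- A lift of a three-cycle and an involution inverting it. -/
structure Axis (S : Std n z x) (c v : G) : Prop where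
  comm : c * z = z * c
  cube : c ^ 3 = 1
  three : (S.H.p c).IsThreeCycle
  vz : v * z = z * v
  vv : v * v = 1
  v_ne : v ≠ 1
  vne : v ≠ z
  inverts : v * c * v⁻¹ = c⁻¹

namespace Axis

variable {S : Std n z x} {c v : G} {O : Subgroup G}

/-- In the core only the powers of `c` centralise `z`. -/
theorem fixed (A : Axis S c v) (P : Split z (Subgroup.centralizer ({c} : Set G)) O) {g : G} (hg : g ∈ O)
    (hgz : g * z = z * g) : g ∈ Subgroup.zpowers c := by
  classical
  set f := S.H.p c with hf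
  set D := O ⊓ Subgroup.centralizer ({z} : Set G)
  have hDz : ∀ a : D, (a : G) * z = z * (a : G) := fun a => mem_cent.mp (Subgroup.mem_inf.mp a.2).2
  have hDc : ∀ a : D, (a : G) * c = c * (a : G) := fun a =>
    Subgroup.mem_centralizer_singleton_iff.mp (P.le (Subgroup.mem_inf.mp a.2).1)
  have hcom : ∀ a : D, S.H.p a * f = f * S.H.p a := fun a => by
    rw [hf, ← S.H.p_mul (hDz a) A.comm, ← S.H.p_mul A.comm (hDz a), hDc a]
  have hoff : ∀ (a : D) (q : Fin n), f (S.H.p a q) = S.H.p a q ↔ f q = q := fun a q => by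
    rw [← Perm.mul_apply, ← hcom a, Perm.mul_apply, (S.H.p a).injective.eq_iff]
  let ρ : D →* Perm {q : Fin n // f q = q} :=
    { toFun := fun a => (S.H.p a).subtypePerm (hoff a)
      map_one' := Equiv.ext fun q => Subtype.ext (by simp [S.H.p_one])
      map_mul' := fun a b => Equiv.ext fun q => Subtype.ext (by
        show S.H.p (a.1 * b.1) q.1 = S.H.p a (S.H.p b q.1)
        rw [S.H.p_mul (hDz a) (hDz b), Perm.mul_apply]) }
  have hDodd : Odd (Nat.card D) := P.odd.of_dvd_nat (Subgroup.card_dvd_of_le inf_le_left)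
  have hRodd : Odd (Nat.card ρ.range) := hDodd.of_dvd_nat (Subgroup.card_range_dvd ρ)
  have hRA : ρ.range ≤ alternatingGroup {q : Fin n // f q = q} := by
    intro s hs
    rw [mem_alternatingGroup]
    have h1 := Subgroup.orderOf_dvd_natCard _ hs
    have h2 : Odd (orderOf s) := hRodd.of_dvd_nat h1
    have h3 : sign s ^ orderOf s = 1 := by rw [← map_pow, pow_orderOf_eq_one, map_one]
    rcases Int.units_eq_one_or (sign s) with e | e
    · exact e
    · rw [e, h2.neg_one_pow] at h3; exact absurd h3 (by decide)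
  have hnorm : ∀ α ∈ alternatingGroup {q : Fin n // f q = q}, ∀ s ∈ ρ.range, α * s * α⁻¹ ∈ ρ.range := by
    rintro α hα _ ⟨a, rfl⟩
    obtain ⟨h, hh, ph⟩ := S.H.exists_lift (s := ofSubtype α)
      (by rw [mem_alternatingGroup, sign_ofSubtype]; exact mem_alternatingGroup.mp hα)
    have hhc : h * c = c * h := by
      refine (S.H.commute_of_odd A.comm hh (by decide : Odd 3) A.cube ?_).symm
      rw [ph]
      refine Equiv.Perm.Disjoint.commute fun q => ?_
      by_cases hq : f q = q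
      · exact Or.inl hq
      · exact Or.inr (ofSubtype_apply_of_not_mem α hq)
    have hmem : h * (a : G) * h⁻¹ ∈ D := Subgroup.mem_inf.mpr
      ⟨(Subgroup.mem_normalizer_iff.mp (P.stable h (Subgroup.le_normalizer
        (Subgroup.mem_centralizer_singleton_iff.mpr hhc))) _).mp (Subgroup.mem_inf.mp a.2).1,
        mem_cent.mpr (Hyp.comm_mul (Hyp.comm_mul hh (hDz a)) (Hyp.comm_inv hh))⟩
    refine ⟨⟨_, hmem⟩, Equiv.ext fun q => Subtype.ext ?_⟩
    show S.H.p (h * (a : G) * h⁻¹) q.1 = _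
    rw [S.H.p_mul (Hyp.comm_mul hh (hDz a)) (Hyp.comm_inv hh), S.H.p_mul hh (hDz a), S.H.p_inv hh, ph,
      ← map_inv, Perm.mul_apply, Perm.mul_apply]
    exact (congrArg (fun t => ofSubtype α (S.H.p a t))
        (ofSubtype_apply_of_mem (p := fun q : Fin n => f q = q) α⁻¹ q.2)).trans
      (ofSubtype_apply_of_mem (p := fun q : Fin n => f q = q) α ((hoff a _).mpr ((α⁻¹ : Perm {q : Fin n // f q = q}) ⟨q.1, q.2⟩).2))
  have hcard5 : 5 ≤ Nat.card {q : Fin n // f q = q} := by
    have h1 : Fintype.card {q : Fin n // ¬ f q = q} = 3 := by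
      rw [← A.three.card_support, Fintype.card_subtype]; rfl
    have h2 := Fintype.card_subtype_compl (fun q : Fin n => f q = q)
    rw [h1, Fintype.card_fin] at h2
    have h4 := Fintype.card_subtype_le (fun q : Fin n => f q = q)
    rw [Fintype.card_fin] at h4
    have := S.h9
    rw [Nat.card_eq_fintype_card]
    omega
  haveI := alternatingGroup.isSimpleGroup hcard5
  have hN : (ρ.range.subgroupOf (alternatingGroup {q : Fin n // f q = q})).Normal :=
    ⟨fun s hs α => hnorm α α.2 s hs⟩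
  have hbot : ρ.range = ⊥ := by
    rcases hN.eq_bot_or_eq_top with e | e
    · rw [eq_bot_iff]
      intro s hs
      have : (⟨s, hRA hs⟩ : alternatingGroup {q : Fin n // f q = q}) ∈
          ρ.range.subgroupOf (alternatingGroup {q : Fin n // f q = q}) := hs
      rw [e, Subgroup.mem_bot] at this
      exact congrArg Subtype.val this
    · exfalso
      have hle := Subgroup.subgroupOf_eq_top.mp e
      have heq := le_antisymm hRA hle
      rw [heq] at hRodd
      haveI : Nontrivial {q : Fin n // f q = q} :=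
        Finite.one_lt_card_iff_nontrivial.mp (by omega)
      have h3 : 2 ∣ Nat.card (alternatingGroup {q : Fin n // f q = q}) := by
        rw [nat_card_alternatingGroup]
        obtain ⟨m, hm⟩ := Nat.exists_eq_add_of_le hcard5
        rw [hm, show 5 + m = m + 5 by ring]
        have : 4 ∣ (m + 5).factorial := (Nat.dvd_factorial (by norm_num) (by omega))
        omega
      exact Nat.not_even_iff_odd.mpr hRodd (even_iff_two_dvd.mpr h3)
  have hgD : g ∈ D := Subgroup.mem_inf.mpr ⟨hg, mem_cent.mpr hgz⟩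
  have hfixoff : ∀ q, f q = q → S.H.p g q = q := fun q hq => by
    have : ρ ⟨g, hgD⟩ = 1 := Subgroup.mem_bot.mp (hbot ▸ ⟨⟨g, hgD⟩, rfl⟩)
    exact congrArg Subtype.val (Equiv.ext_iff.mp this ⟨q, hq⟩)
  -- on the three moved points a power of the cycle
  have hcyc := A.three.isCycle
  obtain ⟨a, ha, -⟩ := hcyc
  have hga : f (S.H.p g a) ≠ S.H.p g a := fun e => ha ((hoff ⟨g, hgD⟩ a).mp e)
  obtain ⟨i, hi⟩ := A.three.isCycle.exists_pow_eq ha hga
  have hpe : S.H.p g = f ^ i := Equiv.ext fun q => by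
    by_cases hq : f q = q
    · rw [hfixoff q hq]
      exact (Perm.pow_apply_eq_self_of_apply_eq_self hq i).symm
    · obtain ⟨j, hj⟩ := A.three.isCycle.exists_pow_eq ha hq
      rw [← hj, ← Perm.mul_apply, ((show Commute (S.H.p g) f from hcom ⟨g, hgD⟩).pow_right j).eq, Perm.mul_apply,
        ← hi, ← Perm.mul_apply, ← Perm.mul_apply, ← pow_add, ← pow_add, add_comm]
  rw [hf, ← S.H.p_pow A.comm i] at hpe
  rcases S.H.eq_or_of_p_eq hgz (Hyp.comm_pow A.comm i) hpe with e | e
  · rw [e]; exact Subgroup.npow_mem_zpowers c i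
  · exfalso
    obtain ⟨l, hl⟩ := P.odd
    have h1 : (c ^ i * z) ^ Nat.card O = 1 :=
      orderOf_dvd_iff_pow_eq_one.mp (Subgroup.orderOf_dvd_natCard O (e ▸ hg))
    rw [(show Commute (c ^ i) z from Hyp.comm_pow A.comm i).mul_pow, hl, pow_succ z, pow_mul z, pow_two, S.H.zz,
      one_pow, one_mul] at h1
    have h2 := congrArg (fun t => t ^ 3) h1
    simp only [one_pow] at h2
    rw [(show Commute ((c ^ i) ^ (2 * l + 1)) z from Hyp.comm_pow (Hyp.comm_pow A.comm i) _).mul_pow,
      ← pow_mul, ← pow_mul, show i * ((2 * l + 1) * 3) = 3 * (i * (2 * l + 1)) by ring, pow_mul c, A.cube, one_pow, one_mul, pow_succ, pow_two, S.H.zz,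
      one_mul] at h2
    exact S.H.z_ne h2

theorem c_mem (A : Axis S c v) (P : Split z (Subgroup.centralizer ({c} : Set G)) O) : c ∈ O := by
  refine P.absorb (Subgroup.zpowers c) ?_ ?_ ?_ (Subgroup.mem_zpowers c)
  · rw [Subgroup.zpowers_le]; exact Subgroup.mem_centralizer_singleton_iff.mpr rfl
  · rw [Nat.card_zpowers]
    exact (show Odd 3 by decide).of_dvd_nat (orderOf_dvd_of_pow_eq_one A.cube)
  · intro k hk _ b hb
    obtain ⟨i, rfl⟩ := Subgroup.mem_zpowers_iff.mp hb
    rw [mul_inv_eq_iff_eq_mul.mpr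
      ((show Commute k c from Subgroup.mem_centralizer_singleton_iff.mp hk).zpow_right i).eq]
    exact hb

theorem z_norm (A : Axis S c v) (P : Split z (Subgroup.centralizer ({c} : Set G)) O) {g : G} (hg : g ∈ O) :
    z * g * z⁻¹ ∈ O :=
  (Subgroup.mem_normalizer_iff.mp (P.stable z (Subgroup.le_normalizer
    (Subgroup.mem_centralizer_singleton_iff.mpr A.comm.symm))) g).mp hg

/-- Commutators in the core are powers of `c`. -/
theorem commutator_mem (A : Axis S c v) (P : Split z (Subgroup.centralizer ({c} : Set G)) O) {a b : G}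
    (ha : a ∈ O) (hb : b ∈ O) : a * b * (b * a)⁻¹ ∈ Subgroup.zpowers c := by
  classical
  set I := CfsgLib.SmallCent.inverted O z
  have hcz : ∀ f ∈ Subgroup.zpowers c, z * f * z⁻¹ = f ∧ (∀ g ∈ O, f * g = g * f) ∧ f ∈ O := by
    intro f hf
    obtain ⟨i, rfl⟩ := Subgroup.mem_zpowers_iff.mp hf
    refine ⟨mul_inv_eq_iff_eq_mul.mpr ((show Commute z c from A.comm.symm).zpow_right i).eq,
      fun g hg => (((show Commute g c from Subgroup.mem_centralizer_singleton_iff.mp (P.le hg))).zpow_right i).eq.symm,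
      O.zpow_mem (A.c_mem P) i⟩
  have dec : ∀ g ∈ O, ∃ f ∈ Subgroup.zpowers c, ∃ i ∈ I, g = f * i := by
    let μ : (↥(Subgroup.zpowers c) × I) → O := fun t => ⟨t.1.1 * t.2.1, O.mul_mem (hcz _ t.1.2).2.2 t.2.2.1⟩
    have hμ : Function.Injective μ := by
      rintro ⟨⟨f, hf⟩, ⟨i, hi⟩⟩ ⟨⟨f', hf'⟩, ⟨i', hi'⟩⟩ e
      have e1 : f * i = f' * i' := congrArg Subtype.val e
      have e2 : f * i⁻¹ = f' * i'⁻¹ := by
        have := congrArg (fun g => z * g * z⁻¹) e1
        rw [show z * (f * i) * z⁻¹ = (z * f * z⁻¹) * (z * i * z⁻¹) by group, (hcz f hf).1, hi.2,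
          show z * (f' * i') * z⁻¹ = (z * f' * z⁻¹) * (z * i' * z⁻¹) by group, (hcz f' hf').1, hi'.2] at this
        exact this
      have e3 : i * i = i' * i' := by
        have h := congrArg (fun g => (f * i⁻¹)⁻¹ * g) e1
        rw [show (f * i⁻¹)⁻¹ * (f * i) = i * i by group, e2,
          show (f' * i'⁻¹)⁻¹ * (f' * i') = i' * i' by group] at h
        exact h
      obtain ⟨k, hk⟩ := CfsgLib.SmallCent.odd_half P.odd
      have e4 : i = i' := by rw [← (hk i hi.1).2, e3, (hk i' hi'.1).2]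
      subst e4
      obtain rfl : f = f' := mul_right_cancel e1
      rfl
    have hcard := CfsgLib.SmallCent.card_fixed_mul_inverted P.odd S.H.zz (fun g hg => A.z_norm P hg)
    have heq : O ⊓ Subgroup.centralizer ({z} : Set G) = Subgroup.zpowers c := by
      refine le_antisymm (fun g hg => A.fixed P (Subgroup.mem_inf.mp hg).1 (mem_cent.mp (Subgroup.mem_inf.mp hg).2)) ?_
      rw [Subgroup.zpowers_le]
      exact Subgroup.mem_inf.mpr ⟨A.c_mem P, mem_cent.mpr A.comm⟩
    rw [heq] at hcard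
    have hbij : Function.Bijective μ := (Function.Injective.bijective_of_nat_card_le hμ (by
      rw [Nat.card_prod, hcard, Nat.card_coe_set_eq]))
    intro g hg
    obtain ⟨⟨⟨f, hf⟩, ⟨i, hi⟩⟩, e⟩ := hbij.2 ⟨g, hg⟩
    exact ⟨f, hf, i, hi, (congrArg Subtype.val e).symm⟩
  obtain ⟨f, hf, i, hi, rfl⟩ := dec a ha
  obtain ⟨f', hf', j, hj, rfl⟩ := dec b hb
  obtain ⟨e, he, k, hk, hij⟩ := dec (i * j) (O.mul_mem hi.1 hj.1)
  have h1 : i⁻¹ * j⁻¹ = e * k⁻¹ := by
    have := congrArg (fun g => z * g * z⁻¹) hij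
    rw [show z * (i * j) * z⁻¹ = (z * i * z⁻¹) * (z * j * z⁻¹) by group, hi.2, hj.2,
      show z * (e * k) * z⁻¹ = (z * e * z⁻¹) * (z * k * z⁻¹) by group, (hcz e he).1, hk.2] at this
    exact this
  have h2 : (j * i)⁻¹ = e * k⁻¹ := by rw [mul_inv_rev]; exact h1
  have c1 := (hcz f hf).2.1
  have c2 := (hcz f' hf').2.1
  have hab : f * i * (f' * j) * (f' * j * (f * i))⁻¹ = i * j * (j * i)⁻¹ := by
    have e1 : f * i * (f' * j) = f * f' * (i * j) := by
      rw [mul_assoc f i, ← mul_assoc i, ← c2 i hi.1, mul_assoc f' i, ← mul_assoc f]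
    have e2 : f' * j * (f * i) = f * f' * (j * i) := by
      rw [mul_assoc f' j, ← mul_assoc j, ← c1 j hj.1, mul_assoc f j, ← mul_assoc f', c2 f (hcz f hf).2.2]
    rw [e1, e2]
    have hc3 : ∀ g ∈ O, f * f' * g = g * (f * f') := fun g hg => by
      rw [mul_assoc, c2 g hg, ← mul_assoc, c1 g hg, mul_assoc]
    rw [hc3 _ (O.mul_mem hi.1 hj.1), hc3 _ (O.mul_mem hj.1 hi.1)]
    group
  rw [hab, hij, h2]
  have ce : k * e = e * k := ((hcz e he).2.1 k hk.1).symm
  rw [show e * k * (e * k⁻¹) = e * (k * e) * k⁻¹ by group, ce, show e * (e * k) * k⁻¹ = e * e by group]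
  exact Subgroup.mul_mem _ he he

/-- The three-part of the core. -/
theorem not_dvd (A : Axis S c v) (P : Split z (Subgroup.centralizer ({c} : Set G)) O) : ¬ 3 ^ 8 ∣ Nat.card O := by
  haveI := Fact.mk Nat.prime_three
  have hconj : ∀ w : G, w * z = z * w → w * w = 1 → w ≠ 1 → w ≠ z → IsConj z w := fun w h1 h2 h3 h4 => by
    obtain ⟨k, -, hk⟩ := S.fused w h1 h2 h3 h4
    exact S.conj.trans (isConj_iff.mpr ⟨k, hk⟩)
  have hnorm : ∀ w : G, w * c * w⁻¹ = c⁻¹ → ∀ g ∈ O, w * g * w⁻¹ ∈ O := by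
    intro w hw g hg
    have hw' : w⁻¹ * c * w = c⁻¹ := by
      calc w⁻¹ * c * w = w⁻¹ * (w * c * w⁻¹)⁻¹ * w := by rw [hw, inv_inv]
        _ = c⁻¹ := by group
    refine (Subgroup.mem_normalizer_iff.mp (P.stable w (mem_normalizer_centralizer ?_ ?_)) g).mp hg
    · intro u hu
      rw [Set.mem_singleton_iff.mp hu, hw]
      exact inv_mem (Subgroup.subset_closure rfl)
    · intro u hu
      rw [Set.mem_singleton_iff.mp hu, hw']
      exact inv_mem (Subgroup.subset_closure rfl)
  have hvc : (v * z) * c * (v * z)⁻¹ = c⁻¹ := by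
    rw [show v * z * c * (v * z)⁻¹ = v * (z * c * z⁻¹) * v⁻¹ by group, mul_inv_eq_iff_eq_mul.mpr A.comm.symm, A.inverts]
  have hcc : ∀ w : G, w * c * w⁻¹ = c⁻¹ → ∀ g ∈ Subgroup.zpowers c, g * w = w * g → g = 1 := by
    intro w hw g hg hgw
    obtain ⟨i, rfl⟩ := Subgroup.mem_zpowers_iff.mp hg
    have h1 : w * c ^ i * w⁻¹ = (c ^ i)⁻¹ := by rw [← MulAut.conj_apply, map_zpow, MulAut.conj_apply, hw, inv_zpow]
    rw [mul_inv_eq_iff_eq_mul.mpr hgw.symm] at h1
    have h2 : (c ^ i) ^ 2 = 1 := by rw [pow_two]; exact mul_eq_one_iff_eq_inv.mpr h1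
    have h3 : (c ^ i) ^ 3 = 1 := by rw [← zpow_natCast, ← zpow_mul, mul_comm, zpow_mul, zpow_natCast, A.cube, one_zpow]
    rw [pow_succ, h2, one_mul] at h3
    exact h3
  have hsmall : ∀ w : G, w * z = z * w → w * w = 1 → w ≠ 1 → w ≠ z → w * c * w⁻¹ = c⁻¹ →
      ¬ 3 ^ 4 ∣ Nat.card ↥(O ⊓ Subgroup.centralizer ({w} : Set G)) := by
    intro w wz ww w1 wne hw hd
    set R := O ⊓ Subgroup.centralizer ({w} : Set G)
    have hcomm := comm_of_fixed_free (R := R) (P.odd.of_dvd_nat (Subgroup.card_dvd_of_le inf_le_left)) S.H.zz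
      (fun g hg => Subgroup.mem_inf.mpr ⟨A.z_norm P (Subgroup.mem_inf.mp hg).1, mem_cent.mpr (by
        have h := mem_cent.mp (Subgroup.mem_inf.mp hg).2
        calc z * g * z⁻¹ * w = z * g * (z⁻¹ * w) := by group
          _ = z * g * (w * z⁻¹) := by rw [← (show Commute w z from wz).inv_right.eq]
          _ = z * (g * w) * z⁻¹ := by group
          _ = (z * w) * g * z⁻¹ := by rw [h]; group
          _ = _ := by rw [← wz]; group)⟩)
      (fun g hg hgz => hcc w hw g (A.fixed P (Subgroup.mem_inf.mp hg).1 hgz) (mem_cent.mp (Subgroup.mem_inf.mp hg).2))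
    obtain ⟨T, hT⟩ := Sylow.exists_subgroup_card_pow_prime 3 (n := 4) (G := ↥R) hd
    obtain ⟨k, hk⟩ := isConj_iff.mp (hconj w wz ww w1 wne)
    obtain ⟨K⟩ := S.H.conj k
    have h := K.abelian_three_le S.h9 S.h10 (A := T.map R.subtype) (by
      rintro _ ⟨g, -, rfl⟩
      rw [hk]
      exact mem_cent.mp (Subgroup.mem_inf.mp g.2).2) (IsPGroup.iff_card.mpr ⟨4, by
        rw [Subgroup.card_map_of_injective R.subtype_injective, hT]⟩)
      (by rintro _ ⟨g, -, rfl⟩ _ ⟨g', -, rfl⟩; exact hcomm g g.2 g' g'.2)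
    rw [Subgroup.card_map_of_injective R.subtype_injective, hT] at h
    norm_num at h
  have hz : z * z = 1 := S.H.zz
  have hfp := CfsgLib.SmallCent.four_product (R := O) P.odd hz A.vv (show Commute z v from A.vz.symm)
    (fun g hg => A.z_norm P hg) (hnorm v A.inverts)
  have heq : O ⊓ Subgroup.centralizer ({z} : Set G) = Subgroup.zpowers c := by
    refine le_antisymm (fun g hg => A.fixed P (Subgroup.mem_inf.mp hg).1 (mem_cent.mp (Subgroup.mem_inf.mp hg).2)) ?_
    rw [Subgroup.zpowers_le]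
    exact Subgroup.mem_inf.mpr ⟨A.c_mem P, mem_cent.mpr A.comm⟩
  have hbot : O ⊓ Subgroup.centralizer ({z, v} : Set G) = ⊥ := (Subgroup.eq_bot_iff_forall _).mpr fun g hg => by
    obtain ⟨hgO, hgc⟩ := Subgroup.mem_inf.mp hg
    rw [Subgroup.mem_centralizer_iff] at hgc
    exact hcc v A.inverts g (A.fixed P hgO (hgc z (Or.inl rfl)).symm) (hgc v (Or.inr rfl)).symm
  have hc3 : orderOf c = 3 := orderOf_eq_prime A.cube fun e => by
    have h := A.three.orderOf
    rw [e, S.H.p_one, orderOf_one] at h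
    norm_num at h
  rw [heq, hbot, Subgroup.card_bot, one_pow, mul_one, Nat.card_zpowers, hc3] at hfp
  rw [hfp]
  have hz' : z * v = v * z := A.vz.symm
  refine not_dvd_mul Nat.card_pos.ne' Nat.card_pos.ne' (hsmall v A.vz A.vv A.v_ne A.vne A.inverts) ?_
  rw [hz']
  refine hsmall (v * z) (Hyp.comm_mul A.vz rfl) ?_ ?_ ?_ hvc
  · calc v * z * (v * z) = v * (z * v) * z := by group
      _ = v * v * (z * z) := by rw [← A.vz]; group
      _ = 1 := by rw [A.vv, hz, mul_one]
  · intro e
    exact A.vne (by rw [eq_inv_of_mul_eq_one_left e, inv_eq_of_mul_eq_one_right hz])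
  · intro e
    exact A.v_ne (mul_eq_right.mp e)

/-- No large three-group in the core commutes with an element that generates `z` with a conjugate. -/
theorem big (A : Axis S c v) (P : Split z (Subgroup.centralizer ({c} : Set G)) O) {A0 : Subgroup G}
    (hle : A0 ≤ O) (h3 : IsPGroup 3 A0) (hd : 3 ^ 5 ∣ Nat.card A0) (hc : c ∈ A0) {u g : G}
    (hu : ∀ a ∈ A0, a * u = u * a) (hgc : g * c = c * g)
    (hz : z ∈ Subgroup.closure ({u, g * u * g⁻¹} : Set G)) : False := by
  haveI := Fact.mk Nat.prime_three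
  set B0 := A0.map (MulAut.conj g).toMonoidHom with hB0
  have hgO := Subgroup.mem_normalizer_iff.mp (P.stable g (Subgroup.le_normalizer
    (Subgroup.mem_centralizer_singleton_iff.mpr hgc)))
  have hBle : B0 ≤ O := by
    rintro _ ⟨a, ha, rfl⟩
    exact (hgO a).mp (hle ha)
  have hB3 : IsPGroup 3 B0 := h3.map _
  have hcard : Nat.card B0 = Nat.card A0 := Subgroup.card_map_of_injective (MulAut.conj g).injective
  have hnormal : O ≤ Subgroup.normalizer (A0 : Set G) := by
    intro o ho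
    have key : ∀ o ∈ O, ∀ a ∈ A0, o * a * o⁻¹ ∈ A0 := fun o ho a ha => by
      rw [show o * a * o⁻¹ = o * a * (a * o)⁻¹ * a by group]
      exact A0.mul_mem (Subgroup.zpowers_le.mpr hc (A.commutator_mem P ho (hle ha))) ha
    refine Subgroup.mem_normalizer_iff.mpr fun a => ⟨key o ho a, fun h => ?_⟩
    have := key o⁻¹ (inv_mem ho) _ h
    rwa [inv_inv, show o⁻¹ * (o * a * o⁻¹) * o = a by group] at this
  have hBn : B0 ≤ Subgroup.normalizer (A0 : Set G) := hBle.trans hnormal
  have hprod := CfsgLib.Coprime.card_sup_mul_card_inf (K := A0) (S := B0) hBn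
  have hsup3 : IsPGroup 3 (A0 ⊔ B0 : Subgroup G) := by
    rw [sup_comm]; exact IsPGroup.to_sup_of_normal_right' hB3 h3 hBn
  have hinf : A0 ⊓ B0 ≤ Subgroup.zpowers c := by
    intro a ha
    obtain ⟨ha1, b, hb, hab⟩ := Subgroup.mem_inf.mp ha
    refine A.fixed P (hle ha1) ?_
    have hcl : ∀ w ∈ Subgroup.closure ({u, g * u * g⁻¹} : Set G), a * w = w * a := by
      intro w hw
      have : Subgroup.closure ({u, g * u * g⁻¹} : Set G) ≤ Subgroup.centralizer ({a} : Set G) := by
        rw [Subgroup.closure_le]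
        rintro w (rfl | rfl)
        · exact Subgroup.mem_centralizer_singleton_iff.mpr (hu a ha1).symm
        · refine Subgroup.mem_centralizer_singleton_iff.mpr ?_
          rw [← hab]
          show g * u * g⁻¹ * (g * b * g⁻¹) = g * b * g⁻¹ * (g * u * g⁻¹)
          calc g * u * g⁻¹ * (g * b * g⁻¹) = g * (u * b) * g⁻¹ := by group
            _ = g * (b * u) * g⁻¹ := by rw [hu b hb]
            _ = _ := by group
      exact (Subgroup.mem_centralizer_singleton_iff.mp (this hw)).symm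
    exact hcl z hz
  have hc3 : orderOf c ∣ 3 := orderOf_dvd_of_pow_eq_one A.cube
  have hi : Nat.card ↥(A0 ⊓ B0) ∣ 3 := (Subgroup.card_dvd_of_le hinf).trans (by rw [Nat.card_zpowers]; exact hc3)
  have hbig : 3 ^ 9 ∣ Nat.card ↥(A0 ⊔ B0) := by
    have h1 : 3 ^ 10 ∣ Nat.card ↥(A0 ⊔ B0) * Nat.card ↥(A0 ⊓ B0) := by
      rw [hprod, hcard, show (10 : ℕ) = 5 + 5 from rfl, pow_add]
      exact Nat.mul_dvd_mul hd hd
    have h2 : 3 ^ 10 ∣ Nat.card ↥(A0 ⊔ B0) * 3 := h1.trans (Nat.mul_dvd_mul_left _ hi)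
    rw [pow_succ] at h2
    exact Nat.dvd_of_mul_dvd_mul_right (by norm_num) h2
  exact A.not_dvd P ((pow_dvd_pow 3 (by norm_num)).trans (hbig.trans (Subgroup.card_dvd_of_le (sup_le hle hBle))))

end Axis

end CfsgLib.SpinCent
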