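import Cfsg.Agent.Lib.SmallCent.FourFixed
import Cfsg.Agent.Lib.DoublyPrim.Basic

/-!
# The orders left by the order equation do not occur
-/

set_option autoImplicit false
set_option linter.unusedSectionVars false
set_option linter.style.haveILetI false

namespace CfsgLib.SpinCent

variable {Q : Type*} [Group Q] [Finite Q] {z : Q} {c : ℕ}

/-- What is used of the group. -/
structure KillHyp (z : Q) (c : ℕ) : Prop where
  c3 : c = 36 ∨ c = 144
  cardC : Nat.card ↥(Subgroup.centralizer ({z} : Set Q)) = c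
  fused : ∀ u : Q, orderOf u = 2 → IsConj z u
  three : ∀ t g : Q, orderOf t = 3 → g * t = t * g → orderOf g ∣ c
  cube : ∀ g : Q, g ^ 9 = 1 → g ^ 3 = 1
  four : c = 36 → ∀ g : Q, g ^ 4 = 1 → g ^ 2 = 1

variable (h : KillHyp z c)

include h in
theorem KillHyp.two {u g : Q} (hu : orderOf u = 2) (hg : g * u = u * g) : orderOf g ∣ c := by
  obtain ⟨k, rfl⟩ := isConj_iff.mp (h.fused u hu)
  have hm : k⁻¹ * g * k ∈ Subgroup.centralizer ({z} : Set Q) := by
    rw [Subgroup.mem_centralizer_singleton_iff]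
    calc k⁻¹ * g * k * z = k⁻¹ * (g * (k * z * k⁻¹)) * k := by group
      _ = k⁻¹ * ((k * z * k⁻¹) * g) * k := by rw [hg]
      _ = _ := by group
  have := Subgroup.orderOf_dvd_natCard _ hm
  rw [h.cardC] at this
  have e : orderOf (k⁻¹ * g * k) = orderOf g := by
    have := MulEquiv.orderOf_eq (MulAut.conj k⁻¹) g
    rwa [MulAut.conj_apply, inv_inv] at this
  rwa [e] at this

/-- A normalising element of order `r` centralises when `r` does not divide the automorphisms. -/
theorem centralizes {P : Subgroup Q} {p : ℕ} (hp : p.Prime) (hP : Nat.card P = p) {r : ℕ} (hr : r.Prime)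
    (hrp : ¬ r ∣ p - 1) {g : Q} (hg : orderOf g = r) (hgN : g ∈ Subgroup.normalizer (P : Set Q))
    {w : Q} (hw : w ∈ P) : g * w = w * g := by
  haveI := Fact.mk hp
  haveI : IsCyclic P := isCyclic_of_prime_card hP
  let φ := Subgroup.normalizerMonoidHom P
  have h1 : orderOf (φ ⟨g, hgN⟩) ∣ r := by
    have := orderOf_map_dvd φ ⟨g, hgN⟩
    rwa [Subgroup.orderOf_mk, hg] at this
  have h2 : orderOf (φ ⟨g, hgN⟩) ∣ p - 1 := by
    have := orderOf_dvd_natCard (φ ⟨g, hgN⟩)
    rwa [IsCyclic.card_mulAut, hP, Nat.totient_prime hp] at this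
  rcases (Nat.dvd_prime hr).mp h1 with e | e
  · have := DFunLike.congr_fun (orderOf_eq_one_iff.mp e) ⟨w, hw⟩
    exact mul_inv_eq_iff_eq_mul.mp (congrArg Subtype.val this : g * w * g⁻¹ = w)
  · exact absurd (e ▸ h2) hrp

theorem card_sylow_of_dvd {q : ℕ} [Fact q.Prime] (hq : q ∣ Nat.card Q) (hq2 : ¬ q ^ 2 ∣ Nat.card Q)
    (P : Sylow q Q) : Nat.card P = q := by
  obtain ⟨k, hk⟩ := IsPGroup.iff_card.mp P.isPGroup'
  have h1 : q ^ 1 ∣ Nat.card P := Sylow.pow_dvd_card_of_pow_dvd_card P (by rwa [pow_one])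
  have h2 : ¬ 2 ≤ k := fun h' => hq2 ((pow_dvd_pow q h').trans (hk ▸ Subgroup.card_subgroup_dvd_card _))
  have : k ≠ 0 := by
    rintro rfl
    rw [hk, pow_zero, pow_one] at h1
    exact (Fact.out : q.Prime).one_lt.ne' (Nat.dvd_one.mp h1)
  rw [hk, show k = 1 by omega, pow_one]

theorem sylow_count {q : ℕ} [Fact q.Prime] (P : Sylow q Q) {m : ℕ} (hm : Nat.card Q = q * m)
    (hP : Nat.card P = q) :
    Nat.card (Sylow q Q) ∣ m ∧ Nat.card (Sylow q Q) % q = 1 ∧
      Nat.card ↥(Subgroup.normalizer ((P : Subgroup Q) : Set Q)) * Nat.card (Sylow q Q) = Nat.card Q := by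
  refine ⟨?_, ?_, ?_⟩
  · have h1 := P.card_dvd_index
    have h2 := (P : Subgroup Q).card_mul_index
    rw [hP, hm] at h2
    rwa [Nat.eq_of_mul_eq_mul_left (Fact.out : q.Prime).pos h2] at h1
  · have := card_sylow_modEq_one q Q
    rwa [Nat.ModEq, Nat.mod_eq_of_lt (Fact.out : q.Prime).one_lt] at this
  · rw [P.card_eq_index_normalizer]
    exact Subgroup.card_mul_index _

include h in
/-- A normaliser of a large Sylow subgroup of prime order has order prime to nine. -/
theorem KillHyp.no_nine {q : ℕ} [Fact q.Prime] (hqc : ¬ q ∣ c) {P : Subgroup Q} (hP : Nat.card P = q) :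
    ¬ 9 ∣ Nat.card ↥(Subgroup.normalizer (P : Set Q)) := by
  intro h9
  haveI := Fact.mk Nat.prime_three
  obtain ⟨T, hT⟩ := Sylow.exists_subgroup_card_pow_prime 3 (n := 2)
    (G := ↥(Subgroup.normalizer (P : Set Q))) (by simpa using h9)
  haveI : IsCyclic P := isCyclic_of_prime_card hP
  let φ := (Subgroup.normalizerMonoidHom P).comp T.subtype
  haveI : IsCyclic (MulAut P) := by
    have e := IsCyclic.mulAutMulEquiv P
    rw [hP] at e
    exact isCyclic_of_surjective e.symm.toMonoidHom (MulEquiv.surjective _)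
  by_cases hinj : Function.Injective φ
  · haveI : IsCyclic T := isCyclic_of_injective φ hinj
    obtain ⟨g, hg⟩ := IsCyclic.exists_ofOrder_eq_natCard (α := T)
    rw [hT] at hg
    have h3 : g ^ 3 = 1 := Subtype.ext (Subtype.ext (by
      simpa using h.cube ((g : ↥(Subgroup.normalizer (P : Set Q))) : Q) (by
        have := congrArg (fun t : T => ((t : ↥(Subgroup.normalizer (P : Set Q))) : Q))
          (show g ^ 9 = 1 by rw [show (9 : ℕ) = 3 ^ 2 from rfl, ← hg, pow_orderOf_eq_one])
        simpa using this)))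
    have := Nat.le_of_dvd (by norm_num) (orderOf_dvd_of_pow_eq_one h3)
    rw [hg] at this
    norm_num at this
  · obtain ⟨t, ht, ht1⟩ : ∃ t : T, φ t = 1 ∧ t ≠ 1 := by
      by_contra hno
      push Not at hno
      exact hinj ((injective_iff_map_eq_one φ).mpr hno)
    obtain ⟨t, ht, ht3⟩ : ∃ t : T, φ t = 1 ∧ orderOf t = 3 := by
      have hd : orderOf t ∣ 3 ^ 2 := hT ▸ orderOf_dvd_natCard t
      obtain ⟨j, hj, e⟩ := (Nat.dvd_prime_pow Nat.prime_three).mp hd
      interval_cases j
      · exact absurd (orderOf_eq_one_iff.mp (by simpa using e)) ht1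
      · exact ⟨t, ht, by simpa using e⟩
      · exact ⟨t ^ 3, by rw [map_pow, ht, one_pow], by
          rw [orderOf_pow_of_dvd (by norm_num) (by rw [e]; norm_num), e]; norm_num⟩
    obtain ⟨w, hw⟩ := exists_prime_orderOf_dvd_card' q (show q ∣ Nat.card P by rw [hP])
    have hc : (w : Q) * ((t : ↥(Subgroup.normalizer (P : Set Q))) : Q) =
        ((t : ↥(Subgroup.normalizer (P : Set Q))) : Q) * (w : Q) := by
      have := DFunLike.congr_fun ht w
      exact (mul_inv_eq_iff_eq_mul.mp (congrArg Subtype.val this :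
        ((t : ↥(Subgroup.normalizer (P : Set Q))) : Q) * (w : Q) *
          ((t : ↥(Subgroup.normalizer (P : Set Q))) : Q)⁻¹ = w)).symm
    have := h.three _ _ (by rw [Subgroup.orderOf_coe, Subgroup.orderOf_coe, ht3]) hc
    rw [Subgroup.orderOf_coe, hw] at this
    exact hqc this

include h in
/-- A prime whose Sylow normalisers all have order divisible by nine. -/
theorem KillHyp.false_of_prime {q : ℕ} (hq : q.Prime) {m : ℕ} (hm : Nat.card Q = q * m) (hqm : ¬ q ∣ m)
    (hqc : ¬ q ∣ c) (h9 : 9 ∣ m) (hdiv : ∀ d ∈ m.divisors, d % q = 1 → ¬ 3 ∣ d) : False := by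
  haveI := Fact.mk hq
  obtain ⟨P⟩ : Nonempty (Sylow q Q) := inferInstance
  have hP : Nat.card P = q := card_sylow_of_dvd (hm ▸ dvd_mul_right q m) (fun hh => hqm (by
    rw [hm, pow_two] at hh
    exact Nat.dvd_of_mul_dvd_mul_left hq.pos hh)) P
  obtain ⟨h1, h2, h3⟩ := sylow_count P hm hP
  have h0 : m ≠ 0 := by
    rintro rfl
    exact hqm (dvd_zero q)
  have hd := hdiv _ (Nat.mem_divisors.mpr ⟨h1, h0⟩) h2
  refine h.no_nine hqc hP ?_
  have hc : Nat.Coprime 9 (Nat.card (Sylow q Q)) :=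
    ((Nat.Prime.coprime_iff_not_dvd Nat.prime_three).mpr hd).pow_left 2
  exact hc.dvd_of_dvd_mul_right (h3 ▸ hm ▸ h9.mul_left q)

theorem map_characteristic_le (N : Subgroup Q) (A : Subgroup N) [A.Characteristic] :
    Subgroup.normalizer (N : Set Q) ≤ Subgroup.normalizer ((A.map N.subtype : Subgroup Q) : Set Q) := by
  intro g hg
  let e : N ≃* N := Subgroup.normalizerMonoidHom N ⟨g, hg⟩
  have hA : ∀ b ∈ A, e b ∈ A := fun b hb => by
    rw [← Subgroup.characteristic_iff_map_eq.mp (inferInstance : A.Characteristic) e]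
    exact Subgroup.mem_map_of_mem _ hb
  have hA' : ∀ b ∈ A, e.symm b ∈ A := fun b hb => by
    rw [← Subgroup.characteristic_iff_map_eq.mp (inferInstance : A.Characteristic) e.symm]
    exact Subgroup.mem_map_of_mem _ hb
  refine Subgroup.mem_normalizer_iff.mpr fun a => ⟨?_, fun ha => ?_⟩
  · rintro ⟨b, hb, rfl⟩
    exact ⟨e b, hA b hb, rfl⟩
  · obtain ⟨b, hb, e'⟩ := ha
    refine ⟨e.symm b, hA' b hb, ?_⟩
    have h2 : g * (e.symm b : Q) * g⁻¹ = g * a * g⁻¹ := by
      rw [← show (b : Q) = g * a * g⁻¹ from e', show g * (e.symm b : Q) * g⁻¹ = (e (e.symm b) : Q) from rfl,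
        MulEquiv.apply_symm_apply]
    exact mul_left_cancel (mul_right_cancel h2)

include h in
/-- A normaliser of order twice an odd number prime to `c` makes its odd half abelian. -/
theorem KillHyp.half_normal {r : ℕ} [Fact r.Prime] {N : Subgroup Q} {l : ℕ} (hN : Nat.card N = 2 * l) (hl : Odd l)
    (hlc : Nat.Coprime l c) (hr2 : ¬ r ^ 2 ∣ Nat.card Q) (h5l : r ∣ l) :
    ∃ P : Subgroup Q, Nat.card P = r ∧ N ≤ Subgroup.normalizer (P : Set Q) := by
  haveI := Fact.mk Nat.prime_two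
  obtain ⟨O, hO, hOi⟩ := CfsgLib.DoublyPrim.exists_index_two hl hN
  have hOc : Nat.card O = l := by
    have := O.card_mul_index
    rw [hOi, hN] at this; omega
  obtain ⟨u, hu⟩ := exists_prime_orderOf_dvd_card' 2 (show 2 ∣ Nat.card N by rw [hN]; exact dvd_mul_right 2 l)
  have hu2 : u * u = 1 := by rw [← pow_two, ← hu, pow_orderOf_eq_one]
  have hR : Odd (Nat.card O) := hOc ▸ hl
  have hfix : O ⊓ Subgroup.centralizer ({u} : Set N) = ⊥ := by
    rw [Subgroup.eq_bot_iff_forall]
    intro g hg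
    obtain ⟨h1, h2⟩ := Subgroup.mem_inf.mp hg
    have hc : (g : Q) * u = u * g := congrArg Subtype.val (Subgroup.mem_centralizer_singleton_iff.mp h2)
    have d1 := h.two (by rw [Subgroup.orderOf_coe, hu]) hc
    rw [Subgroup.orderOf_coe] at d1
    have d2 := Subgroup.orderOf_dvd_natCard O h1
    rw [hOc] at d2
    exact orderOf_eq_one_iff.mp (Nat.eq_one_of_dvd_coprimes hlc d2 d1)
  have hcount := CfsgLib.SmallCent.card_fixed_mul_inverted hR hu2 (fun x hx => hO.conj_mem x hx u)
  rw [hfix, Subgroup.card_bot, one_mul] at hcount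
  have hall : ∀ x ∈ O, u * x * u⁻¹ = x⁻¹ := by
    have hsub : CfsgLib.SmallCent.inverted O u ⊆ (O : Set N) := fun x hx => hx.1
    have heq := Set.eq_of_subset_of_ncard_le hsub (le_of_eq (by rw [← hcount, ← Nat.card_coe_set_eq]; rfl))
    exact fun x hx => (heq.symm.subset hx).2
  have hcomm : ∀ x ∈ O, ∀ y ∈ O, x * y = y * x := by
    intro x hx y hy
    have e := hall _ (O.mul_mem hx hy)
    rw [show u * (x * y) * u⁻¹ = (u * x * u⁻¹) * (u * y * u⁻¹) by group, hall x hx, hall y hy,
      mul_inv_rev] at e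
    have e2 := congrArg (fun t => t⁻¹) e
    simp only [mul_inv_rev, inv_inv] at e2
    exact e2.symm
  obtain ⟨g, hg⟩ := exists_prime_orderOf_dvd_card' r (show r ∣ Nat.card O by rwa [hOc])
  have hgQ : orderOf ((g : N) : Q) = r := by rw [Subgroup.orderOf_coe, Subgroup.orderOf_coe, hg]
  refine ⟨Subgroup.zpowers ((g : N) : Q), by rw [Nat.card_zpowers, hgQ], ?_⟩
  obtain ⟨T⟩ : Nonempty (Sylow r O) := inferInstance
  haveI : IsMulCommutative O := ⟨⟨fun a b => Subtype.ext (hcomm a a.2 b b.2)⟩⟩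
  haveI : (T : Subgroup O).Normal := inferInstance
  haveI hTc : (T : Subgroup O).Characteristic := Sylow.characteristic_of_normal T inferInstance
  have hT5 : Nat.card T = r := by
    obtain ⟨k, hk⟩ := IsPGroup.iff_card.mp T.isPGroup'
    have h1 : r ^ k ∣ Nat.card Q := by
      rw [← hk]
      exact (Subgroup.card_subgroup_dvd_card _).trans ((Subgroup.card_subgroup_dvd_card O).trans
        (Subgroup.card_subgroup_dvd_card N))
    have h2 : k ≤ 1 := by
      by_contra hh
      exact hr2 ((pow_dvd_pow r (by omega)).trans h1)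
    have h3 : r ^ 1 ∣ Nat.card T := Sylow.pow_dvd_card_of_pow_dvd_card T (by rw [pow_one, hOc]; exact h5l)
    interval_cases k
    · rw [hk, pow_zero, pow_one] at h3
      exact absurd (Nat.dvd_one.mp h3) (Fact.out : r.Prime).one_lt.ne'
    · simpa using hk
  have hTg : (T : Subgroup O) = Subgroup.zpowers g := by
    obtain ⟨T', hT'⟩ := (show IsPGroup r (Subgroup.zpowers g) from
      IsPGroup.iff_card.mpr ⟨1, by rw [Nat.card_zpowers, hg, pow_one]⟩).exists_le_sylow
    haveI : Unique (Sylow r O) := Sylow.unique_of_normal T inferInstance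
    obtain rfl : T' = T := Subsingleton.elim _ _
    exact (Subgroup.eq_of_le_of_card_ge hT' (by rw [hT5, Nat.card_zpowers, hg])).symm
  have h1 := map_characteristic_le O (T : Subgroup O)
  rw [hTg, MonoidHom.map_zpowers] at h1
  intro w hw
  have hwO : (⟨w, hw⟩ : N) ∈ Subgroup.normalizer (O : Set N) := by
    rw [Subgroup.normalizer_eq_top_iff.mpr hO]; exact Subgroup.mem_top _
  have hall' := Subgroup.mem_normalizer_iff.mp (h1 hwO)
  refine Subgroup.mem_normalizer_iff.mpr fun b => ⟨?_, ?_⟩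
  · rintro ⟨i, rfl⟩
    obtain ⟨j, hj⟩ := (hall' ((g : N) ^ i)).mp ⟨i, rfl⟩
    exact ⟨j, by simpa using congrArg Subtype.val hj⟩
  · rintro ⟨i, hi⟩
    have hbN : b ∈ N := by
      have h2 : w * b * w⁻¹ ∈ N := by rw [← hi]; exact N.zpow_mem (g : N).2 i
      have := N.mul_mem (N.mul_mem (N.inv_mem hw) h2) hw
      rwa [show w⁻¹ * (w * b * w⁻¹) * w = b by group] at this
    obtain ⟨j, hj⟩ := (hall' ⟨b, hbN⟩).mpr ⟨i, Subtype.ext (by simpa using hi)⟩
    exact ⟨j, by simpa using congrArg Subtype.val hj⟩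

theorem divs_35 : ∀ d ∈ (1260 : ℕ).divisors, d % 17 = 1 → 3 ∣ d → d = 18 ∨ d = 630 := by decide +kernel

theorem divs_72 : ∀ d ∈ (5040 : ℕ).divisors, d % 71 = 1 → 3 ∣ d → d = 72 := by decide +kernel

include h in
/-- The common end of the two harder orders. -/
theorem KillHyp.false_of_five {q k m : ℕ} (hq : q.Prime) (hq5 : q ≠ 5) (hm : Nat.card Q = q * m)
    (hqm : ¬ q ∣ m) (hqc : ¬ q ∣ c) (h9 : 9 ∣ m) (hk : 3 ∣ Nat.card (Sylow q Q) → Nat.card (Sylow q Q) = k)
    {l : ℕ} (hl : Odd l) (hkl : 2 * l * k = Nat.card Q) (hlc : Nat.Coprime l c) (h5l : 5 ∣ l)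
    (hql : q ∣ l) (hq2 : ¬ q ∣ 2 * k) (h25 : ¬ 25 ∣ Nat.card Q)
    (hfive : ∀ d ∈ k.divisors, d % 5 = 1 → 9 ∣ d → 2 * d = k) : False := by
  haveI := Fact.mk hq
  haveI := Fact.mk (show Nat.Prime 5 by norm_num)
  have h5c : ¬ 5 ∣ c := fun hh => by
    have := Nat.eq_one_of_dvd_coprimes hlc h5l hh
    norm_num at this
  obtain ⟨P⟩ : Nonempty (Sylow q Q) := inferInstance
  have hP : Nat.card P = q := card_sylow_of_dvd (hm ▸ dvd_mul_right q m) (fun hh => hqm (by
    rw [hm, pow_two] at hh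
    exact Nat.dvd_of_mul_dvd_mul_left hq.pos hh)) P
  obtain ⟨h1, h2, h3⟩ := sylow_count P hm hP
  have h0 : m ≠ 0 := by
    rintro rfl
    exact hqm (dvd_zero q)
  by_cases h3d : 3 ∣ Nat.card (Sylow q Q)
  swap
  · refine h.no_nine hqc hP ?_
    have hc : Nat.Coprime 9 (Nat.card (Sylow q Q)) :=
      ((Nat.Prime.coprime_iff_not_dvd Nat.prime_three).mpr h3d).pow_left 2
    exact hc.dvd_of_dvd_mul_right (h3 ▸ hm ▸ h9.mul_left q)
  rw [hk h3d] at h3
  set N := Subgroup.normalizer ((P : Subgroup Q) : Set Q) with hNdef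
  have hk0 : 0 < k := Nat.pos_of_ne_zero fun e => by
    rw [e, mul_zero] at hkl; exact Nat.card_pos.ne hkl
  have hNc : Nat.card N = 2 * l := Nat.eq_of_mul_eq_mul_right hk0 (h3.trans hkl.symm)
  obtain ⟨P5⟩ : Nonempty (Sylow 5 Q) := inferInstance
  have h5Q : 5 ∣ Nat.card Q := hkl ▸ (h5l.mul_left 2).mul_right k
  have h55 : Nat.card P5 = 5 := card_sylow_of_dvd h5Q (by norm_num; exact h25) P5
  obtain ⟨R, hR, hNR⟩ := h.half_normal (r := 5) hNc hl hlc (by norm_num; exact h25) h5l
  let R5 : Sylow 5 Q := Sylow.ofCard R (hR.trans (h55.symm.trans P5.card_eq_multiplicity))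
  obtain ⟨m5, hm5⟩ := h5Q
  obtain ⟨-, hmod, hcnt⟩ := sylow_count R5 hm5 (by simpa [R5] using hR)
  have hR5 : ((R5 : Subgroup Q) : Set Q) = (R : Set Q) := by simp [R5]
  rw [hR5] at hcnt
  set N5 := Subgroup.normalizer (R : Set Q) with hN5def
  obtain ⟨e, he⟩ := Subgroup.card_dvd_of_le hNR
  rw [hNc] at he
  set n5 := Nat.card (Sylow 5 Q)
  have hen : e * n5 = k := by
    refine Nat.eq_of_mul_eq_mul_left (show 0 < 2 * l by have := hl.pos; omega) ?_
    rw [← mul_assoc, ← he, hcnt, hkl]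
  by_cases h39 : 3 ∣ Nat.card N5
  · haveI := Fact.mk Nat.prime_three
    obtain ⟨t, ht⟩ := exists_prime_orderOf_dvd_card' 3 h39
    obtain ⟨w, hw⟩ := exists_prime_orderOf_dvd_card' 5 (show 5 ∣ Nat.card R by rw [hR])
    have hc := centralizes (p := 5) (by norm_num) hR Nat.prime_three (by norm_num)
      (show orderOf (t : Q) = 3 by rw [Subgroup.orderOf_coe, ht]) t.2 w.2
    have := h.three _ _ (show orderOf (t : Q) = 3 by rw [Subgroup.orderOf_coe, ht]) hc.symm
    rw [Subgroup.orderOf_coe, hw] at this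
    exact h5c this
  · have h9n : 9 ∣ n5 := by
      have hc : Nat.Coprime 9 (Nat.card N5) :=
        ((Nat.Prime.coprime_iff_not_dvd Nat.prime_three).mpr h39).pow_left 2
      exact hc.dvd_of_dvd_mul_left (hcnt ▸ hm ▸ h9.mul_left q)
    have he2 := hfive n5 (Nat.mem_divisors.mpr ⟨⟨e, by rw [mul_comm]; exact hen.symm⟩, by omega⟩) hmod h9n
    have he' : e = 2 := by
      refine Nat.eq_of_mul_eq_mul_right (show 0 < n5 from Nat.card_pos) ?_
      rw [hen, he2]
    subst he'
    have hidx : (N.subgroupOf N5).index = 2 := by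
      have h' := (N.subgroupOf N5).card_mul_index
      rw [Nat.card_congr (Subgroup.subgroupOfEquivOfLe hNR).toEquiv, hNc, he] at h'
      exact Nat.eq_of_mul_eq_mul_left (by have := hl.pos; omega) h'
    haveI := Subgroup.normal_of_index_eq_two hidx
    have hPN : (P : Subgroup Q) ≤ N := Subgroup.le_normalizer
    let P' := P.subtype hPN
    haveI : (P' : Subgroup N).Normal := by
      rw [Sylow.coe_subtype]
      exact Subgroup.normal_in_normalizer
    haveI := Sylow.characteristic_of_normal P' inferInstance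
    have h4 := map_characteristic_le N (P' : Subgroup N)
    rw [Sylow.coe_subtype, Subgroup.subgroupOf_map_subtype, inf_eq_left.mpr hPN, ← hNdef] at h4
    have h5' : N5 ≤ N := le_trans (Subgroup.le_normalizer_of_normal_subgroupOf (H := N) (K := N5) hNR) h4
    have := Subgroup.card_le_of_le h5'
    rw [hNc, he] at this
    have := hl.pos
    omega

theorem divs_five : ∀ d ∈ (4284 : ℕ).divisors, d % 5 = 1 → 9 ∣ d → 17 ∣ d → d = 306 ∨ d = 1071 := by
  decide +kernel

theorem divs_seven : ∀ d ∈ (306 : ℕ).divisors, d % 7 = 1 → ¬ 17 ∣ d := by decide +kernel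

include h in
/-- Six hundred and thirty Sylow subgroups of order seventeen. -/
theorem KillHyp.false_of_self (hc : c = 36) (hQ : Nat.card Q = 36 * 595)
    (h17 : ∀ P : Sylow 17 Q, Nat.card ↥(Subgroup.normalizer ((P : Subgroup Q) : Set Q)) = 34) : False := by
  subst hc
  haveI := Fact.mk (show Nat.Prime 17 by norm_num)
  haveI := Fact.mk (show Nat.Prime 5 by norm_num)
  haveI := Fact.mk (show Nat.Prime 7 by norm_num)
  haveI := Fact.mk Nat.prime_two
  haveI := Fact.mk Nat.prime_three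
  -- no element of order five or seven has one of order seventeen in its normaliser
  have no17 : ∀ {r : ℕ}, r.Prime → ¬ 17 ∣ r - 1 → ¬ r ∣ 34 → ∀ {R : Subgroup Q}, Nat.card R = r →
      ¬ 17 ∣ Nat.card ↥(Subgroup.normalizer (R : Set Q)) := by
    intro r hr h1 h2 R hR h17'
    haveI := Fact.mk hr
    obtain ⟨g, hg⟩ := exists_prime_orderOf_dvd_card' 17 h17'
    obtain ⟨w, hw⟩ := exists_prime_orderOf_dvd_card' r (show r ∣ Nat.card R by rw [hR])
    have hgQ : orderOf (g : Q) = 17 := by rw [Subgroup.orderOf_coe, hg]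
    have hc := centralizes (p := r) hr hR (show Nat.Prime 17 by norm_num) h1 hgQ g.2 w.2
    let P : Sylow 17 Q := Sylow.ofCard (Subgroup.zpowers (g : Q)) (by
      obtain ⟨P0⟩ : Nonempty (Sylow 17 Q) := inferInstance
      rw [Nat.card_zpowers, hgQ]
      exact (card_sylow_of_dvd (q := 17) (by rw [hQ]; norm_num)
        (by rw [hQ]; norm_num) P0).symm.trans P0.card_eq_multiplicity)
    have hwP : (w : Q) ∈ Subgroup.normalizer ((P : Subgroup Q) : Set Q) := by
      rw [Sylow.coe_ofCard]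
      refine Subgroup.mem_normalizer_iff.mpr fun b => ?_
      have hfix : ∀ b ∈ Subgroup.zpowers (g : Q), (w : Q) * b * (w : Q)⁻¹ = b := by
        rintro _ ⟨i, rfl⟩
        exact mul_inv_eq_iff_eq_mul.mpr ((Commute.zpow_left (hc : Commute (g : Q) w) i).symm.eq)
      refine ⟨fun hb => by rw [hfix b hb]; exact hb, fun hb => ?_⟩
      have e := hfix _ hb
      rw [mul_left_inj, mul_right_inj] at e
      exact e ▸ hb
    have h3 := Subgroup.orderOf_dvd_natCard _ hwP
    rw [h17 P, Subgroup.orderOf_coe, hw] at h3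
    exact h2 h3
  obtain ⟨P5⟩ : Nonempty (Sylow 5 Q) := inferInstance
  have h55 : Nat.card P5 = 5 := card_sylow_of_dvd (by rw [hQ]; norm_num) (by rw [hQ]; norm_num) P5
  obtain ⟨h1, h2, h3⟩ := sylow_count P5 (m := 4284) (by rw [hQ]) h55
  set N5 := Subgroup.normalizer ((P5 : Subgroup Q) : Set Q) with hN5
  set n5 := Nat.card (Sylow 5 Q)
  rw [hQ] at h3
  have h17n : 17 ∣ n5 :=
    ((Nat.Prime.coprime_iff_not_dvd (by norm_num)).mpr (no17 (by norm_num) (by norm_num) (by norm_num) h55)).dvd_of_dvd_mul_left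
      ⟨1260, by rw [h3]⟩
  have h3n : ¬ 3 ∣ Nat.card N5 := fun hh => by
    obtain ⟨t, ht⟩ := exists_prime_orderOf_dvd_card' 3 hh
    obtain ⟨w, hw⟩ := exists_prime_orderOf_dvd_card' 5 (show 5 ∣ Nat.card (P5 : Subgroup Q) by rw [h55])
    have hc := centralizes (p := 5) (by norm_num) h55 Nat.prime_three (by norm_num)
      (show orderOf (t : Q) = 3 by rw [Subgroup.orderOf_coe, ht]) t.2 w.2
    have := h.three _ _ (show orderOf (t : Q) = 3 by rw [Subgroup.orderOf_coe, ht]) hc.symm
    rw [Subgroup.orderOf_coe, hw] at this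
    norm_num at this
  have h9n : 9 ∣ n5 :=
    (((Nat.Prime.coprime_iff_not_dvd Nat.prime_three).mpr h3n).pow_left 2).dvd_of_dvd_mul_left
      ⟨2380, by rw [h3]⟩
  rcases divs_five n5 (Nat.mem_divisors.mpr ⟨h1, by norm_num⟩) h2 h9n h17n with e | e
  · have hN : Nat.card N5 = 2 * 35 := by rw [e] at h3; omega
    obtain ⟨R, hR, hle⟩ := h.half_normal (r := 7) hN (by decide) (by norm_num) (by rw [hQ]; norm_num) (by norm_num)
    let R7 : Sylow 7 Q := Sylow.ofCard R (by
      obtain ⟨P0⟩ : Nonempty (Sylow 7 Q) := inferInstance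
      rw [hR]
      exact (card_sylow_of_dvd (q := 7) (by rw [hQ]; norm_num) (by rw [hQ]; norm_num) P0).symm.trans
        P0.card_eq_multiplicity)
    obtain ⟨-, hmod, hcnt⟩ := sylow_count R7 (m := 3060) (by rw [hQ]) (by simpa [R7] using hR)
    rw [show ((R7 : Subgroup Q) : Set Q) = (R : Set Q) by simp [R7], hQ] at hcnt
    obtain ⟨w, hw⟩ := Subgroup.card_dvd_of_le hle
    rw [hN] at hw
    have hd : Nat.card (Sylow 7 Q) ∣ 306 := ⟨w, by
      rw [hw] at hcnt
      generalize Nat.card (Sylow 7 Q) = n at hcnt ⊢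
      nlinarith⟩
    exact divs_seven _ (Nat.mem_divisors.mpr ⟨hd, by norm_num⟩) hmod
      (((Nat.Prime.coprime_iff_not_dvd (by norm_num)).mpr
        (no17 (by norm_num) (by norm_num) (by norm_num) hR)).dvd_of_dvd_mul_left ⟨1260, by rw [hcnt]⟩)
  · have hN : Nat.card N5 = 20 := by rw [e] at h3; omega
    obtain ⟨T, hT⟩ := Sylow.exists_subgroup_card_pow_prime 2 (n := 2) (G := ↥N5) (by rw [hN]; norm_num)
    haveI : IsCyclic (P5 : Subgroup Q) := isCyclic_of_prime_card h55
    let φ := (Subgroup.normalizerMonoidHom (P5 : Subgroup Q)).comp T.subtype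
    haveI : IsCyclic (MulAut (P5 : Subgroup Q)) := by
      have e := IsCyclic.mulAutMulEquiv (P5 : Subgroup Q)
      rw [h55] at e
      exact isCyclic_of_surjective e.symm.toMonoidHom (MulEquiv.surjective _)
    have hinj : Function.Injective φ := (injective_iff_map_eq_one φ).mpr fun t ht => by
      by_contra ht1
      obtain ⟨j, hj, hto⟩ := (Nat.dvd_prime_pow Nat.prime_two).mp (hT ▸ orderOf_dvd_natCard t)
      have hjp : j ≠ 0 := by rintro rfl; exact ht1 (orderOf_eq_one_iff.mp (by simpa using hto))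
      obtain ⟨s, hs1, hs2⟩ : ∃ s : T, φ s = 1 ∧ orderOf s = 2 :=
        ⟨t ^ 2 ^ (j - 1), by rw [map_pow, ht, one_pow], by
          rw [orderOf_pow_of_dvd (by positivity) (by rw [hto]; exact pow_dvd_pow 2 (by omega)), hto,
            Nat.pow_div (by omega) (by norm_num), show j - (j - 1) = 1 by omega, pow_one]⟩
      obtain ⟨w, hw⟩ := exists_prime_orderOf_dvd_card' 5 (show 5 ∣ Nat.card (P5 : Subgroup Q) by rw [h55])
      have hc : (w : Q) * ((s : ↥N5) : Q) = ((s : ↥N5) : Q) * (w : Q) := by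
        have := DFunLike.congr_fun hs1 w
        exact (mul_inv_eq_iff_eq_mul.mp (congrArg Subtype.val this :
          ((s : ↥N5) : Q) * (w : Q) * ((s : ↥N5) : Q)⁻¹ = w)).symm
      have := h.two (by rw [Subgroup.orderOf_coe, Subgroup.orderOf_coe, hs2]) hc
      rw [Subgroup.orderOf_coe, hw] at this
      norm_num at this
    haveI : IsCyclic T := isCyclic_of_injective φ hinj
    obtain ⟨g, hg⟩ := IsCyclic.exists_ofOrder_eq_natCard (α := T)
    rw [hT] at hg
    have h4 : orderOf ((g : ↥N5) : Q) = 4 := by rw [Subgroup.orderOf_coe, Subgroup.orderOf_coe, hg]; norm_num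
    have := orderOf_dvd_of_pow_eq_one (h.four rfl _ (by rw [← h4, pow_orderOf_eq_one]))
    rw [h4] at this
    norm_num at this

theorem false_of_small {Q : Type*} [Group Q] [Finite Q] {z : Q} (h : KillHyp z 36) {N : ℕ}
    (hQ : Nat.card Q = 36 * N) (hN : N = 703 ∨ N = 595) : False := by
  rcases hN with rfl | rfl
  · exact h.false_of_prime (q := 37) (by norm_num) (m := 684) (by rw [hQ]) (by norm_num) (by norm_num)
      (by norm_num) (by decide +kernel)
  · haveI := Fact.mk (show Nat.Prime 17 by norm_num)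
    by_cases h630 : Nat.card (Sylow 17 Q) = 630
    · refine h.false_of_self rfl hQ fun P => ?_
      have hP := card_sylow_of_dvd (q := 17) (by rw [hQ]; norm_num) (by rw [hQ]; norm_num) P
      obtain ⟨-, -, h3⟩ := sylow_count P (m := 1260) (by rw [hQ]) hP
      rw [h630, hQ] at h3
      omega
    refine h.false_of_five (q := 17) (k := 18) (by norm_num) (by norm_num) (m := 1260) (by rw [hQ])
      (by norm_num) (by norm_num) (by norm_num) (fun h3 => ?_) (l := 595) (by decide)
      (by rw [hQ]) (by norm_num) (by norm_num) (by norm_num) (by norm_num) (by rw [hQ]; norm_num)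
      (by decide +kernel)
    obtain ⟨P⟩ : Nonempty (Sylow 17 Q) := inferInstance
    obtain ⟨h1, h2, -⟩ := sylow_count P (m := 1260) (by rw [hQ])
      (card_sylow_of_dvd (by rw [hQ]; norm_num) (by rw [hQ]; norm_num) P)
    exact (divs_35 _ (Nat.mem_divisors.mpr ⟨h1, by norm_num⟩) h2 h3).resolve_right h630

theorem false_of_big {Q : Type*} [Group Q] [Finite Q] {z : Q} (h : KillHyp z 144) {N : ℕ}
    (hQ : Nat.card Q = 144 * N) (hN : N = 2701 ∨ N = 2485) : False := by
  rcases hN with rfl | rfl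
  · exact h.false_of_prime (q := 73) (by norm_num) (m := 5328) (by rw [hQ]) (by norm_num) (by norm_num)
      (by norm_num) (by decide +kernel)
  · haveI := Fact.mk (show Nat.Prime 71 by norm_num)
    refine h.false_of_five (q := 71) (k := 72) (by norm_num) (by norm_num) (m := 5040) (by rw [hQ])
      (by norm_num) (by norm_num) (by norm_num) (fun h3 => ?_) (l := 2485) (by decide) (by rw [hQ]) (by norm_num)
      (by norm_num) (by norm_num) (by norm_num) (by rw [hQ]; norm_num) (by decide +kernel)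
    obtain ⟨P⟩ : Nonempty (Sylow 71 Q) := inferInstance
    obtain ⟨h1, h2, -⟩ := sylow_count P (m := 5040) (by rw [hQ])
      (card_sylow_of_dvd (by rw [hQ]; norm_num) (by rw [hQ]; norm_num) P)
    exact divs_72 _ (Nat.mem_divisors.mpr ⟨h1, by norm_num⟩) h2 h3

end CfsgLib.SpinCent
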