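import Cfsg.Agent.Lib.Char.Counting
import Cfsg.Agent.Lib.Char.TI
import Cfsg.Agent.Lib.Char.Central
import Cfsg.Agent.Lib.Char.Table
import Cfsg.Agent.Lib.BSW.Coeff

/-!
# An order equation

One class of involutions, and a homomorphism of the centraliser of `z` onto the symmetric group of
degree three such that the elements over the three-cycles centralise no involution but `z`.
-/

set_option autoImplicit false
set_option linter.unusedSectionVars false
set_option linter.style.haveILetI false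

namespace CfsgLib.SpinCent

open Cfsg CfsgLib.Char Equiv Equiv.Perm
open scoped ComplexConjugate

/-- The value of a character at an involution is an integer. -/
theorem exists_int_of_sq {Q : Type*} [Group Q] [Finite Q] {χ : Q → ℂ} (hχ : IsIrrCharacter Q χ)
    {g : Q} (hg : g * g = 1) : ∃ k : ℤ, χ g = k := by
  obtain ⟨n, ρ, -, rfl⟩ := hχ
  have hgg : ρ g * ρ g = 1 := by rw [← map_mul, hg, map_one]
  set P : Module.End ℂ _ := (2⁻¹ : ℂ) • (1 + ρ g) with hP
  have hPP : P * P = P := by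
    rw [hP, smul_mul_smul_comm, add_mul, mul_add, mul_add, hgg, one_mul, mul_one, one_mul]
    module
  have h := (LinearMap.isProj_range_iff_isIdempotentElem (f := P)).mpr hPP
  have ht : LinearMap.trace ℂ _ P = (Module.finrank ℂ (LinearMap.range P) : ℂ) := h.trace
  rw [hP, map_smul, map_add, LinearMap.trace_one, smul_eq_mul] at ht
  refine ⟨2 * (Module.finrank ℂ (LinearMap.range P) : ℤ) - (Module.finrank ℂ (Fin n → ℂ) : ℤ), ?_⟩
  show LinearMap.trace ℂ _ (ρ g) = _
  rw [hP]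
  push_cast
  linear_combination (2 : ℂ) * ht

variable {Q : Type*} [Group Q] {z : Q}

/-- The configuration. -/
structure OrdHyp (z : Q) (π : ↥(Subgroup.centralizer ({z} : Set Q)) →* Perm (Fin 3)) (M : ℕ) : Prop where
  ord : orderOf z = 2
  ker : ∀ h : z ∈ Subgroup.centralizer ({z} : Set Q), π ⟨z, h⟩ = 1
  surj : Function.Surjective π
  fused : ∀ u : Q, orderOf u = 2 → IsConj z u
  uniq : ∀ s : ↥(Subgroup.centralizer ({z} : Set Q)), orderOf (π s) = 3 →
    ∀ u : Q, orderOf u = 2 → u * s = s * u → u = z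
  outer : ∀ u : ↥(Subgroup.centralizer ({z} : Set Q)), orderOf (u : Q) = 2 → (u : Q) ≠ z →
    sign (π u) = -1
  count : Nat.card {u : ↥(Subgroup.centralizer ({z} : Set Q)) // orderOf (u : Q) = 2 ∧ (u : Q) ≠ z} = M
  square : 2 * M ^ 2 = 18 * Nat.card ↥(Subgroup.centralizer ({z} : Set Q))

variable {π : ↥(Subgroup.centralizer ({z} : Set Q)) →* Perm (Fin 3)} {M : ℕ}

theorem three_iff : ∀ σ : Perm (Fin 3), orderOf σ = 3 ↔ σ ≠ 1 ∧ sign σ = 1 := by
  intro σ
  have h : ∀ σ : Perm (Fin 3), (σ ^ 3 = 1 ∧ σ ≠ 1) ↔ σ ≠ 1 ∧ sign σ = 1 := by decide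
  rw [orderOf_eq_prime_iff (p := 3)]
  exact h σ

theorem OrdHyp.zz (h : OrdHyp z π M) : z * z = 1 := by rw [← pow_two, ← h.ord, pow_orderOf_eq_one]

theorem OrdHyp.two (h : OrdHyp z π M) (u : ↥(Subgroup.centralizer ({z} : Set Q)))
    (hu : orderOf (u : Q) = 2) : orderOf (π u) ≠ 3 := fun e => by
  have h2 : π u ^ 2 = 1 := by
    rw [← map_pow, show u ^ 2 = 1 from Subtype.ext (by
      rw [SubmonoidClass.coe_pow, ← hu, pow_orderOf_eq_one]; rfl), map_one]
  have := orderOf_dvd_of_pow_eq_one h2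
  rw [e] at this
  norm_num at this

/-- The elements over three-cycles form a TI set. -/
theorem OrdHyp.ti (h : OrdHyp z π M) {g : Q} {s t : ↥(Subgroup.centralizer ({z} : Set Q))}
    (ht : orderOf (π t) = 3) (e : g * s * g⁻¹ = t) : g ∈ Subgroup.centralizer ({z} : Set Q) := by
  rw [Subgroup.mem_centralizer_singleton_iff]
  refine mul_inv_eq_iff_eq_mul.mp (h.uniq t ht _ ?_ ?_)
  · rw [← MulAut.conj_apply, MulEquiv.orderOf_eq, h.ord]
  · have hz := Subgroup.mem_centralizer_singleton_iff.mp s.2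
    rw [← e]
    calc g * z * g⁻¹ * (g * s * g⁻¹) = g * (z * s) * g⁻¹ := by group
      _ = g * ((s : Q) * z) * g⁻¹ := by rw [hz]
      _ = _ := by group

variable [Finite Q]

/-- Fibres of a homomorphism onto `Perm (Fin 3)`. -/
theorem sum_comp {H : Type*} [Group H] [Fintype H] (f : H →* Perm (Fin 3))
    (hf : Function.Surjective f) (F : Perm (Fin 3) → ℂ) :
    ∑ g : H, F (f g) = (Nat.card f.ker : ℂ) * ∑ σ, F σ := by
  classical
  rw [← Finset.sum_fiberwise Finset.univ f (fun g => F (f g)), Finset.mul_sum]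
  refine Finset.sum_congr rfl fun σ _ => ?_
  rw [Finset.sum_congr rfl fun g hg => by rw [(Finset.mem_filter.mp hg).2], Finset.sum_const,
    nsmul_eq_mul]
  congr 2
  rw [← Fintype.card_subtype, ← Nat.card_eq_fintype_card]
  obtain ⟨g₀, rfl⟩ := hf σ
  refine Nat.card_congr (Equiv.subtypeEquiv (Equiv.mulLeft g₀⁻¹) fun g => ?_)
  rw [MonoidHom.mem_ker, Equiv.coe_mulLeft, map_mul, map_inv, inv_mul_eq_one, eq_comm]

theorem card_eq_six {H : Type*} [Group H] [Finite H] (f : H →* Perm (Fin 3))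
    (hf : Function.Surjective f) : Nat.card H = 6 * Nat.card f.ker := by
  have h := Subgroup.card_eq_card_quotient_mul_card_subgroup f.ker
  rw [Nat.card_congr (QuotientGroup.quotientKerEquivOfSurjective f hf).toEquiv] at h
  rwa [Nat.card_perm, Nat.card_fin, show Nat.factorial 3 = 6 from rfl] at h

/-- The class function of the symmetric group of degree three, `3` on the three-cycles. -/
def three (σ : Perm (Fin 3)) : ℤ := if σ ≠ 1 ∧ sign σ = 1 then 3 else 0

theorem three_eq : ∀ σ : Perm (Fin 3),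
    three σ = 2 + (sign σ : ℤ) - ((Finset.univ.filter fun i => σ i = i).card : ℤ) := by decide

theorem three_of_not {σ : Perm (Fin 3)} (h : orderOf σ ≠ 3) : three σ = 0 :=
  if_neg fun h' => h ((three_iff σ).mpr h')

theorem three_of_order {σ : Perm (Fin 3)} (h : orderOf σ = 3) : three σ = 3 :=
  if_pos ((three_iff σ).mp h)

/-- Its inflation to the centraliser. -/
noncomputable def alpha (π : ↥(Subgroup.centralizer ({z} : Set Q)) →* Perm (Fin 3)) :
    ↥(Subgroup.centralizer ({z} : Set Q)) → ℂ := fun g => (three (π g) : ℂ)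

theorem isGeneralized_alpha (h : OrdHyp z π M) :
    IsGeneralizedCharacter ↥(Subgroup.centralizer ({z} : Set Q)) (alpha π) := by
  classical
  haveI := Fintype.ofFinite Q
  letI : MulAction ↥(Subgroup.centralizer ({z} : Set Q)) (Fin 3) := MulAction.compHom _ π
  haveI : MulAction.IsPretransitive ↥(Subgroup.centralizer ({z} : Set Q)) (Fin 3) := ⟨fun i j => by
    obtain ⟨g, hg⟩ := h.surj (swap i j)
    exact ⟨g, show π g i = j by rw [hg, swap_apply_left]⟩⟩
  let sg : ↥(Subgroup.centralizer ({z} : Set Q)) →* ℂˣ :=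
    ((Units.map (Int.castRingHom ℂ).toMonoidHom).comp sign).comp π
  have e : alpha π = ((fun _ => 1) + (fun _ => 1) + fun g => (sg g : ℂ)) -
      fun g : ↥(Subgroup.centralizer ({z} : Set Q)) => (Nat.card (MulAction.fixedBy (Fin 3) g) : ℂ) := by
    funext g
    have hc : Nat.card (MulAction.fixedBy (Fin 3) g) = (Finset.univ.filter fun i => π g i = i).card := by
      rw [Nat.card_eq_fintype_card, ← Fintype.card_subtype]
      exact Fintype.card_congr (Equiv.refl _)
    simp only [alpha, three_eq, Pi.sub_apply, Pi.add_apply, hc]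
    push_cast
    rw [show (sg g : ℂ) = ((sign (π g) : ℤ) : ℂ) from rfl]
    ring
  rw [e]
  exact isGeneralized_sub (isGeneralized_add (isGeneralized_add isGeneralized_one isGeneralized_one)
    (isGeneralized_of_isIrr (isIrrCharacter_monoidHom sg)))
    (isGeneralized_of_isCharacter (isCharacter_perm (Fin 3)))

theorem OrdHyp.pairs_inner (h : OrdHyp z π M) [Fintype ↥(Subgroup.centralizer ({z} : Set Q))] :
    ∑ s : ↥(Subgroup.centralizer ({z} : Set Q)),
      alpha π s * (Nat.card {p : Q × Q // IsConj z p.1 ∧ IsConj z p.2 ∧ p.1 * p.2 = (s : Q)} : ℂ) =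
      2 * (M : ℂ) ^ 2 := by
  classical
  set I := {u : ↥(Subgroup.centralizer ({z} : Set Q)) // orderOf (u : Q) = 2 ∧ (u : Q) ≠ z} with hI
  have hinv : ∀ {u : Q}, IsConj z u → orderOf u = 2 := fun hu => by
    obtain ⟨c, rfl⟩ := isConj_iff.mp hu
    rw [← MulAut.conj_apply, MulEquiv.orderOf_eq, h.ord]
  have hsq : ∀ {u : Q}, orderOf u = 2 → u * u = 1 := fun hu => by rw [← pow_two, ← hu, pow_orderOf_eq_one]
  have hf : ∀ s : ↥(Subgroup.centralizer ({z} : Set Q)), orderOf (π s) = 3 →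
      Nat.card {p : Q × Q // IsConj z p.1 ∧ IsConj z p.2 ∧ p.1 * p.2 = (s : Q)} =
        Nat.card {p : I × I // p.1.1 * p.2.1 = s} := by
    intro s hs
    refine (Nat.card_congr (Equiv.ofBijective
      (fun p : {p : I × I // p.1.1 * p.2.1 = s} =>
        (⟨((p.1.1.1 : Q), (p.1.2.1 : Q)), h.fused _ p.1.1.2.1, h.fused _ p.1.2.2.1,
          congrArg Subtype.val p.2⟩ : {p : Q × Q // IsConj z p.1 ∧ IsConj z p.2 ∧ p.1 * p.2 = (s : Q)}))
      ⟨?_, ?_⟩)).symm
    · rintro ⟨⟨a, b⟩, _⟩ ⟨⟨a', b'⟩, _⟩ e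
      have e1 := congrArg (fun q => q.1.1) e
      have e2 := congrArg (fun q => q.1.2) e
      exact Subtype.ext (Prod.ext (Subtype.ext (Subtype.ext e1)) (Subtype.ext (Subtype.ext e2)))
    · rintro ⟨⟨u, v⟩, hu, hv, huv⟩
      dsimp only at hu hv huv
      have u2 := hsq (hinv hu)
      have v2 := hsq (hinv hv)
      have hsu : u * s * u = (s : Q)⁻¹ := by
        rw [← huv]
        refine eq_inv_of_mul_eq_one_left ?_
        calc u * (u * v) * u * (u * v) = (u * u) * v * (u * u) * v := by group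
          _ = 1 := by rw [u2, one_mul, mul_one, v2]
      have hsz : (s : Q) * z = z * s := Subgroup.mem_centralizer_singleton_iff.mp s.2
      have huC : u * z = z * u := by
        have hcm : u * z * u⁻¹ * s = s * (u * z * u⁻¹) := by
          have hz' : z * (s : Q)⁻¹ = (s : Q)⁻¹ * z := ((Commute.inv_left hsz : Commute (s : Q)⁻¹ z)).symm.eq
          have e : u * (s : Q)⁻¹ * u = s := by
            calc u * (s : Q)⁻¹ * u = u * (u * s * u) * u := by rw [hsu]
              _ = (u * u) * s * (u * u) := by group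
              _ = s := by rw [u2, one_mul, mul_one]
          rw [inv_eq_of_mul_eq_one_right u2]
          calc u * z * u * s = u * z * (u * s * u) * u⁻¹ := by group
            _ = u * (z * (s : Q)⁻¹) * u := by rw [hsu, inv_eq_of_mul_eq_one_right u2, mul_assoc u z]
            _ = u * (s : Q)⁻¹ * z * u := by rw [hz']; group
            _ = (u * (s : Q)⁻¹ * u) * (u⁻¹ * z * u) := by group
            _ = _ := by rw [e, inv_eq_of_mul_eq_one_right u2]
        exact mul_inv_eq_iff_eq_mul.mp (h.uniq s hs _ (by rw [← MulAut.conj_apply, MulEquiv.orderOf_eq, h.ord]) hcm)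
      have huC' : u ∈ (Subgroup.centralizer ({z} : Set Q)) := Subgroup.mem_centralizer_singleton_iff.mpr huC
      have hvC : v ∈ (Subgroup.centralizer ({z} : Set Q)) := by
        have : v = u⁻¹ * s := by rw [← huv]; group
        rw [this]; exact (Subgroup.centralizer ({z} : Set Q)).mul_mem ((Subgroup.centralizer ({z} : Set Q)).inv_mem huC') s.2
      have e : (⟨u, huC'⟩ : ↥(Subgroup.centralizer ({z} : Set Q))) * ⟨v, hvC⟩ = s := Subtype.ext huv
      refine ⟨⟨(⟨⟨u, huC'⟩, hinv hu, fun hz => ?_⟩, ⟨⟨v, hvC⟩, hinv hv, fun hz => ?_⟩), e⟩, rfl⟩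
      · dsimp only at hz
        subst hz
        refine h.two ⟨v, hvC⟩ (hinv hv) ?_
        rwa [show π ⟨v, hvC⟩ = π s by rw [← e, map_mul, h.ker, one_mul]]
      · dsimp only at hz
        subst hz
        refine h.two ⟨u, huC'⟩ (hinv hu) ?_
        rwa [show π ⟨u, huC'⟩ = π s by rw [← e, map_mul, h.ker, mul_one]]
  haveI : Fintype I := Fintype.ofFinite _
  have hterm : ∀ s : ↥(Subgroup.centralizer ({z} : Set Q)), alpha π s *
      (Nat.card {p : Q × Q // IsConj z p.1 ∧ IsConj z p.2 ∧ p.1 * p.2 = (s : Q)} : ℂ) =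
      ∑ p ∈ Finset.univ.filter (fun p : I × I => p.1.1 * p.2.1 = s), ((three (π p.1.1 * π p.2.1) : ℤ) : ℂ) := by
    intro s
    rw [Finset.sum_congr rfl fun p hp => by rw [← map_mul, (Finset.mem_filter.mp hp).2],
      Finset.sum_const, nsmul_eq_mul, ← Fintype.card_subtype, ← Nat.card_eq_fintype_card, alpha]
    by_cases hs : orderOf (π s) = 3
    · rw [hf s hs]; ring
    · rw [three_of_not hs]; simp
  rw [Finset.sum_congr rfl fun s _ => hterm s,
    Finset.sum_fiberwise Finset.univ (fun p : I × I => p.1.1 * p.2.1)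
      (fun p => ((three (π p.1.1 * π p.2.1) : ℤ) : ℂ))]
  -- the images of the involutions are transpositions, equally often
  let T := {σ : Perm (Fin 3) // sign σ = -1}
  let F : I → T := fun u => ⟨π u.1, h.outer u.1 u.2.1 u.2.2⟩
  have hconj : ∀ a b : T, ∃ c : Perm (Fin 3), c * a.1 * c⁻¹ = b.1 := by
    have : ∀ a b : Perm (Fin 3), sign a = -1 → sign b = -1 → ∃ c, c * a * c⁻¹ = b := by decide
    exact fun a b => this a.1 b.1 a.2 b.2
  have heq : ∀ a b : T, Nat.card {u : I // F u = a} = Nat.card {u : I // F u = b} := by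
    intro a b
    obtain ⟨c, hc⟩ := hconj a b
    obtain ⟨g, rfl⟩ := h.surj c
    have hgz : ∀ {g : ↥(Subgroup.centralizer ({z} : Set Q))}, (g : Q) * z * (g : Q)⁻¹ = z := fun {g} =>
      mul_inv_eq_iff_eq_mul.mpr (Subgroup.mem_centralizer_singleton_iff.mp g.2)
    let eI : I ≃ I := Equiv.subtypeEquiv (MulAut.conj g).toEquiv fun u => by
      refine and_congr ?_ (not_congr ?_)
      · show orderOf (u : Q) = 2 ↔ orderOf ((g : Q) * u * (g : Q)⁻¹) = 2
        rw [← MulAut.conj_apply, MulEquiv.orderOf_eq]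
      · show (u : Q) = z ↔ (g : Q) * u * (g : Q)⁻¹ = z
        conv_rhs => rhs; rw [← hgz (g := g)]
        rw [mul_left_inj, mul_right_inj]
    refine Nat.card_congr (Equiv.subtypeEquiv eI fun u => ?_)
    rw [Subtype.ext_iff, Subtype.ext_iff, show (F (eI u)).1 = π g * (F u).1 * (π g)⁻¹ from by
      show π (g * u.1 * g⁻¹) = _
      rw [map_mul, map_mul, map_inv], ← hc, mul_left_inj, mul_right_inj]
  obtain ⟨k, hk⟩ : ∃ k : ℕ, ∀ a : T, Nat.card {u : I // F u = a} = k :=
    ⟨_, fun a => heq a ⟨swap 0 1, by decide⟩⟩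
  have hM : M = 3 * k := by
    rw [← h.count, ← Nat.card_congr (Equiv.sigmaFiberEquiv F), Nat.card_sigma,
      Finset.sum_congr rfl fun a _ => hk a, Finset.sum_const, smul_eq_mul, Finset.card_univ]
    congr 1
  have hfib : ∀ G' : T → ℂ, ∑ u : I, G' (F u) = (k : ℂ) * ∑ a : T, G' a := fun G' => by
    rw [← Finset.sum_fiberwise Finset.univ F (fun u => G' (F u)), Finset.mul_sum]
    refine Finset.sum_congr rfl fun a _ => ?_
    rw [Finset.sum_congr rfl fun u hu => by rw [(Finset.mem_filter.mp hu).2], Finset.sum_const,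
      nsmul_eq_mul, ← Fintype.card_subtype, ← Nat.card_eq_fintype_card, hk a]
  have h18 : ∑ a : T, ∑ b : T, three (a.1 * b.1) = 18 := by decide
  rw [Fintype.sum_prod_type, Finset.sum_congr rfl fun u _ =>
    hfib (fun b => ((three ((F u).1 * b.1) : ℤ) : ℂ)),
    ← Finset.mul_sum, hfib (fun a => ∑ b : T, ((three (a.1 * b.1) : ℤ) : ℂ)), hM]
  have h18' : ∑ a : T, ∑ b : T, ((three (a.1 * b.1) : ℤ) : ℂ) = 18 := by exact_mod_cast h18
  rw [h18']
  push_cast
  ring

/-- The order equation. -/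
theorem OrdHyp.order_eq (h : OrdHyp z π M) :
    ∃ a u : ℤ, a ^ 2 + (1 + a) ^ 2 < (Nat.card ↥(Subgroup.centralizer ({z} : Set Q)) : ℤ) ∧
      u ∣ (Nat.card Q : ℤ) ∧ u + 1 ∣ (Nat.card Q : ℤ) ∧
      ((Subgroup.centralizer ({z} : Set Q)).index : ℤ) * (u - a) ^ 2 =
        18 * (Nat.card ↥(Subgroup.centralizer ({z} : Set Q)) : ℤ) * (u * (u + 1)) := by
  classical
  haveI := Fintype.ofFinite Q
  have hC0 : (Nat.card ↥(Subgroup.centralizer ({z} : Set Q)) : ℂ) ≠ 0 := Nat.cast_ne_zero.mpr Nat.card_pos.ne'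
  have hker := card_eq_six π h.surj
  have hk0 : (Nat.card π.ker : ℂ) ≠ 0 := Nat.cast_ne_zero.mpr Nat.card_pos.ne'
  let S : Set Q := {g | ∃ hg : g ∈ (Subgroup.centralizer ({z} : Set Q)), orderOf (π ⟨g, hg⟩) = 3}
  have hoff : ∀ x : ↥(Subgroup.centralizer ({z} : Set Q)), (x : Q) ∉ S → alpha π x = 0 := fun x hx => by
    rw [alpha, three_of_not fun e => hx ⟨x.2, e⟩]; simp
  have hTI : ∀ g : Q, g ∉ (Subgroup.centralizer ({z} : Set Q)) → ∀ t ∈ S, g * t * g⁻¹ ∈ S → t = 1 := by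
    rintro g hg t ⟨ht, -⟩ ⟨ht', e⟩
    exact absurd (h.ti (s := ⟨t, ht⟩) (t := ⟨g * t * g⁻¹, ht'⟩) e rfl) hg
  have halpha1 : alpha π 1 = 0 := by
    rw [alpha, map_one, three_of_not (by rw [orderOf_one]; norm_num)]; simp
  have hcf : IsClassFunction ↥(Subgroup.centralizer ({z} : Set Q)) (alpha π) := isClassFunction_of_isGeneralized (isGeneralized_alpha h)
  have hgen := isGeneralized_indFun (Subgroup.centralizer ({z} : Set Q)) (isGeneralized_alpha h)
  have hnorm : classInner (indFun (Subgroup.centralizer ({z} : Set Q)) (alpha π)) (indFun (Subgroup.centralizer ({z} : Set Q)) (alpha π)) = 3 := by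
    rw [classInner_indFun_of_ti (Subgroup.centralizer ({z} : Set Q)) S hTI _ _ hcf hoff hoff halpha1, classInner,
      show (∑ g : ↥(Subgroup.centralizer ({z} : Set Q)), alpha π g * conj (alpha π g)) = (∑ g : ↥(Subgroup.centralizer ({z} : Set Q)), ((three (π g) ^ 2 : ℤ) : ℂ)) from
        Finset.sum_congr rfl fun g _ => by rw [alpha, map_intCast]; push_cast; ring,
      sum_comp π h.surj (fun σ => ((three σ ^ 2 : ℤ) : ℂ)), hker, ← Int.cast_sum,
      show ∑ σ : Perm (Fin 3), three σ ^ 2 = 18 by decide]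
    push_cast
    field_simp
    norm_num
  have hone : classInner (indFun (Subgroup.centralizer ({z} : Set Q)) (alpha π)) (fun _ : Q => (1 : ℂ)) = 1 := by
    rw [frobenius_reciprocity (Subgroup.centralizer ({z} : Set Q)) _ (isClassFunction_irr ⟨_, isIrrCharacter_one⟩), classInner]
    simp only [map_one, mul_one, alpha]
    rw [sum_comp π h.surj (fun σ => ((three σ : ℤ) : ℂ)), hker, ← Int.cast_sum,
      show ∑ σ : Perm (Fin 3), three σ = 6 by decide]
    push_cast
    field_simp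
  obtain ⟨c, hc⟩ := isGeneralized_iff.mp hgen
  have hcoef : ∀ ψ : IrrCharacter Q, classInner (indFun (Subgroup.centralizer ({z} : Set Q)) (alpha π)) (ψ : Q → ℂ) = (c ψ : ℂ) :=
    fun ψ => by rw [hc, classInner_sum_smul_irr]
  let T : IrrCharacter Q := ⟨fun _ => 1, isIrrCharacter_one⟩
  have hcT : c T = 1 := by exact_mod_cast (hcoef T).symm.trans hone
  have hsum : ∑ ψ : IrrCharacter Q, c ψ ^ 2 = 3 := by
    rw [hc, sum_sq_coeff] at hnorm
    exact_mod_cast hnorm
  have hrest : ∑ ψ ∈ Finset.univ.erase T, c ψ ^ 2 = 2 := by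
    have := Finset.add_sum_erase Finset.univ (fun ψ => c ψ ^ 2) (Finset.mem_univ T)
    simp only [hcT, hsum] at this
    linarith
  set s := (Finset.univ.erase T).filter (fun ψ => c ψ ≠ 0) with hs
  have hs2 : ∑ ψ ∈ s, c ψ ^ 2 = 2 := by
    rw [hs, Finset.sum_filter_of_ne (p := fun ψ => c ψ ≠ 0) fun ψ _ hψ h0 => hψ (by rw [h0]; norm_num)]
    exact hrest
  have hone' : ∀ ψ ∈ s, c ψ ^ 2 = 1 := by
    intro ψ hψ
    have h1 : c ψ ^ 2 ≤ 2 := hs2 ▸ Finset.single_le_sum (f := fun ψ => c ψ ^ 2) (fun i _ => sq_nonneg _) hψ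
    have h0 : c ψ ≠ 0 := (Finset.mem_filter.mp hψ).2
    have h2 : |c ψ| = 1 := by
      have : |c ψ| ≤ 1 := by
        by_contra hh
        push Not at hh
        nlinarith [sq_abs (c ψ)]
      have := abs_pos.mpr h0
      omega
    rw [← sq_abs, h2]; norm_num
  have hcard : s.card = 2 := by
    have := hs2
    rw [Finset.sum_congr rfl hone', Finset.sum_const, nsmul_eq_mul, mul_one] at this
    exact_mod_cast this
  obtain ⟨ψ₁, ψ₂, h12, hs12⟩ := Finset.card_eq_two.mp hcard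
  have hm1 : ψ₁ ∈ s := by rw [hs12]; simp
  have hm2 : ψ₂ ∈ s := by rw [hs12]; simp
  have hT1 : ψ₁ ≠ T := Finset.ne_of_mem_erase (Finset.mem_filter.mp hm1).1
  have hT2 : ψ₂ ≠ T := Finset.ne_of_mem_erase (Finset.mem_filter.mp hm2).1
  have hzero : ∀ ψ, ψ ≠ T → ψ ≠ ψ₁ → ψ ≠ ψ₂ → c ψ = 0 := by
    intro ψ h0 h1 h2
    by_contra hne
    have : ψ ∈ s := Finset.mem_filter.mpr ⟨Finset.mem_erase.mpr ⟨h0, Finset.mem_univ _⟩, hne⟩
    rw [hs12] at this
    simp [h1, h2] at this
  have hexp : ∀ F : IrrCharacter Q → ℂ, ∑ ψ, (c ψ : ℂ) * F ψ =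
      F T + (c ψ₁ : ℂ) * F ψ₁ + (c ψ₂ : ℂ) * F ψ₂ := by
    intro F
    rw [← Finset.sum_subset (Finset.subset_univ {T, ψ₁, ψ₂}) fun ψ _ hψ => by
      simp only [Finset.mem_insert, Finset.mem_singleton, not_or] at hψ
      simp [hzero ψ hψ.1 hψ.2.1 hψ.2.2]]
    rw [Finset.sum_insert (by simp [hT1.symm, hT2.symm]), Finset.sum_pair h12, hcT]
    push_cast
    ring
  have hzz := h.zz
  obtain ⟨d₁, hd₁, hd₁0, hd₁Q⟩ := exists_degree_dvd_card ψ₁.2
  obtain ⟨d₂, hd₂, hd₂0, hd₂Q⟩ := exists_degree_dvd_card ψ₂.2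
  obtain ⟨a₁, ha₁⟩ := exists_int_of_sq ψ₁.2 hzz
  obtain ⟨a₂, ha₂⟩ := exists_int_of_sq ψ₂.2 hzz
  have hval : ∀ g : Q, indFun (Subgroup.centralizer ({z} : Set Q)) (alpha π) g = 1 + (c ψ₁ : ℂ) * (ψ₁ : Q → ℂ) g + (c ψ₂ : ℂ) * (ψ₂ : Q → ℂ) g := by
    intro g
    rw [hc, Finset.sum_apply]
    simp only [Pi.smul_apply, smul_eq_mul]
    rw [hexp fun ψ => (ψ : Q → ℂ) g]
  have hz0 : indFun (Subgroup.centralizer ({z} : Set Q)) (alpha π) z = 0 := by
    have : ∀ x : Q, extendByZero (Subgroup.centralizer ({z} : Set Q)) (alpha π) (x⁻¹ * z * x) = 0 := fun x => by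
      by_cases hx : x⁻¹ * z * x ∈ (Subgroup.centralizer ({z} : Set Q))
      · rw [extendByZero_mem (Subgroup.centralizer ({z} : Set Q)) _ hx]
        have h2 : orderOf (x⁻¹ * z * x) = 2 := by
          have := MulEquiv.orderOf_eq (MulAut.conj x⁻¹) z
          rw [MulAut.conj_apply, inv_inv] at this
          rw [this, h.ord]
        rw [alpha, three_of_not (h.two _ h2)]
        simp
      · exact extendByZero_notMem (Subgroup.centralizer ({z} : Set Q)) _ hx
    simp [indFun, this]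
  have h10 : indFun (Subgroup.centralizer ({z} : Set Q)) (alpha π) 1 = 0 := by rw [indFun_one, halpha1, mul_zero]
  have hsq : ∀ ψ ∈ s, (c ψ : ℂ) * (c ψ : ℂ) = 1 := fun ψ hψ => by
    rw [← pow_two]; exact_mod_cast hone' ψ hψ
  set u : ℤ := c ψ₁ * d₁ with hu
  set v : ℤ := c ψ₂ * d₂ with hv
  set a : ℤ := c ψ₁ * a₁ with ha
  set b : ℤ := c ψ₂ * a₂ with hb
  have huv : u + v = -1 := by
    have := hval 1
    rw [h10, hd₁, hd₂] at this
    have : ((u + v : ℤ) : ℂ) = ((-1 : ℤ) : ℂ) := by rw [hu, hv]; push_cast; linear_combination -this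
    exact_mod_cast this
  have hab : a + b = -1 := by
    have := hval z
    rw [hz0, ha₁, ha₂] at this
    have : ((a + b : ℤ) : ℂ) = ((-1 : ℤ) : ℂ) := by rw [ha, hb]; push_cast; linear_combination -this
    exact_mod_cast this
  -- column at `z`
  have hcol : a ^ 2 + b ^ 2 + 1 ≤ (Nat.card ↥(Subgroup.centralizer ({z} : Set Q)) : ℤ) := by
    choose val hval' using fun ψ : IrrCharacter Q => exists_int_of_sq ψ.2 hzz
    have hall : ∑ ψ, val ψ ^ 2 = (Nat.card ↥(Subgroup.centralizer ({z} : Set Q)) : ℤ) := by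
      have := column_orthogonality z z
      rw [if_pos (IsConj.refl z)] at this
      simp only [hval', map_intCast, ← pow_two] at this
      exact_mod_cast this
    have h1 : val T = 1 := by
      have : ((val T : ℤ) : ℂ) = ((1 : ℤ) : ℂ) := by rw [← hval' T]; simp [T]
      exact_mod_cast this
    have e1 : val ψ₁ = a₁ := by exact_mod_cast (hval' ψ₁).symm.trans ha₁
    have e2 : val ψ₂ = a₂ := by exact_mod_cast (hval' ψ₂).symm.trans ha₂
    have hle := Finset.sum_le_univ_sum_of_nonneg (s := {T, ψ₁, ψ₂}) (fun ψ => sq_nonneg (val ψ))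
    rw [hall, Finset.sum_insert (by simp [hT1.symm, hT2.symm]), Finset.sum_pair h12, h1, e1, e2] at hle
    rw [ha, hb, mul_pow, mul_pow, hone' ψ₁ hm1, hone' ψ₂ hm2, one_mul, one_mul]
    linarith
  -- the two countings
  set F : Q → ℂ := fun y => (Nat.card {p : Q × Q // IsConj z p.1 ∧ IsConj z p.2 ∧ p.1 * p.2 = y} : ℂ) with hF
  have hFcl : IsClassFunction Q F := by
    intro y g
    simp only [hF]
    refine congrArg Nat.cast (Nat.card_congr (Equiv.subtypeEquiv
      ((MulAut.conj g⁻¹).toEquiv.prodCongr (MulAut.conj g⁻¹).toEquiv) fun p => ?_))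
    have hc : ∀ q : Q, IsConj z q ↔ IsConj z ((MulAut.conj g⁻¹) q) := fun q =>
      ⟨fun h => h.trans (isConj_iff.mpr ⟨g⁻¹, rfl⟩), fun h => h.trans (isConj_iff.mpr ⟨g⁻¹, rfl⟩).symm⟩
    show _ ↔ IsConj z ((MulAut.conj g⁻¹) p.1) ∧ IsConj z ((MulAut.conj g⁻¹) p.2) ∧
      (MulAut.conj g⁻¹) p.1 * (MulAut.conj g⁻¹) p.2 = y
    rw [← map_mul, ← hc, ← hc, MulAut.conj_apply, inv_inv]
    refine and_congr_right fun _ => and_congr_right fun _ => ⟨fun h => by rw [h]; group, fun h => ?_⟩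
    rw [← h]; group
  have hA : classInner (indFun (Subgroup.centralizer ({z} : Set Q)) (alpha π)) F = 18 := by
    rw [frobenius_reciprocity (Subgroup.centralizer ({z} : Set Q)) _ hFcl, classInner,
      Finset.sum_congr rfl fun s _ => show alpha π s * conj (F (s : Q)) = alpha π s * F (s : Q) by
        simp [hF],
      h.pairs_inner, inv_mul_eq_iff_eq_mul₀ hC0]
    have : ((2 * M ^ 2 : ℕ) : ℂ) = ((18 * Nat.card ↥(Subgroup.centralizer ({z} : Set Q)) : ℕ) : ℂ) := by rw [h.square]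
    push_cast at this
    linear_combination this
  set i : ℕ := (Subgroup.centralizer ({z} : Set Q)).index with hi
  have hi0 : (i : ℂ) ≠ 0 := Nat.cast_ne_zero.mpr Subgroup.index_ne_zero_of_finite
  have hQi : (Nat.card Q : ℂ) = (i : ℂ) * Nat.card ↥(Subgroup.centralizer ({z} : Set Q)) := by
    rw [← Nat.cast_mul, hi, Subgroup.index_mul_card]
  have hFexp : ∀ y : Q, F y = (i : ℂ) ^ 2 / (Nat.card Q : ℂ) *
      ∑ χ : IrrCharacter Q, (χ : Q → ℂ) z ^ 2 / (χ : Q → ℂ) 1 * conj ((χ : Q → ℂ) y) := by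
    intro y
    simp only [hF]
    rw [class_mult z z y, ← hi, pow_two]
    congr 1
    exact Finset.sum_congr rfl fun χ _ => by ring
  have hB : classInner (indFun (Subgroup.centralizer ({z} : Set Q)) (alpha π)) F =
      (i : ℂ) ^ 2 / (Nat.card Q : ℂ) * ∑ χ : IrrCharacter Q, (c χ : ℂ) * ((χ : Q → ℂ) z ^ 2 / (χ : Q → ℂ) 1) := by
    have hreal : ∀ χ : IrrCharacter Q, conj ((χ : Q → ℂ) z ^ 2 / (χ : Q → ℂ) 1) =
        (χ : Q → ℂ) z ^ 2 / (χ : Q → ℂ) 1 := fun χ => by
      obtain ⟨k, hk⟩ := exists_int_of_sq χ.2 hzz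
      obtain ⟨n, hn, -, -⟩ := exists_degree_dvd_card χ.2
      rw [hk, hn]; simp
    simp only [← hcoef]
    simp only [classInner, Finset.mul_sum, Finset.sum_mul]
    rw [Finset.sum_comm]
    refine Finset.sum_congr rfl fun y _ => ?_
    rw [← (show conj (F y) = F y by simp [hF]), hFexp y]
    simp only [map_mul, map_sum, map_div₀, map_pow, map_natCast, Complex.conj_conj, Finset.mul_sum]
    refine Finset.sum_congr rfl fun χ _ => ?_
    ring
  rw [hA, hexp fun χ => (χ : Q → ℂ) z ^ 2 / (χ : Q → ℂ) 1, ha₁, ha₂, hd₁, hd₂, hQi] at hB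
  simp only [T, one_pow, div_one] at hB
  have hd₁c : (d₁ : ℂ) ≠ 0 := Nat.cast_ne_zero.mpr hd₁0.ne'
  have hd₂c : (d₂ : ℂ) ≠ 0 := Nat.cast_ne_zero.mpr hd₂0.ne'
  refine ⟨a, u, ?_, ?_, ?_, ?_⟩
  · have : 1 + a = -b := by linarith
    rw [this, neg_sq]
    linarith
  · rcases sq_eq_one_iff.mp (hone' ψ₁ hm1) with e | e <;> rw [hu, e]
    · rw [one_mul]; exact Int.natCast_dvd_natCast.mpr hd₁Q
    · rw [neg_one_mul, neg_dvd]; exact Int.natCast_dvd_natCast.mpr hd₁Q
  · rw [show u + 1 = -v by linarith, neg_dvd]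
    rcases sq_eq_one_iff.mp (hone' ψ₂ hm2) with e | e <;> rw [hv, e]
    · rw [one_mul]; exact Int.natCast_dvd_natCast.mpr hd₂Q
    · rw [neg_one_mul, neg_dvd]; exact Int.natCast_dvd_natCast.mpr hd₂Q
  · have e1 := hsq ψ₁ hm1
    have e2 := hsq ψ₂ hm2
    have hB' : 18 * (Nat.card ↥(Subgroup.centralizer ({z} : Set Q)) : ℂ) * ((u : ℂ) * v) =
        (i : ℂ) * ((u : ℂ) * v + (a : ℂ) ^ 2 * v + (b : ℂ) ^ 2 * u) := by
      rw [hu, hv, ha, hb]
      push_cast
      field_simp at hB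
      linear_combination (c ψ₁ : ℂ) * (c ψ₂ : ℂ) * hB -
        (i : ℂ) * (c ψ₂ : ℂ) * (a₁ : ℂ) ^ 2 * (d₂ : ℂ) * e1 * 0
    have hBZ : 18 * (Nat.card ↥(Subgroup.centralizer ({z} : Set Q)) : ℤ) * (u * v) = (i : ℤ) * (u * v + a ^ 2 * v + b ^ 2 * u) := by
      exact_mod_cast hB'
    have hv' : v = -1 - u := by linarith
    have hb' : b = -1 - a := by linarith
    rw [hv', hb'] at hBZ
    linear_combination hBZ

end CfsgLib.SpinCent
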