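import Mathlib

/-!
# The solutions of the order equation
-/

set_option autoImplicit false

namespace CfsgLib.SpinCent

theorem coprime_div {N : ℤ} (hN : Odd N) (h9 : N % 9 = 1) (m : ℤ) (hm : m ∣ 2592) {e : ℤ}
    (h : m ∣ N * e) : m ∣ e := by
  refine (Int.isCoprime_iff_gcd_eq_one.mpr ?_).dvd_of_dvd_mul_left h
  have h2 : IsCoprime N 2 := Int.isCoprime_iff_gcd_eq_one.mpr (by
    rw [Int.gcd_eq_natAbs]
    exact Nat.coprime_two_right.mpr (Int.natAbs_odd.mpr hN))
  have h3 : IsCoprime N 3 := ⟨1, -(N / 3), by omega⟩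
  have h' : IsCoprime m N := by
    have := ((h2.pow_right (n := 5)).mul_right (h3.pow_right (n := 4))).symm
    norm_num at this
    exact this.of_isCoprime_of_dvd_left hm
  exact Int.isCoprime_iff_gcd_eq_one.mp h'

theorem dvd_36 {e : ℤ} (h : (648 : ℤ) ∣ e ^ 2) : (36 : ℤ) ∣ e := by
  have key : ∀ r : Fin 648, (r : ℕ) * (r : ℕ) % 648 = 0 → (r : ℕ) % 36 = 0 := by decide +kernel
  have hr : (e % 648).toNat < 648 := by omega
  have h1 : (648 : ℤ) ∣ (e % 648) * (e % 648) := by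
    rw [pow_two] at h
    exact Int.dvd_of_emod_eq_zero (by rw [← Int.mul_emod]; exact Int.emod_eq_zero_of_dvd h)
  have hc : ((e % 648).toNat : ℤ) = e % 648 := Int.toNat_of_nonneg (Int.emod_nonneg _ (by norm_num))
  have := key ⟨_, hr⟩ (Nat.mod_eq_zero_of_dvd (by
    have : (648 : ℤ) ∣ (((e % 648).toNat * (e % 648).toNat : ℕ) : ℤ) := by push_cast; rw [hc]; exact h1
    exact_mod_cast this))
  simp only at this
  omega

theorem dvd_72 {e : ℤ} (h : (2592 : ℤ) ∣ e ^ 2) : (72 : ℤ) ∣ e := by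
  obtain ⟨w, rfl⟩ : (2 : ℤ) ∣ e := Int.prime_two.dvd_of_dvd_pow (dvd_trans (by norm_num) h)
  obtain ⟨q, hq⟩ := h
  obtain ⟨j, rfl⟩ := dvd_36 (e := w) ⟨q, by linarith⟩
  exact ⟨j, by ring⟩

theorem sol_check_small : ∀ a' : Fin 8, ∀ j' : Fin 181,
    let a : ℤ := (a' : ℕ) - (4 : ℤ); let j : ℤ := (j' : ℕ) - (90 : ℤ); let u := a + 36 * j
    let d := 2 * j ^ 2; let n := u * (u + 1) / d
    j ≠ 0 → u * (u + 1) % d = 0 → n % 2 = 1 → n % 9 = 1 → (36 * n) % u = 0 → (36 * n) % (u + 1) = 0 →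
      a ^ 2 + (1 + a) ^ 2 < 36 → n = 703 ∨ n = 595 ∨ n = 1 := by
  decide +kernel

theorem sol_check_big : ∀ a' : Fin 18, ∀ j' : Fin 181,
    let a : ℤ := (a' : ℕ) - (9 : ℤ); let j : ℤ := (j' : ℕ) - (90 : ℤ); let u := a + 72 * j
    let d := 2 * j ^ 2; let n := u * (u + 1) / d
    j ≠ 0 → u * (u + 1) % d = 0 → n % 2 = 1 → n % 9 = 1 → (144 * n) % u = 0 → (144 * n) % (u + 1) = 0 →
      a ^ 2 + (1 + a) ^ 2 < 144 → n = 2701 ∨ n = 2485 ∨ n = 1 := by
  decide +kernel

theorem j_bound {a j k N : ℤ} (hk : 0 < k) (hk' : k ≤ 90) (ha : -10 < a) (ha' : a < 9) (hj : j ≠ 0)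
    (h : 2 * N * j ^ 2 = (a + k * j) * (a + k * j + 1)) : -90 ≤ j ∧ j ≤ 90 := by
  have hd : j ∣ a * (a + 1) := ⟨2 * N * j - k ^ 2 * j - 2 * a * k - k, by linear_combination -h⟩
  by_cases h0 : a * (a + 1) = 0
  · rcases mul_eq_zero.mp h0 with ha0 | ha0
    · subst ha0
      have h1 : j * (2 * N * j) = j * (k * (k * j + 1)) := by linear_combination h
      have h2 := mul_left_cancel₀ hj h1
      have hd : j ∣ k := ⟨2 * N - k ^ 2, by linear_combination -h2⟩
      have := Int.le_of_dvd hk hd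
      have := Int.le_of_dvd hk (Int.neg_dvd.mpr hd)
      constructor <;> linarith
    · have ha1 : a = -1 := by linarith
      subst ha1
      have h1 : j * (2 * N * j) = j * (k * (k * j - 1)) := by linear_combination h
      have h2 := mul_left_cancel₀ hj h1
      have hd : j ∣ k := ⟨k ^ 2 - 2 * N, by linear_combination h2⟩
      have := Int.le_of_dvd hk hd
      have := Int.le_of_dvd hk (Int.neg_dvd.mpr hd)
      constructor <;> linarith
  · have hpos : 0 < |a * (a + 1)| := abs_pos.mpr h0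
    have hle : |a * (a + 1)| ≤ 90 := by rw [abs_le]; constructor <;> nlinarith
    have := Int.le_of_dvd hpos ((dvd_abs _ _).mpr hd)
    have := Int.le_of_dvd hpos ((dvd_abs _ _).mpr (Int.neg_dvd.mpr hd))
    constructor <;> linarith

/-- The indices for a centraliser of order 36. -/
theorem index_small {a u : ℤ} {N : ℕ} (ha : a ^ 2 + (1 + a) ^ 2 < 36) (hN : Odd N) (h9 : N % 9 = 1)
    (hu : u ∣ 36 * (N : ℤ)) (hu1 : u + 1 ∣ 36 * (N : ℤ))
    (h : (N : ℤ) * (u - a) ^ 2 = 18 * 36 * (u * (u + 1))) : N = 703 ∨ N = 595 ∨ N = 1 := by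
  have hN' : Odd (N : ℤ) := by exact_mod_cast hN
  obtain ⟨j, hj⟩ := dvd_36 (coprime_div hN' (by omega) 648 (by norm_num)
    (e := (u - a) ^ 2) ⟨u * (u + 1), by linarith⟩)
  have hN0 : (N : ℤ) ≠ 0 := by exact_mod_cast hN.pos.ne'
  have e : 2 * (N : ℤ) * j ^ 2 = u * (u + 1) := by rw [hj] at h; linarith
  have hj0 : j ≠ 0 := by
    rintro rfl
    have : u * (u + 1) = 0 := by linarith
    rcases mul_eq_zero.mp this with rfl | h1
    · exact hN0 (by have := zero_dvd_iff.mp hu; linarith)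
    · rw [h1] at hu1; exact hN0 (by have := zero_dvd_iff.mp hu1; linarith)
  have hu' : u = a + 36 * j := by linarith
  have hlo : -4 ≤ a := by nlinarith
  have hhi : a ≤ 3 := by nlinarith
  obtain ⟨b1, b2⟩ := j_bound (a := a) (j := j) (k := 36) (N := N) (by norm_num) (by norm_num) (by linarith) (by linarith) hj0
    (by rw [← hu']; exact e)
  have key := sol_check_small ⟨(a + 4).toNat, by omega⟩ ⟨(j + 90).toNat, by omega⟩
  simp only [show (((a + 4).toNat : ℕ) : ℤ) - 4 = a by omega,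
    show (((j + 90).toNat : ℕ) : ℤ) - 90 = j by omega, ← hu'] at key
  have hd : u * (u + 1) / (2 * j ^ 2) = (N : ℤ) := by
    rw [← e, show 2 * (N : ℤ) * j ^ 2 = (N : ℤ) * (2 * j ^ 2) by ring, Int.mul_ediv_cancel _ (by positivity)]
  rw [hd] at key
  have := key hj0 (Int.emod_eq_zero_of_dvd ⟨N, by linarith⟩) (by have := Int.odd_iff.mp hN'; omega) (by omega)
    (Int.emod_eq_zero_of_dvd hu) (Int.emod_eq_zero_of_dvd hu1) ha
  omega

/-- The indices for a centraliser of order 144. -/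
theorem index_big {a u : ℤ} {N : ℕ} (ha : a ^ 2 + (1 + a) ^ 2 < 144) (hN : Odd N) (h9 : N % 9 = 1)
    (hu : u ∣ 144 * (N : ℤ)) (hu1 : u + 1 ∣ 144 * (N : ℤ))
    (h : (N : ℤ) * (u - a) ^ 2 = 18 * 144 * (u * (u + 1))) : N = 2701 ∨ N = 2485 ∨ N = 1 := by
  have hN' : Odd (N : ℤ) := by exact_mod_cast hN
  obtain ⟨j, hj⟩ := dvd_72 (coprime_div hN' (by omega) 2592 dvd_rfl
    (e := (u - a) ^ 2) ⟨u * (u + 1), by linarith⟩)
  have hN0 : (N : ℤ) ≠ 0 := by exact_mod_cast hN.pos.ne'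
  have e : 2 * (N : ℤ) * j ^ 2 = u * (u + 1) := by rw [hj] at h; linarith
  have hj0 : j ≠ 0 := by
    rintro rfl
    have : u * (u + 1) = 0 := by linarith
    rcases mul_eq_zero.mp this with rfl | h1
    · exact hN0 (by have := zero_dvd_iff.mp hu; linarith)
    · rw [h1] at hu1; exact hN0 (by have := zero_dvd_iff.mp hu1; linarith)
  have hu' : u = a + 72 * j := by linarith
  have hlo : -9 ≤ a := by nlinarith
  have hhi : a ≤ 8 := by nlinarith
  obtain ⟨b1, b2⟩ := j_bound (a := a) (j := j) (k := 72) (N := N) (by norm_num) (by norm_num) (by linarith) (by linarith) hj0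
    (by rw [← hu']; exact e)
  have key := sol_check_big ⟨(a + 9).toNat, by omega⟩ ⟨(j + 90).toNat, by omega⟩
  simp only [show (((a + 9).toNat : ℕ) : ℤ) - 9 = a by omega,
    show (((j + 90).toNat : ℕ) : ℤ) - 90 = j by omega, ← hu'] at key
  have hd : u * (u + 1) / (2 * j ^ 2) = (N : ℤ) := by
    rw [← e, show 2 * (N : ℤ) * j ^ 2 = (N : ℤ) * (2 * j ^ 2) by ring, Int.mul_ediv_cancel _ (by positivity)]
  rw [hd] at key
  have := key hj0 (Int.emod_eq_zero_of_dvd ⟨N, by linarith⟩) (by have := Int.odd_iff.mp hN'; omega) (by omega)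
    (Int.emod_eq_zero_of_dvd hu) (Int.emod_eq_zero_of_dvd hu1) ha
  omega

end CfsgLib.SpinCent
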