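import Cfsg.Agent.Lib.SpinCent.CaseAQuot
import Cfsg.Agent.Lib.SpinCent.Order
import Cfsg.Agent.Lib.SpinCent.OrderArith
import Cfsg.Agent.Lib.SpinCent.Kill

/-!
# Nine or ten points: the centraliser of the three lifts lies in the centraliser of `z`

The centraliser of `y` modulo `y` has one class of involutions with a small centraliser, so the order
equation gives its order, and groups of those orders do not occur.
-/

set_option autoImplicit false
set_option linter.unusedSectionVars false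
set_option linter.style.haveILetI false

namespace CfsgLib.SpinCent

open Equiv Equiv.Perm

namespace CaseA

variable {G : Type*} [Group G] [Finite G] {k : ℕ} {z x : G} (T : Mdl k) (S : Std (6 + k) z x)

theorem J_le_Yc : J S ≤ Yc S := inf_le_right

/-- The inclusion. -/
abbrev jy : ↥(J S) →* ↥(Yc S) := Subgroup.inclusion (J_le_Yc S)

theorem mk_jy_comm (g : ↥(J S)) : mk S (jy S g) ∈ Subgroup.centralizer ({zq S} : Set (Qy S)) := by
  rw [Subgroup.mem_centralizer_singleton_iff, ← map_mul, ← map_mul]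
  exact congrArg _ (Subtype.ext ((mem_J S).mp g.2).1)

/-- `J` onto the centraliser of the image of `z`. -/
def psi : ↥(J S) →* ↥(Subgroup.centralizer ({zq S} : Set (Qy S))) :=
  ((mk S).comp (jy S)).codRestrict _ (mk_jy_comm S)

theorem coe_psi (g : ↥(J S)) : (psi S g : Qy S) = mk S (jy S g) := rfl

theorem psi_surjective : Function.Surjective (psi S) := by
  rintro ⟨q, hq⟩
  obtain ⟨a, rfl⟩ := QuotientGroup.mk'_surjective (Ny S) q
  have e := comm_of_mk S (g := a) (v := ⟨z, z_mem_Yc S⟩) S.H.zz (Subgroup.mem_centralizer_singleton_iff.mp hq)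
  exact ⟨⟨a, (mem_J S).mpr ⟨e, (mem_Yc S).mp a.2⟩⟩, rfl⟩

theorem mem_ker_psi {g : ↥(J S)} : g ∈ (psi S).ker ↔ ∃ j : ℕ, (g : G) = S.y ^ j := by
  rw [MonoidHom.mem_ker]
  constructor
  · intro h
    have h' : mk S 1 = mk S (jy S g) := (map_one _).trans (congrArg Subtype.val h).symm
    obtain ⟨j, hj⟩ := (mk_eq_iff S).mp h'
    exact ⟨j, hj.trans (one_mul _)⟩
  · rintro ⟨j, hj⟩
    exact Subtype.ext (((mk_eq_iff S).mpr ⟨j, hj.trans (one_mul _).symm⟩).symm.trans (map_one _))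

theorem card_ker_psi : Nat.card (psi S).ker = 3 := by
  have e : (psi S).ker = Subgroup.zpowers (⟨S.y, y_mem_J S⟩ : ↥(J S)) := by
    ext g
    rw [mem_ker_psi, ← mem_powers_iff_mem_zpowers, Submonoid.mem_powers_iff]
    exact exists_congr fun j => by rw [Subtype.ext_iff, SubmonoidClass.coe_pow]; exact eq_comm
  rw [e, Nat.card_zpowers, ← Subgroup.orderOf_coe, Subgroup.coe_mk, S.orderOf_y]

include T in
theorem card_cq {h : ℕ} (hh : 3 * h = 2 * T.c) :
    Nat.card ↥(Subgroup.centralizer ({zq S} : Set (Qy S))) = h := by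
  have e := Subgroup.card_mul_index (psi S).ker
  rw [Subgroup.index_ker, MonoidHom.range_eq_top.mpr (psi_surjective S), Subgroup.card_top, card_ker_psi,
    card_J T S, ← hh] at e
  omega

/-- The action on the points outside the six. -/
noncomputable def offHom : ↥(J S) →* Perm (Fin 3) :=
  T.π.comp ((MonoidHom.snd _ _).comp (co T S))

theorem offHom_ker : (psi S).ker ≤ (offHom T S).ker := fun g hg => by
  obtain ⟨j, hj⟩ := (mem_ker_psi S).mp hg
  rw [MonoidHom.mem_ker, show g = (⟨S.y, y_mem_J S⟩ : ↥(J S)) ^ j from Subtype.ext (by simpa using hj),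
    map_pow]
  show T.π (co T S ⟨S.y, y_mem_J S⟩).2 ^ j = 1
  rw [co_y, map_one, one_pow]

/-- The action on three letters. -/
noncomputable def piq : ↥(Subgroup.centralizer ({zq S} : Set (Qy S))) →* Perm (Fin 3) :=
  MonoidHom.liftOfSurjective (psi S) (psi_surjective S) ⟨offHom T S, offHom_ker T S⟩

theorem piq_psi (g : ↥(J S)) : piq T S (psi S g) = T.π (co T S g).2 :=
  MonoidHom.liftOfRightInverse_comp_apply _ _ _ _ g

include T in
theorem exists_invol_co {w : W k} (hw : IsInvol w) :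
    ∃ v : ↥(J S), co T S v = w ∧ (v : G) * v = 1 := by
  obtain ⟨d, hd, hd'⟩ := T.facts.invol_conj w hw
  obtain ⟨g, rfl⟩ := exists_lift T S hd
  refine ⟨g * ⟨x, x_mem_J S⟩ * g⁻¹, by rw [map_mul, map_mul, map_inv, co_x, hd'], ?_⟩
  show (g : G) * x * (g : G)⁻¹ * ((g : G) * x * (g : G)⁻¹) = 1
  rw [show (g : G) * x * (g : G)⁻¹ * ((g : G) * x * (g : G)⁻¹) = g * (x * x) * (g : G)⁻¹ by group, S.xx,
    mul_one, mul_inv_cancel]

theorem J_sq_mul_z {g : ↥(J S)} (gg : (g : G) * g = 1) :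
    ((g : G) * z) * ((g : G) * z) = 1 := by
  rw [mul_assoc (g : G), ← mul_assoc z, ← ((mem_J S).mp g.2).1, mul_assoc (g : G) z, S.H.zz, mul_one, gg]

/-- The involutions of the centraliser of `zq`, other than `zq`. -/
abbrev Outer : Type _ :=
  {u : ↥(Subgroup.centralizer ({zq S} : Set (Qy S))) // orderOf (u : Qy S) = 2 ∧ (u : Qy S) ≠ zq S}

theorem mk_ne_zq {v : ↥(Yc S)} (vv : (v : G) * v = 1) (vz : (v : G) ≠ z) : mk S v ≠ zq S := fun e => by
  obtain ⟨j, hj⟩ := (mk_eq_iff S).mp e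
  have hc : Commute (v : G) (S.y ^ j) := (show Commute (v : G) S.y from (mem_Yc S).mp v.2).pow_right j
  have h2 : (S.y ^ j) ^ 2 = 1 := by
    have := congrArg (fun t => t * t) hj
    simp only at this
    rw [S.H.zz, hc.symm.mul_mul_mul_comm, vv, one_mul] at this
    rw [pow_two]; exact this.symm
  rw [pow_y_eq_one S h2, mul_one] at hj
  exact vz hj.symm

theorem outer_lift (u : Outer S) : ∃ v : ↥(J S), psi S v = u.1 ∧ (v : G) * v = 1 ∧ (v : G) ≠ 1 ∧ (v : G) ≠ z := by
  obtain ⟨v, hv, vv, v1⟩ := exists_invol_lift S u.2.1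
  have hc : (v : G) * z = z * v := comm_of_mk S (g := v) (v := ⟨z, z_mem_Yc S⟩) S.H.zz
    (by rw [hv]; exact Subgroup.mem_centralizer_singleton_iff.mp u.1.2)
  refine ⟨⟨v, (mem_J S).mpr ⟨hc, (mem_Yc S).mp v.2⟩⟩, Subtype.ext hv, vv, v1, fun e => u.2.2 ?_⟩
  rw [← hv]
  exact congrArg _ (Subtype.ext e)

include T in
theorem count_outer : Nat.card (Outer S) = 2 * T.M := by
  classical
  rw [← T.facts.invol_count, mul_comm, show (2 : ℕ) = Nat.card Bool by simp, ← Nat.card_prod]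
  symm
  choose v hv vv using fun w : {w : W k // IsInvol w} => exists_invol_co T S w.2
  let f : {w : W k // IsInvol w} × Bool → ↥(J S) := fun p =>
    bif p.2 then v p.1 * ⟨z, z_mem_J S⟩ else v p.1
  have fco : ∀ p, co T S (f p) = p.1.1 := by
    rintro ⟨w, b⟩
    cases b
    · exact hv w
    · show co T S (v w * _) = _
      rw [map_mul, co_z, mul_one, hv]
  have fsq : ∀ p, (f p : G) * f p = 1 := by
    rintro ⟨w, b⟩
    cases b
    · exact vv w
    · exact J_sq_mul_z S (vv w)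
  have wne : ∀ w : {w : W k // IsInvol w}, w.1 ≠ 1 := fun w e => by
    have := w.2.2.2
    rw [e] at this
    simp [moved] at this
  have fne : ∀ p, (f p : G) ≠ 1 ∧ (f p : G) ≠ z := fun p =>
    ⟨fun e => wne p.1 (by rw [← fco p, show f p = 1 from Subtype.ext e, map_one]),
      fun e => wne p.1 (by rw [← fco p, show f p = ⟨z, z_mem_J S⟩ from Subtype.ext e, co_z])⟩
  refine Nat.card_congr (Equiv.ofBijective (fun p => (⟨psi S (f p),
    orderOf_mk_invol S (fsq p) (fne p).1, mk_ne_zq S (fsq p) (fne p).2⟩ : Outer S)) ⟨?_, ?_⟩)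
  · rintro ⟨w, b⟩ ⟨w', b'⟩ e
    have e1 : mk S (jy S (f (w, b))) = mk S (jy S (f (w', b'))) :=
      congrArg (fun u : Outer S => ((u.1 : Qy S))) e
    obtain ⟨j, hj⟩ := (mk_eq_iff S).mp e1
    have hc : Commute ((f (w, b) : ↥(J S)) : G) (S.y ^ j) :=
      (show Commute ((f (w, b) : ↥(J S)) : G) S.y from ((mem_J S).mp (f (w, b)).2).2).pow_right j
    have hj1 : S.y ^ j = 1 := pow_y_eq_one S (by
      have h2 := fsq (w', b')
      rw [show ((f (w', b') : ↥(J S)) : G) = (f (w, b) : G) * S.y ^ j from hj,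
        hc.symm.mul_mul_mul_comm, fsq, one_mul] at h2
      rw [pow_two, h2])
    have ef : f (w, b) = f (w', b') := Subtype.ext (by
      show (f (w, b) : G) = _
      rw [show ((f (w', b') : ↥(J S)) : G) = (f (w, b) : G) * S.y ^ j from hj, hj1, mul_one])
    have ew : w = w' := Subtype.ext (by rw [← fco (w, b), ← fco (w', b'), ef])
    subst ew
    have hne : (v w : G) ≠ (v w : G) * z := fun h => S.H.z_ne (left_eq_mul.mp h)
    cases b <;> cases b' <;> first
      | rfl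
      | exact absurd (congrArg Subtype.val ef) hne
      | exact absurd (congrArg Subtype.val ef).symm hne
  · intro u
    obtain ⟨g, hg, gg, g1, gz⟩ := outer_lift S u
    have hI := isInvol_co T S gg g1 gz
    rcases eq_or_of_co T S (g := g) (h := v ⟨_, hI⟩) (hv ⟨_, hI⟩).symm with e | e
    · refine ⟨(⟨_, hI⟩, false), Subtype.ext ?_⟩
      show psi S (v ⟨_, hI⟩) = u.1
      rw [← hg]; exact congrArg _ (Subtype.ext e.symm)
    · refine ⟨(⟨_, hI⟩, true), Subtype.ext ?_⟩
      show psi S (v ⟨_, hI⟩ * ⟨z, z_mem_J S⟩) = u.1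
      rw [← hg]; exact congrArg _ (Subtype.ext e.symm)

theorem lift_ext_J {g h : ↥(J S)} (g3 : (g : G) ^ 3 = 1) (h3 : (h : G) ^ 3 = 1) (e : co T S g = co T S h) :
    (g : G) = h :=
  S.lift_ext ((mem_J S).mp g.2).1 ((mem_J S).mp h.2).1 g3 h3 (by rw [← co_spec T S g, ← co_spec T S h, e])

include T in
theorem uniq_q (hA : Assume S) (s : ↥(Subgroup.centralizer ({zq S} : Set (Qy S))))
    (hs : orderOf (piq T S s) = 3) (u : Qy S) (hu : orderOf u = 2) (hc : u * s = s * u) : u = zq S := by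
  obtain ⟨g, rfl⟩ := psi_surjective S s
  obtain ⟨v, rfl, vv, v1⟩ := exists_invol_lift S hu
  have hgv : (g : G) * v = v * g := comm_of_mk S (g := jy S g) vv hc.symm
  rw [piq_psi, orderOf_eq_prime_iff] at hs
  have hsign : sign (T.π (co T S g).2) = 1 := by
    have h1 := congrArg sign hs.1
    rw [map_pow, map_one] at h1
    rcases Int.units_eq_one_or (sign (T.π (co T S g).2)) with e | e
    · exact e
    · rw [e] at h1; exact absurd h1 (by decide)
  obtain ⟨w3, d, hd, i, j, e, hde⟩ := T.facts.three _ (co_mem T S g) hs.2 hsign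
  obtain ⟨dd, rfl⟩ := exists_lift T S hd
  have g12 : ((g ^ 4 : ↥(J S)) : G) ^ 3 = 1 := by
    have h := (mem_ker_co T S (g := g ^ 3)).mp (by rw [MonoidHom.mem_ker, map_pow, w3])
    rw [SubmonoidClass.coe_pow] at h ⊢
    rw [← pow_mul, show 4 * 3 = 3 * 4 from rfl, pow_mul]
    rcases h with h | h <;> rw [h]
    · rw [one_pow]
    · rw [show 4 = 2 * 2 from rfl, pow_mul, pow_two z, S.H.zz, one_pow]
  have hbJ : S.c₁ ^ i.1 * S.c₃ * S.y ^ j.1 ∈ J S :=
    (mem_J S).mpr ⟨S.P3_comm_z (mul_mem (mul_mem (pow_mem S.c₁_mem _) S.c₃_mem) (pow_mem S.y_mem _)),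
      S.P3_comm (mul_mem (mul_mem (pow_mem S.c₁_mem _) S.c₃_mem) (pow_mem S.y_mem _)) S.y_mem⟩
  set base : ↥(J S) := ⟨_, hbJ⟩ with hbase
  have hcob : co T S base = ((a6 ^ i.1 * y6 ^ j.1, T.C) : W k) := by
    refine (co_eq T S (w := ((a6, 1) : W k) ^ i.1 * (1, T.C) * ((y6, 1) : W k) ^ j.1) ?_).trans ?_
    · have h1 : S.c₁ ^ i.1 * z = z * S.c₁ ^ i.1 := Hyp.comm_pow S.comm₁ _
      rw [hbase, S.H.p_mul (Hyp.comm_mul h1 S.comm₃) (Hyp.comm_pow S.y_z _), S.H.p_mul h1 S.comm₃,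
        S.H.p_pow S.comm₁, S.H.p_pow S.y_z, S.p₁, S.p₃, py T S, T.embA, T.embC, map_mul, map_mul, map_pow,
        map_pow]
    · simp only [Prod.pow_mk, one_pow, Prod.mk_mul_mk, mul_one, one_mul]
  have hb3 : (base : G) ^ 3 = 1 :=
    S.P3_cube (mul_mem (mul_mem (pow_mem S.c₁_mem _) S.c₃_mem) (pow_mem S.y_mem _))
  have hconj : ((dd * g ^ 4 * dd⁻¹ : ↥(J S)) : G) = (base : G) ^ (e.1 + 1) := by
    rw [← SubmonoidClass.coe_pow]
    refine lift_ext_J T S ?_ ?_ ?_
    · show ((dd : G) * (g ^ 4 : ↥(J S)) * (dd : G)⁻¹) ^ 3 = 1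
      rw [conj_pow, g12, mul_one, mul_inv_cancel]
    · rw [SubmonoidClass.coe_pow, ← pow_mul, mul_comm, pow_mul, hb3, one_pow]
    · rw [map_mul, map_mul, map_inv, map_pow, map_pow, hcob, ← hde,
        show 4 = 3 + 1 from rfl, pow_succ, w3, one_mul]
  have hdz : (dd : G) * z * (dd : G)⁻¹ = z := mul_inv_eq_iff_eq_mul.mpr ((mem_J S).mp dd.2).1
  set v' : G := (dd : G) * v * (dd : G)⁻¹ with hv'
  have hv'y : v' * S.y = S.y * v' :=
    (mem_Yc S).mp ((Yc S).mul_mem ((Yc S).mul_mem (jy S dd).2 v.2) ((Yc S).inv_mem (jy S dd).2))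
  have hv'b : Commute v' ((base : G) ^ (e.1 + 1)) := by
    rw [← hconj]
    exact ((show Commute (v : G) (g : G) from hgv.symm).pow_right 4).map (MulAut.conj (dd : G)).toMonoidHom
  have hv'b1 : Commute v' (base : G) := by
    have h := hv'b.pow_right (e.1 + 1)
    have he : ((base : G) ^ (e.1 + 1)) ^ (e.1 + 1) = base := by
      rw [← pow_mul, pow_eq_pow_mod _ hb3]
      rcases (show e.1 = 0 ∨ e.1 = 1 by omega) with e0 | e0 <;> rw [e0] <;> norm_num
    rwa [he] at h
  have hv'q : v' * (S.c₁ ^ i.1 * S.c₃) = S.c₁ ^ i.1 * S.c₃ * v' := by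
    have h := hv'b1.mul_right ((show Commute v' S.y from hv'y).pow_right j.1).inv_right
    rw [hbase, mul_inv_cancel_right] at h
    exact h.eq
  have hgood : Good S (S.c₁ ^ i.1 * S.c₃) := Or.inr ⟨i, rfl⟩
  have hvz := unique_invol S hA (good_mem S hgood) (good_x S hgood) (good_no T S hgood) hv'y hv'q
    (by rw [hv', show (dd : G) * v * (dd : G)⁻¹ * ((dd : G) * v * (dd : G)⁻¹) = dd * (v * v) * (dd : G)⁻¹ by
      group, vv, mul_one, mul_inv_cancel])
    (fun h => v1 (by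
      rw [hv'] at h
      exact (conj_eq_one_iff).mp h))
  refine congrArg _ (Subtype.ext ?_)
  exact mul_left_cancel (mul_right_cancel (hvz.trans hdz.symm))

include T in
theorem ordHyp (hA : Assume S) {h : ℕ} (hh : 3 * h = 2 * T.c) (hM : 2 * (2 * T.M) ^ 2 = 18 * h) :
    OrdHyp (zq S) (piq T S) (2 * T.M) where
  ord := orderOf_zq S
  ker hz := by
    rw [show (⟨zq S, hz⟩ : ↥(Subgroup.centralizer ({zq S} : Set (Qy S)))) = psi S ⟨z, z_mem_J S⟩ from rfl,
      piq_psi, co_z]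
    exact map_one _
  surj σ := by
    obtain ⟨w, hw, rfl⟩ := T.facts.surj σ
    obtain ⟨g, rfl⟩ := exists_lift T S hw
    exact ⟨psi S g, piq_psi T S g⟩
  fused := fused_mk T S
  uniq := uniq_q T S hA
  outer u hu hne := by
    obtain ⟨g, hg, gg, g1, gz⟩ := outer_lift S ⟨u, hu, hne⟩
    rw [← show psi S g = u from hg, piq_psi]
    exact T.facts.invol_outer _ (isInvol_co T S gg g1 gz)
  count := count_outer T S
  square := by rw [card_cq T S hh, hM]

/-- The image of the three lifts. -/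
def pq : ↥S.P3 →* Qy S :=
  (mk S).comp (Subgroup.inclusion fun _ ha => (mem_Yc S).mpr (S.P3_comm ha S.y_mem))

theorem mem_ker_pq {a : ↥S.P3} : a ∈ (pq S).ker ↔ ∃ j : ℕ, (a : G) = S.y ^ j := by
  rw [MonoidHom.mem_ker]
  constructor
  · intro h
    obtain ⟨j, hj⟩ := (mk_eq_iff S).mp ((map_one (mk S)).trans h.symm :
      mk S 1 = mk S ⟨(a : G), (mem_Yc S).mpr (S.P3_comm a.2 S.y_mem)⟩)
    exact ⟨j, hj.trans (one_mul _)⟩
  · rintro ⟨j, hj⟩
    exact ((mk_eq_iff S).mpr ⟨j, hj.trans (one_mul _).symm⟩ :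
      mk S 1 = mk S ⟨(a : G), (mem_Yc S).mpr (S.P3_comm a.2 S.y_mem)⟩).symm.trans (map_one _)

theorem card_range_pq : Nat.card (pq S).range = 9 := by
  have e := Subgroup.card_mul_index (pq S).ker
  have e3 : Nat.card (pq S).ker = 3 := by
    have h : (pq S).ker = Subgroup.zpowers (⟨S.y, S.y_mem⟩ : ↥S.P3) := by
      ext g
      rw [mem_ker_pq, ← mem_powers_iff_mem_zpowers, Submonoid.mem_powers_iff]
      exact exists_congr fun j => by rw [Subtype.ext_iff, SubmonoidClass.coe_pow]; exact eq_comm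
    rw [h, Nat.card_zpowers, ← Subgroup.orderOf_coe, Subgroup.coe_mk, S.orderOf_y]
  rw [e3, Subgroup.index_ker, S.card_P3] at e
  omega

/-- Every element of three power order is conjugate into the image of the three lifts. -/
theorem three_conj (hA : Assume S) {t : Qy S} {m : ℕ} (ht : t ^ 3 ^ m = 1) :
    ∃ b : Qy S, ∃ a : ↥S.P3, b * t * b⁻¹ = pq S a := by
  haveI := Fact.mk Nat.prime_three
  have hP : IsPGroup 3 (pq S).range := IsPGroup.of_card (n := 2) (by rw [card_range_pq]; norm_num)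
  obtain ⟨P, hPle⟩ := hP.exists_le_sylow
  have hker : IsPGroup 3 (mk S).ker := by
    rw [QuotientGroup.ker_mk']
    exact IsPGroup.of_card (n := 1) (by rw [Nat.card_zpowers, ← Subgroup.orderOf_coe, Subgroup.coe_mk, S.orderOf_y, pow_one])
  have hWp : IsPGroup 3 ((P : Subgroup (Qy S)).comap (mk S)) := P.isPGroup'.comap_of_ker_isPGroup _ hker
  set W : Subgroup G := ((P : Subgroup (Qy S)).comap (mk S)).map (Yc S).subtype with hW
  have heq : S.P3 = W := max_P3 S hA (hWp.map _) (fun a ha =>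
    ⟨⟨a, (mem_Yc S).mpr (S.P3_comm ha S.y_mem)⟩, hPle ⟨⟨a, ha⟩, rfl⟩, rfl⟩) (by
      rintro _ ⟨a, -, rfl⟩
      exact (mem_Yc S).mp a.2)
  have hrange : ∀ q ∈ P, ∃ a : ↥S.P3, q = pq S a := by
    intro q hq
    obtain ⟨a, rfl⟩ := QuotientGroup.mk'_surjective (Ny S) q
    exact ⟨⟨a, by rw [heq]; exact ⟨a, hq, rfl⟩⟩, rfl⟩
  have hT : IsPGroup 3 (Subgroup.zpowers t) := by
    obtain ⟨l, -, hl⟩ := (Nat.dvd_prime_pow Nat.prime_three).mp (orderOf_dvd_of_pow_eq_one ht)
    exact IsPGroup.of_card (n := l) (by rw [Nat.card_zpowers, hl])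
  obtain ⟨P', hP'⟩ := hT.exists_le_sylow
  obtain ⟨b, hb⟩ := MulAction.exists_smul_eq (Qy S) P' P
  have hmem : b * t * b⁻¹ ∈ P := by
    rw [← hb]
    exact Subgroup.mem_map.mpr ⟨t, hP' (Subgroup.mem_zpowers t), rfl⟩
  obtain ⟨a, ha⟩ := hrange _ hmem
  exact ⟨b, a, ha⟩

include T in
theorem comm_z_of_norm (hA : Assume S) {a : ↥S.P3} (ha : ∀ j : ℕ, (a : G) ≠ S.y ^ j) {g : ↥(Yc S)}
    (hg : mk S g * pq S a = pq S a * mk S g) : (g : G) * z = z * g := by
  obtain ⟨j, hj⟩ := (mk_eq_iff S).mp ((map_mul (mk S) _ _).trans (hg.trans (map_mul (mk S) _ _).symm) :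
    mk S (g * ⟨(a : G), (mem_Yc S).mpr (S.P3_comm a.2 S.y_mem)⟩) =
      mk S (⟨(a : G), (mem_Yc S).mpr (S.P3_comm a.2 S.y_mem)⟩ * g))
  simp only [Subgroup.coe_mul] at hj
  set zc : G := (g : G) * z * (g : G)⁻¹ with hzc
  have hgy : (g : G) * S.y * (g : G)⁻¹ = S.y := mul_inv_eq_iff_eq_mul.mpr ((mem_Yc S).mp g.2)
  have zy : Commute zc S.y := by
    rw [← hgy]
    exact (show Commute z S.y from S.y_z.symm).map (MulAut.conj (g : G)).toMonoidHom
  have hga : (g : G) * (a : G) * (g : G)⁻¹ = (a : G) * (S.y ^ j)⁻¹ := by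
    rw [eq_mul_inv_iff_mul_eq]
    have hc : Commute (S.y ^ j) (g : G) := ((show Commute S.y (g : G) from ((mem_Yc S).mp g.2).symm)).pow_left j
    calc (g : G) * a * (g : G)⁻¹ * S.y ^ j = g * a * ((g : G)⁻¹ * S.y ^ j) := by group
      _ = g * a * (S.y ^ j * (g : G)⁻¹) := by rw [hc.inv_right.symm.eq]
      _ = (g * a * S.y ^ j) * (g : G)⁻¹ := by group
      _ = _ := by rw [← hj]; group
  have za : Commute zc (a : G) := by
    have h1 : Commute zc ((g : G) * (a : G) * (g : G)⁻¹) :=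
      (show Commute z (a : G) from (S.P3_comm_z a.2).symm).map (MulAut.conj (g : G)).toMonoidHom
    rw [hga] at h1
    have h2 := h1.mul_right (zy.pow_right j)
    rwa [inv_mul_cancel_right] at h2
  have e := eq_z_of_comm_P3 T S hA a.2 ha zy.eq za.eq
    (by rw [hzc, show (g : G) * z * (g : G)⁻¹ * ((g : G) * z * (g : G)⁻¹) = g * (z * z) * (g : G)⁻¹ by group,
      S.H.zz, mul_one, mul_inv_cancel])
    (fun h => S.H.z_ne (conj_eq_one_iff.mp h))
  exact mul_inv_eq_iff_eq_mul.mp e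

include T in
theorem killHyp (hA : Assume S) {h : ℕ} (hh : 3 * h = 2 * T.c) (hc : h = 36 ∨ h = 144)
    (hk : h = 36 → k = 3) : KillHyp (zq S) h where
  c3 := hc
  cardC := card_cq T S hh
  fused := fused_mk T S
  three t g ht hgt := by
    obtain ⟨b, a, hba⟩ := three_conj S hA (t := t) (m := 1) (by rw [pow_one, ← ht, pow_orderOf_eq_one])
    have hne : ∀ j : ℕ, (a : G) ≠ S.y ^ j := fun j e => by
      rw [(mem_ker_pq S).mpr ⟨j, e⟩ |> MonoidHom.mem_ker.mp, conj_eq_one_iff] at hba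
      rw [hba, orderOf_one] at ht
      norm_num at ht
    obtain ⟨g', hg'⟩ := QuotientGroup.mk'_surjective (Ny S) (b * g * b⁻¹)
    have hz := comm_z_of_norm T S hA hne (g := g') (by
      rw [show mk S g' = b * g * b⁻¹ from hg', ← hba]
      exact ((show Commute g t from hgt).map (MulAut.conj b).toMonoidHom).eq)
    have hmem : b * g * b⁻¹ ∈ Subgroup.centralizer ({zq S} : Set (Qy S)) := by
      rw [← hg', Subgroup.mem_centralizer_singleton_iff, ← map_mul, ← map_mul]
      exact congrArg _ (Subtype.ext hz)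
    have := Subgroup.orderOf_dvd_natCard _ hmem
    rwa [card_cq T S hh, ← MulAut.conj_apply, MulEquiv.orderOf_eq] at this
  cube g hg := by
    obtain ⟨b, a, hba⟩ := three_conj S hA (t := g) (m := 2) (by norm_num; exact hg)
    have h1 := congrArg (fun t => t ^ 3) hba
    simp only [conj_pow, ← map_pow] at h1
    rw [show a ^ 3 = 1 from Subtype.ext (by simpa using S.P3_cube a.2), map_one, conj_eq_one_iff] at h1
    exact h1
  four h36 g hg := by
    by_cases h2 : g ^ 2 = 1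
    · exact h2
    exfalso
    have hu : orderOf (g ^ 2) = 2 := orderOf_eq_prime (by rw [← pow_mul]; exact hg) h2
    obtain ⟨b, hb⟩ := isConj_iff.mp (fused_mk T S _ hu)
    have hmem : b⁻¹ * g * b ∈ Subgroup.centralizer ({zq S} : Set (Qy S)) := by
      rw [Subgroup.mem_centralizer_singleton_iff]
      have hc' : g * (b * zq S * b⁻¹) = (b * zq S * b⁻¹) * g := by
        rw [hb]; exact ((Commute.refl g).pow_right 2).eq
      calc b⁻¹ * g * b * zq S = b⁻¹ * (g * (b * zq S * b⁻¹)) * b := by group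
        _ = b⁻¹ * (b * zq S * b⁻¹ * g) * b := by rw [hc']
        _ = _ := by group
    obtain ⟨a, ha⟩ := psi_surjective S ⟨_, hmem⟩
    have hq : mk S (jy S a) = b⁻¹ * g * b := congrArg Subtype.val ha
    have h4 : mk S 1 = mk S (jy S a ^ 4) := by
      rw [map_one, map_pow, hq, show b⁻¹ * g * b = b⁻¹ * g * b⁻¹⁻¹ by rw [inv_inv], conj_pow, hg,
        mul_one, mul_inv_cancel]
    obtain ⟨j, hj⟩ := (mk_eq_iff S).mp h4
    rw [Subgroup.coe_one, one_mul, SubmonoidClass.coe_pow] at hj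
    have h12 : ((a ^ 3 : ↥(J S)) : G) ^ 4 = 1 := by
      rw [SubmonoidClass.coe_pow, ← pow_mul, show 3 * 4 = 4 * 3 from rfl, pow_mul]
      rw [show ((a : ↥(J S)) : G) ^ 4 = S.y ^ j from hj, ← pow_mul, mul_comm, pow_mul, S.y_cube, one_pow]
    have hsq : ((a ^ 3 : ↥(J S)) : G) * (a ^ 3 : ↥(J S)) = 1 := by
      have hco4 : co T S (a ^ 3) ^ 4 = 1 := by
        rw [← map_pow, show (a ^ 3) ^ 4 = 1 from Subtype.ext (by simpa using h12), map_one]
      rcases T.facts.no_four (hk h36) _ (co_mem T S _) hco4 with e | e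
      · rcases (mem_ker_co T S (g := a ^ 3)).mp (MonoidHom.mem_ker.mpr e) with e' | e' <;> rw [e']
        · rw [one_mul]
        · exact S.H.zz
      · obtain ⟨v, hv, vv⟩ := exists_invol_co T S e
        rcases eq_or_of_co T S (g := a ^ 3) (h := v) hv.symm with e' | e' <;> rw [e']
        · exact vv
        · exact J_sq_mul_z S vv
    have h6 : (b⁻¹ * g * b) ^ 6 = 1 := by
      rw [← hq, ← map_pow, show (jy S a) ^ 6 = 1 from Subtype.ext (by
        rw [SubmonoidClass.coe_pow, Subgroup.coe_one, show 6 = 3 + 3 from rfl, pow_add]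
        rw [SubmonoidClass.coe_pow] at hsq
        exact hsq), map_one]
    have h6g : g ^ 6 = 1 := by
      rw [show b⁻¹ * g * b = b⁻¹ * g * b⁻¹⁻¹ by rw [inv_inv], conj_pow, conj_eq_one_iff] at h6
      exact h6
    rw [show 6 = 4 + 2 from rfl, pow_add, hg, one_mul] at h6g
    exact h2 h6g

theorem index_eq_card_conj : (Subgroup.centralizer ({zq S} : Set (Qy S))).index =
    Nat.card {u : Qy S // IsConj (zq S) u} := by
  have h := MulAction.index_stabilizer (ConjAct (Qy S)) (zq S)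
  rw [ConjAct.stabilizer_eq_centralizer] at h
  refine h.trans ?_
  rw [← Nat.card_coe_set_eq]
  refine Nat.card_congr (Equiv.subtypeEquivRight fun u => ?_)
  rw [ConjAct.mem_orbit_conjAct]
  exact ⟨fun h => h.symm, fun h => h.symm⟩

include T in
theorem index_odd : Odd (Subgroup.centralizer ({zq S} : Set (Qy S))).index := by
  haveI := Fact.mk Nat.prime_two
  obtain ⟨P, hP⟩ := IsPGroup.exists_le_sylow (p := 2) (P := Subgroup.zpowers (zq S))
    (IsPGroup.of_card (n := 1) (by rw [Nat.card_zpowers, orderOf_zq, pow_one]))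
  have hzP : zq S ∈ P := hP (Subgroup.mem_zpowers _)
  haveI : Nontrivial (P : Subgroup (Qy S)) := ⟨⟨⟨zq S, hzP⟩, 1, fun e => by
    have h := orderOf_zq S
    rw [show zq S = 1 from congrArg Subtype.val e, orderOf_one] at h
    norm_num at h⟩⟩
  haveI := P.isPGroup'.center_nontrivial
  obtain ⟨c, hc⟩ := exists_prime_orderOf_dvd_card' (G := Subgroup.center (P : Subgroup (Qy S))) 2
    ((P.isPGroup'.to_subgroup _).card_eq_or_dvd.resolve_left fun e => by
      have := Finite.one_lt_card (α := Subgroup.center (P : Subgroup (Qy S)))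
      omega)
  obtain ⟨b, hb⟩ := isConj_iff.mp (fused_mk T S ((c : (P : Subgroup (Qy S))) : Qy S)
    (by rw [Subgroup.orderOf_coe, Subgroup.orderOf_coe, hc]))
  have hle : ((P : Subgroup (Qy S)).map (MulAut.conj b⁻¹).toMonoidHom) ≤
      Subgroup.centralizer ({zq S} : Set (Qy S)) := by
    rintro _ ⟨p, hp, rfl⟩
    have hcp : p * ((c : (P : Subgroup (Qy S))) : Qy S) = ((c : (P : Subgroup (Qy S))) : Qy S) * p :=
      congrArg Subtype.val (Subgroup.mem_center_iff.mp c.2 ⟨p, hp⟩)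
    rw [Subgroup.mem_centralizer_singleton_iff, ← hb] at *
    show b⁻¹ * p * b⁻¹⁻¹ * zq S = zq S * (b⁻¹ * p * b⁻¹⁻¹)
    rw [inv_inv]
    calc b⁻¹ * p * b * zq S = b⁻¹ * (p * (b * zq S * b⁻¹)) * b := by group
      _ = b⁻¹ * ((b * zq S * b⁻¹) * p) * b := by rw [hcp]
      _ = _ := by group
  have hd := Subgroup.index_dvd_of_le hle
  rw [Subgroup.index_map_of_bijective (f := (MulAut.conj b⁻¹).toMonoidHom) (MulAut.conj b⁻¹).bijective] at hd
  exact Odd.of_dvd_nat (Nat.odd_iff.mpr (Nat.two_dvd_ne_zero.mp P.not_dvd_index)) hd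

include T in
theorem index_nine (hA : Assume S) :
    (Subgroup.centralizer ({zq S} : Set (Qy S))).index % 9 = 1 := by
  classical
  let A := {u : Qy S // IsConj (zq S) u ∧ u ≠ zq S}
  letI : MulAction ↥(pq S).range A :=
    { smul := fun p u => ⟨p.1 * u.1 * p.1⁻¹, u.2.1.trans (isConj_iff.mpr ⟨p.1, rfl⟩), fun e => u.2.2 (by
        have hp : p.1 * zq S = zq S * p.1 := by
          obtain ⟨a, ha⟩ := p.2
          rw [← ha]
          show mk S _ * mk S _ = mk S _ * mk S _
          rw [← map_mul, ← map_mul]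
          exact congrArg _ (Subtype.ext (S.P3_comm_z a.2))
        exact mul_left_cancel (mul_right_cancel (e.trans (mul_inv_eq_iff_eq_mul.mpr hp).symm)))⟩
      one_smul := fun u => Subtype.ext (by show (1 : Qy S) * u.1 * 1⁻¹ = u.1; group)
      mul_smul := fun p q u => Subtype.ext (by
        show p.1 * q.1 * u.1 * (p.1 * q.1)⁻¹ = p.1 * (q.1 * u.1 * q.1⁻¹) * p.1⁻¹; group) }
  have hfree : ∀ u : A, MulAction.stabilizer ↥(pq S).range u = ⊥ := by
    intro u
    rw [Subgroup.eq_bot_iff_forall]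
    rintro ⟨p, a, rfl⟩ hp
    by_contra hp1
    have hne : ∀ j : ℕ, (a : G) ≠ S.y ^ j := fun j e =>
      hp1 (Subtype.ext (MonoidHom.mem_ker.mp ((mem_ker_pq S).mpr ⟨j, e⟩)))
    have hu2 : orderOf u.1 = 2 := by
      obtain ⟨b, hb⟩ := isConj_iff.mp u.2.1
      rw [← hb, ← MulAut.conj_apply, MulEquiv.orderOf_eq, orderOf_zq]
    obtain ⟨v, hv, vv, v1⟩ := exists_invol_lift S hu2
    have hc : pq S a * u.1 = u.1 * pq S a :=
      mul_inv_eq_iff_eq_mul.mp (congrArg Subtype.val (MulAction.mem_stabilizer_iff.mp hp))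
    have hva : (a : G) * v = v * a :=
      comm_of_mk S (g := ⟨(a : G), (mem_Yc S).mpr (S.P3_comm a.2 S.y_mem)⟩) vv (by rw [hv]; exact hc)
    refine u.2.2 ?_
    rw [← hv]
    exact congrArg _ (Subtype.ext (eq_z_of_comm_P3 T S hA a.2 hne ((mem_Yc S).mp v.2) hva.symm vv v1))
  have hA9 : 9 ∣ Nat.card A := by
    haveI := Fintype.ofFinite (Quotient (MulAction.orbitRel ↥(pq S).range A))
    rw [Nat.card_congr (MulAction.selfEquivSigmaOrbitsQuotientStabilizer ↥(pq S).range A), Nat.card_sigma]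
    refine Finset.dvd_sum fun ω _ => ?_
    rw [hfree, ← Subgroup.index_eq_card, Subgroup.index_bot, card_range_pq]
  have hsplit : Nat.card {u : Qy S // IsConj (zq S) u} = Nat.card A + 1 := by
    rw [← Nat.card_congr (Equiv.sumCompl (fun u : {u : Qy S // IsConj (zq S) u} => u.1 ≠ zq S)), Nat.card_sum]
    congr 1
    · exact Nat.card_congr (Equiv.subtypeSubtypeEquivSubtypeInter (fun u : Qy S => IsConj (zq S) u) (fun u => u ≠ zq S))
    · rw [Nat.card_eq_one_iff_exists]
      exact ⟨⟨⟨zq S, IsConj.refl _⟩, not_not_intro rfl⟩,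
        fun w => Subtype.ext (Subtype.ext (not_not.mp w.2))⟩
  rw [index_eq_card_conj, hsplit]
  omega

include T in
theorem index_ne_one : (Subgroup.centralizer ({zq S} : Set (Qy S))).index ≠ 1 := by
  intro h
  set xy : ↥(Yc S) := ⟨x, (mem_Yc S).mpr S.y_x.symm⟩ with hxy
  obtain ⟨b, hb⟩ := isConj_iff.mp (fused_mk T S (mk S xy) (orderOf_mk_invol S S.xx S.ne_one))
  have hmem : b ∈ Subgroup.centralizer ({zq S} : Set (Qy S)) := by
    rw [Subgroup.index_eq_one.mp h]; exact Subgroup.mem_top b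
  refine mk_ne_zq S (v := xy) S.xx S.ne_z ?_
  rw [← hb, mul_inv_eq_iff_eq_mul]
  exact Subgroup.mem_centralizer_singleton_iff.mp hmem

include T in
/-- What the order equation and the finite checks are applied to. -/
theorem summary (hA : Assume S) {h : ℕ} (hh : 3 * h = 2 * T.c) (hM : 2 * (2 * T.M) ^ 2 = 18 * h)
    (hc : h = 36 ∨ h = 144) (hk : h = 36 → k = 3) :
    ∃ N : ℕ, ∃ a u : ℤ, a ^ 2 + (1 + a) ^ 2 < (h : ℤ) ∧ u ∣ (h : ℤ) * N ∧ u + 1 ∣ (h : ℤ) * N ∧
      (N : ℤ) * (u - a) ^ 2 = 18 * (h : ℤ) * (u * (u + 1)) ∧ Odd N ∧ N % 9 = 1 ∧ N ≠ 1 ∧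
      Nat.card (Qy S) = h * N ∧ KillHyp (zq S) h := by
  obtain ⟨a, u, h1, h2, h3, h4⟩ := (ordHyp T S hA hh hM).order_eq
  have hQ : Nat.card (Qy S) = h * (Subgroup.centralizer ({zq S} : Set (Qy S))).index := by
    rw [← Subgroup.card_mul_index (Subgroup.centralizer ({zq S} : Set (Qy S))), card_cq T S hh]
  rw [card_cq T S hh] at h1 h4
  rw [hQ, Nat.cast_mul] at h2 h3
  exact ⟨_, a, u, h1, h2, h3, h4, index_odd T S, index_nine T S hA, index_ne_one T S, hQ,
    killHyp T S hA hh hc hk⟩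

theorem false_nine (S : Std (6 + 3) z x) (hA : Assume S) : False := by
  obtain ⟨N, a, u, h1, h2, h3, h4, hodd, h9, hne, hQ, hK⟩ :=
    summary mdlNine S hA (h := 36) (by rfl) (by rfl) (Or.inl rfl) (fun _ => rfl)
  push_cast at h1 h2 h3 h4
  rcases index_small h1 hodd h9 h2 h3 h4 with e | e | e
  · exact false_of_small hK hQ (Or.inl e)
  · exact false_of_small hK hQ (Or.inr e)
  · exact hne e

theorem false_ten (S : Std (6 + 4) z x) (hA : Assume S) : False := by
  obtain ⟨N, a, u, h1, h2, h3, h4, hodd, h9, hne, hQ, hK⟩ :=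
    summary mdlTen S hA (h := 144) (by rfl) (by rfl) (Or.inr rfl) (fun h => absurd h (by norm_num))
  push_cast at h1 h2 h3 h4
  rcases index_big h1 hodd h9 h2 h3 h4 with e | e | e
  · exact false_of_big hK hQ (Or.inl e)
  · exact false_of_big hK hQ (Or.inr e)
  · exact hne e

end CaseA

/-- Case A: the centraliser of the three lifts lies in the centraliser of `z`. -/
theorem false_of_caseA {G : Type*} [Group G] [Finite G] {n : ℕ} {z x : G} (S : Std n z x)
    (hA : ∀ g : G, g * S.c₁ = S.c₁ * g → g * S.c₂ = S.c₂ * g → g * S.c₃ = S.c₃ * g → g * z = z * g) :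
    False := by
  have h9 := S.h9
  have h10 := S.h10
  rcases (show n = 6 + 3 ∨ n = 6 + 4 by omega) with rfl | rfl
  · exact CaseA.false_nine S ⟨S.exists_E, hA⟩
  · exact CaseA.false_ten S ⟨S.exists_E, hA⟩

end CfsgLib.SpinCent
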