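import Mathlib

/-!
# The centraliser of a product of two three-cycles in degree nine or ten

Pairs of a permutation of the six moved points and one of the others, and the finite facts about
the even ones that commute with the product.
-/

set_option autoImplicit false
set_option maxRecDepth 100000
set_option maxHeartbeats 1000000

namespace CfsgLib.SpinCent.CaseA

open Equiv Equiv.Perm

/-- A pair of permutations. -/
abbrev W (k : ℕ) : Type := Perm (Fin 6) × Perm (Fin k)

/-- `(0 1 2)` -/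
def a6 : Perm (Fin 6) := swap 0 1 * swap 1 2

/-- `(3 4 5)` -/
def b6 : Perm (Fin 6) := swap 3 4 * swap 4 5

/-- The product of the two three-cycles. -/
def y6 : Perm (Fin 6) := a6 * b6

/-- The exchange of the two three-cycles. -/
def s6 : Perm (Fin 6) := swap 0 3 * swap 1 4 * swap 2 5

/-- The centraliser of `y6`. -/
def inn (t : Fin 3 × Fin 3 × Fin 2) : Perm (Fin 6) := a6 ^ t.1.1 * b6 ^ t.2.1.1 * s6 ^ t.2.2.1

theorem inn_complete : ∀ a : Perm (Fin 6), a * y6 = y6 * a → ∃ t, inn t = a := by decide +kernel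

theorem inn_comm : ∀ t, inn t * y6 = y6 * inn t := by decide +kernel

theorem inn_card : Function.Injective inn := by decide +kernel

/-- Even, and commuting with the product of the two three-cycles. -/
def InW {k : ℕ} (w : W k) : Prop := w.1 * y6 = y6 * w.1 ∧ sign w.1 * sign w.2 = 1

/-- The number of moved points. -/
def moved {k : ℕ} (w : W k) : ℕ :=
  (Finset.univ.filter fun i => w.1 i ≠ i).card + (Finset.univ.filter fun i => w.2 i ≠ i).card

/-- The involutions with four pairs. -/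
def IsInvol {k : ℕ} (w : W k) : Prop := InW w ∧ w * w = 1 ∧ moved w = 8

/-- The finite facts. -/
structure Facts {k : ℕ} (π : Perm (Fin k) →* Perm (Fin 3)) (X C : Perm (Fin k)) (c M : ℕ) : Prop where
  x_invol : IsInvol ((s6, X) : W k)
  a_mem : InW ((a6, 1) : W k)
  c_mem : InW ((1, C) : W k)
  card : Nat.card {w : W k // InW w} = c
  invol_conj : ∀ w : W k, IsInvol w → ∃ d : W k, InW d ∧ d * (s6, X) * d⁻¹ = w
  invol_outer : ∀ w : W k, IsInvol w → sign (π w.2) = -1
  invol_count : Nat.card {w : W k // IsInvol w} = M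
  surj : ∀ σ : Perm (Fin 3), ∃ w : W k, InW w ∧ π w.2 = σ
  three : ∀ w : W k, InW w → π w.2 ≠ 1 → sign (π w.2) = 1 →
    w ^ 3 = 1 ∧ ∃ d : W k, InW d ∧ ∃ i j : Fin 3, ∃ e : Fin 2,
      d * w * d⁻¹ = ((a6 ^ i.1 * y6 ^ j.1, C) : W k) ^ (e.1 + 1)
  c_three : C ^ 3 = 1
  no_four : k = 3 → ∀ w : W k, InW w → w ^ 4 = 1 → w = 1 ∨ IsInvol w
  no_invol : ∀ w : W k, IsInvol w → w.1 * a6 ≠ a6 * w.1 ∧
    ∀ i : Fin 3, ¬ (w.1 * a6 ^ i.1 = a6 ^ i.1 * w.1 ∧ w.2 * C = C * w.2)

/-- The action of `Perm (Fin 4)` on the three pairings of four points. -/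
def pairIdx (u v : Fin 4) : Fin 3 :=
  if u = 3 then ![0, 1, 2, 0] v
  else if v = 3 then ![0, 1, 2, 0] u
  else ![![0, 2, 1, 0], ![2, 1, 0, 0], ![1, 0, 2, 0], ![0, 0, 0, 0]] u v

theorem pairIdx_left : ∀ b : Perm (Fin 4), ∀ i : Fin 3,
    pairIdx (b⁻¹ 3) (b⁻¹ (pairIdx (b 3) (b i.castSucc)).castSucc) = i ∧
      pairIdx (b 3) (b (pairIdx (b⁻¹ 3) (b⁻¹ i.castSucc)).castSucc) = i := by decide +kernel

/-- The map onto `Perm (Fin 3)`. -/
def pairFun (b : Perm (Fin 4)) : Perm (Fin 3) where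
  toFun i := pairIdx (b 3) (b i.castSucc)
  invFun i := pairIdx (b⁻¹ 3) (b⁻¹ i.castSucc)
  left_inv i := (pairIdx_left b i).1
  right_inv i := (pairIdx_left b i).2

theorem pairFun_mul : ∀ b b' : Perm (Fin 4), pairFun (b * b') = pairFun b * pairFun b' := by
  decide +kernel

/-- The homomorphism onto the symmetric group on three letters. -/
def pairHom : Perm (Fin 4) →* Perm (Fin 3) := MonoidHom.mk' pairFun pairFun_mul

/-- Reduction of a universal statement to the centraliser list. -/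
theorem forall_InW {k : ℕ} {P : W k → Prop}
    (h : ∀ t, ∀ b : Perm (Fin k), sign (inn t) * sign b = 1 → P (inn t, b)) :
    ∀ w : W k, InW w → P w := by
  rintro ⟨a, b⟩ ⟨ha, hs⟩
  obtain ⟨t, rfl⟩ := inn_complete a ha
  exact h t b hs

theorem exists_InW {k : ℕ} {P : W k → Prop}
    (h : ∃ t, ∃ b : Perm (Fin k), sign (inn t) * sign b = 1 ∧ P (inn t, b)) :
    ∃ w : W k, InW w ∧ P w := by
  obtain ⟨t, b, hs, hp⟩ := h
  exact ⟨_, ⟨inn_comm t, hs⟩, hp⟩

/-- Counting by means of the list. -/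
theorem card_InW {k : ℕ} (P : W k → Prop) [DecidablePred P] :
    Nat.card {w : W k // InW w ∧ P w} =
      (Finset.univ.filter fun q : (Fin 3 × Fin 3 × Fin 2) × Perm (Fin k) =>
        sign (inn q.1) * sign q.2 = 1 ∧ P (inn q.1, q.2)).card := by
  rw [← Fintype.card_subtype, ← Nat.card_eq_fintype_card]
  symm
  refine Nat.card_congr (Equiv.ofBijective
    (fun q => ⟨(inn q.1.1, q.1.2), ⟨inn_comm _, q.2.1⟩, q.2.2⟩) ⟨?_, ?_⟩)
  · rintro ⟨⟨t, b⟩, h⟩ ⟨⟨t', b'⟩, h'⟩ e
    have e1 := congrArg (fun w => w.1.1) e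
    have e2 := congrArg (fun w => w.1.2) e
    exact Subtype.ext (Prod.ext (inn_card e1) e2)
  · rintro ⟨⟨a, b⟩, ⟨ha, hs⟩, hp⟩
    obtain ⟨t, rfl⟩ := inn_complete a ha
    exact ⟨⟨(t, b), hs, hp⟩, rfl⟩

theorem card_InW' {k : ℕ} :
    Nat.card {w : W k // InW w} =
      (Finset.univ.filter fun q : (Fin 3 × Fin 3 × Fin 2) × Perm (Fin k) =>
        sign (inn q.1) * sign q.2 = 1).card := by
  have h := card_InW (k := k) (fun _ => True)
  simp only [and_true] at h
  exact h

/-- The cycle `(0 1 2)` on three points. -/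
def c3' : Perm (Fin 3) := swap 0 1 * swap 1 2

/-- The cycle `(0 1 2)` on four points. -/
def c4' : Perm (Fin 4) := swap 0 1 * swap 1 2

theorem facts_three : Facts (MonoidHom.id (Perm (Fin 3))) (swap 0 1) c3' 54 9 where
  x_invol := ⟨by unfold InW; decide +kernel, by decide +kernel, by decide +kernel⟩
  a_mem := by unfold InW; decide +kernel
  c_mem := by unfold InW; decide +kernel
  card := by rw [card_InW']; decide +kernel
  invol_conj := fun w hw => forall_InW
    (P := fun w => w * w = 1 → moved w = 8 → ∃ d : W 3, InW d ∧ d * (s6, swap 0 1) * d⁻¹ = w)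
    (fun t b hs h1 h2 => exists_InW (by revert t b; decide +kernel)) w hw.1 hw.2.1 hw.2.2
  invol_outer := fun w hw => forall_InW
    (P := fun w => w * w = 1 → moved w = 8 → sign w.2 = -1)
    (by decide +kernel) w hw.1 hw.2.1 hw.2.2
  invol_count := by
    show Nat.card {w : W 3 // InW w ∧ w * w = 1 ∧ moved w = 8} = 9
    rw [card_InW]
    decide +kernel
  surj := fun σ => exists_InW (by revert σ; decide +kernel)
  three := fun w hw h1 h2 => forall_InW
    (P := fun w => w.2 ≠ 1 → sign w.2 = 1 → w ^ 3 = 1 ∧ ∃ d : W 3, InW d ∧ ∃ i j : Fin 3, ∃ e : Fin 2,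
      d * w * d⁻¹ = ((a6 ^ i.1 * y6 ^ j.1, c3') : W 3) ^ (e.1 + 1))
    (fun t b hs g1 g2 => ⟨by revert t b; decide +kernel, exists_InW (by revert t b; decide +kernel)⟩)
    w hw h1 h2
  c_three := by decide +kernel
  no_four := fun _ w hw => forall_InW
    (P := fun w => w ^ 4 = 1 → w = 1 ∨ IsInvol w)
    (fun t b hs h4 => (show (inn t, b) = (1 : W 3) ∨ (inn t, b) * (inn t, b) = 1 ∧ moved (inn t, b) = 8 by
      revert t b; decide +kernel).imp_right fun h => ⟨⟨inn_comm t, hs⟩, h.1, h.2⟩) w hw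
  no_invol := fun w hw => forall_InW
    (P := fun w => w * w = 1 → moved w = 8 → w.1 * a6 ≠ a6 * w.1 ∧
      ∀ i : Fin 3, ¬ (w.1 * a6 ^ i.1 = a6 ^ i.1 * w.1 ∧ w.2 * c3' = c3' * w.2))
    (by decide +kernel) w hw.1 hw.2.1 hw.2.2

theorem facts_four : Facts pairHom (swap 0 1) c4' 216 18 where
  x_invol := ⟨by unfold InW; decide +kernel, by decide +kernel, by decide +kernel⟩
  a_mem := by unfold InW; decide +kernel
  c_mem := by unfold InW; decide +kernel
  card := by rw [card_InW']; decide +kernel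
  invol_conj := fun w hw => forall_InW
    (P := fun w => w * w = 1 → moved w = 8 → ∃ d : W 4, InW d ∧ d * (s6, swap 0 1) * d⁻¹ = w)
    (fun t b hs h1 h2 => exists_InW (by revert t b; decide +kernel)) w hw.1 hw.2.1 hw.2.2
  invol_outer := fun w hw => forall_InW
    (P := fun w => w * w = 1 → moved w = 8 → sign (pairHom w.2) = -1)
    (by decide +kernel) w hw.1 hw.2.1 hw.2.2
  invol_count := by
    show Nat.card {w : W 4 // InW w ∧ w * w = 1 ∧ moved w = 8} = 18
    rw [card_InW]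
    decide +kernel
  surj := fun σ => exists_InW (by revert σ; decide +kernel)
  three := fun w hw h1 h2 => forall_InW
    (P := fun w => pairHom w.2 ≠ 1 → sign (pairHom w.2) = 1 → w ^ 3 = 1 ∧ ∃ d : W 4, InW d ∧
      ∃ i j : Fin 3, ∃ e : Fin 2, d * w * d⁻¹ = ((a6 ^ i.1 * y6 ^ j.1, c4') : W 4) ^ (e.1 + 1))
    (fun t b hs g1 g2 => ⟨by revert t b; decide +kernel, exists_InW (by revert t b; decide +kernel)⟩)
    w hw h1 h2
  c_three := by decide +kernel
  no_four := fun h => absurd h (by decide)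
  no_invol := fun w hw => forall_InW
    (P := fun w => w * w = 1 → moved w = 8 → w.1 * a6 ≠ a6 * w.1 ∧
      ∀ i : Fin 3, ¬ (w.1 * a6 ^ i.1 = a6 ^ i.1 * w.1 ∧ w.2 * c4' = c4' * w.2))
    (by decide +kernel) w hw.1 hw.2.1 hw.2.2

end CfsgLib.SpinCent.CaseA
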