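import Cfsg.Agent.Lib.SpinCent.StdBasic

/-!
# An element of order three permuting `z`, `x`, `x * z` and centralising `y`
-/

set_option autoImplicit false
set_option linter.unusedSectionVars false
set_option linter.style.haveILetI false

namespace CfsgLib.SpinCent

open Equiv Equiv.Perm

theorem card_cent_permX {n : ℕ} (h : 9 ≤ n) :
    Nat.card (Subgroup.centralizer ({emb h permX} : Set (Perm (Fin n)))) = (n - 8).factorial * 384 := by
  rw [Equiv.Perm.nat_card_centralizer, cycleType_permX h, Fintype.card_fin, Multiset.sum_replicate,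
    Multiset.prod_replicate, Multiset.toFinset_replicate, if_neg (by norm_num), Finset.prod_singleton,
    Multiset.count_replicate_self, smul_eq_mul]
  norm_num [Nat.factorial]
  ring

namespace Std

variable {G : Type*} [Group G] [Finite G] {n : ℕ} {z x : G} (S : Std n z x)

theorem y_mem_both : S.y ∈ both z x := mem_both.mpr ⟨S.y_z, S.y_x⟩

theorem card_both_dvd (S : Std n z x) : Nat.card (both z x) ∣ 3 * 2 ^ 9 := by
  let φ : both z x →* Perm (Fin n) :=
    { toFun := fun g => S.H.p g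
      map_one' := S.H.p_one
      map_mul' := fun a b => S.H.p_mul (mem_both.mp a.2).1 (mem_both.mp b.2).1 }
  have h1 : Nat.card φ.range ∣ (n - 8).factorial * 384 := by
    rw [← card_cent_permX S.h9]
    refine Subgroup.card_dvd_of_le ?_
    rintro _ ⟨g, rfl⟩
    rw [Subgroup.mem_centralizer_singleton_iff]
    show S.H.p g * _ = _ * S.H.p g
    rw [← S.px, ← S.H.p_mul (mem_both.mp g.2).1 S.xz, ← S.H.p_mul S.xz (mem_both.mp g.2).1, (mem_both.mp g.2).2]
  have h2 : Nat.card φ.ker ∣ 2 := by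
    have hle : φ.ker.map (both z x).subtype ≤ Subgroup.zpowers z := by
      rintro _ ⟨g, hg, rfl⟩
      rcases S.H.eq_or_of_p_eq_one (mem_both.mp g.2).1 hg with e | e
      · show (g : G) ∈ _; rw [e]; exact one_mem _
      · show (g : G) ∈ _; rw [e]; exact Subgroup.mem_zpowers z
    have := Subgroup.card_dvd_of_le hle
    rwa [Subgroup.card_map_of_injective (both z x).subtype_injective, Nat.card_zpowers, S.H.ord] at this
  have h := φ.ker.card_mul_index
  rw [Subgroup.index_ker] at h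
  rw [← h]
  refine (Nat.mul_dvd_mul h2 h1).trans ?_
  have := S.h9
  have := S.h10
  rcases (show n = 9 ∨ n = 10 by omega) with rfl | rfl <;> decide

/-- A symmetry of order three of the four group `⟨z, x⟩` that centralises `y`. -/
theorem exists_E : ∃ E : G, E * S.y = S.y * E ∧ E * z * E⁻¹ = x ∧ E * x * E⁻¹ = x * z ∧
    E * (x * z) * E⁻¹ = z := by
  haveI := Fact.mk Nat.prime_three
  obtain ⟨d, hd, -, hdx, -⟩ := S.exists_d
  obtain ⟨k, hk⟩ := isConj_iff.mp S.conj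
  have zz := S.H.zz
  -- bring the conjugate of `z` to `x`
  have hw1 : k⁻¹ * z * k * z = z * (k⁻¹ * z * k) := by
    have := S.xz
    rw [← hk] at this
    calc k⁻¹ * z * k * z = k⁻¹ * (z * (k * z * k⁻¹)) * k := by group
      _ = k⁻¹ * (k * z * k⁻¹ * z) * k := by rw [this]
      _ = _ := by group
  obtain ⟨l, hl, hlx⟩ := S.fused (k⁻¹ * z * k) hw1
    (by rw [show k⁻¹ * z * k * (k⁻¹ * z * k) = k⁻¹ * (z * z) * k by group, zz]; group)
    (fun e => S.H.z_ne (by rw [show z = k * (k⁻¹ * z * k) * k⁻¹ by group, e]; group))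
    (fun e => S.ne_z (by
      rw [← hk, mul_inv_eq_iff_eq_mul]
      calc k * z = k * (k⁻¹ * z * k) := by rw [e]
        _ = z * k := by group))
  set k' := k * l with hk'
  have a1 : k' * z * k'⁻¹ = x := by
    rw [show k' * z * k'⁻¹ = k * (l * z * l⁻¹) * k⁻¹ by rw [hk']; group, mul_inv_eq_iff_eq_mul.mpr hl, hk]
  have a2 : k' * x * k'⁻¹ = z := by
    rw [show k' * x * k'⁻¹ = k * (l * x * l⁻¹) * k⁻¹ by rw [hk']; group, hlx]; group
  have d1 : d * z * d⁻¹ = z := mul_inv_eq_iff_eq_mul.mpr hd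
  have d2 : d * x * d⁻¹ = x * z := hdx
  have cj : ∀ g a b : G, g * (a * b) * g⁻¹ = (g * a * g⁻¹) * (g * b * g⁻¹) := fun g a b => by group
  have a3 : k' * (x * z) * k'⁻¹ = x * z := by rw [cj, a1, a2, ← S.xz]
  have d3 : d * (x * z) * d⁻¹ = x := by rw [cj, d1, d2, mul_assoc, zz, mul_one]
  set E0 := d * k' with hE0
  have cp : ∀ g : G, E0 * g * E0⁻¹ = d * (k' * g * k'⁻¹) * d⁻¹ := fun g => by rw [hE0]; group
  have e1 : E0 * z * E0⁻¹ = x * z := by rw [cp, a1, d2]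
  have e2 : E0 * x * E0⁻¹ = z := by rw [cp, a2, d1]
  have e3 : E0 * (x * z) * E0⁻¹ = x := by rw [cp, a3, d3]
  set E1 := E0⁻¹ with hE1
  have inv : ∀ a b : G, E0 * a * E0⁻¹ = b → E1 * b * E1⁻¹ = a := fun a b h => by rw [← h, hE1]; group
  have f1 := inv _ _ e2
  have f2 := inv _ _ e3
  have f3 := inv _ _ e1
  -- Frattini on the Sylow subgroup of order three
  have hboth : ∀ g ∈ both z x, E1 * g * E1⁻¹ ∈ both z x := by
    intro g hg
    obtain ⟨g1, g2⟩ := mem_both.mp hg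
    have g3 : g * (x * z) = (x * z) * g := by rw [← mul_assoc, g2, mul_assoc, g1, ← mul_assoc]
    have com : ∀ a b : G, E1 * a * E1⁻¹ = b → g * a = a * g → E1 * g * E1⁻¹ * b = b * (E1 * g * E1⁻¹) :=
      fun a b e h => by
        rw [← e]
        calc E1 * g * E1⁻¹ * (E1 * a * E1⁻¹) = E1 * (g * a) * E1⁻¹ := by group
          _ = E1 * (a * g) * E1⁻¹ := by rw [h]
          _ = _ := by group
    exact mem_both.mpr ⟨com _ _ f3 g3, com _ _ f1 g1⟩
  set B := both z x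
  let v : B := ⟨S.y, S.y_mem_both⟩
  let w : B := ⟨E1 * S.y * E1⁻¹, hboth _ S.y_mem_both⟩
  have ordv : orderOf v = 3 := by rw [← Subgroup.orderOf_coe]; exact S.orderOf_y
  have ordw : orderOf w = 3 := by
    rw [← Subgroup.orderOf_coe]
    exact ((MulAut.conj E1).orderOf_eq S.y).trans S.orderOf_y
  have hsyl : ∀ u : B, orderOf u = 3 → ∃ P : Sylow 3 B, (P : Subgroup B) = Subgroup.zpowers u := by
    intro u hu
    have hp : IsPGroup 3 (Subgroup.zpowers u) := IsPGroup.iff_card.mpr ⟨1, by rw [Nat.card_zpowers, hu, pow_one]⟩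
    obtain ⟨P, hP⟩ := hp.exists_le_sylow
    refine ⟨P, (Subgroup.eq_of_le_of_card_ge hP ?_).symm⟩
    rw [Nat.card_zpowers, hu]
    obtain ⟨j, hj⟩ := IsPGroup.iff_card.mp P.isPGroup'
    have h1 : 3 ^ j ∣ 3 * 2 ^ 9 := hj ▸ (Subgroup.card_subgroup_dvd_card _).trans S.card_both_dvd
    rw [hj]
    have : j ≤ 1 := by
      by_contra hh
      have h2 : 3 ^ 2 ∣ 3 * 2 ^ 9 := (pow_dvd_pow 3 (by omega)).trans h1
      norm_num at h2
    calc 3 ^ j ≤ 3 ^ 1 := Nat.pow_le_pow_right (by norm_num) this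
      _ = 3 := by norm_num
  obtain ⟨P, hP⟩ := hsyl v ordv
  obtain ⟨P', hP'⟩ := hsyl w ordw
  obtain ⟨b, hb⟩ := MulAction.exists_smul_eq B P' P
  have hmem : b * w * b⁻¹ ∈ Subgroup.zpowers v := by
    rw [← hP, ← hb]
    exact Subgroup.smul_mem_pointwise_smul w (MulAut.conj b) (P' : Subgroup B) (hP' ▸ Subgroup.mem_zpowers w)
  obtain ⟨b1, b2⟩ := mem_both.mp b.2
  set E2 := (b : G) * E1 with hE2
  have b3 : (b : G) * (x * z) = (x * z) * b := by rw [← mul_assoc, b2, mul_assoc, b1, ← mul_assoc]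
  have cq : ∀ g : G, E2 * g * E2⁻¹ = b * (E1 * g * E1⁻¹) * (b : G)⁻¹ := fun g => by rw [hE2]; group
  have g1 : E2 * z * E2⁻¹ = x := by rw [cq, f1, mul_inv_eq_iff_eq_mul.mpr b2]
  have g2 : E2 * x * E2⁻¹ = x * z := by rw [cq, f2, mul_inv_eq_iff_eq_mul.mpr b3]
  have g3 : E2 * (x * z) * E2⁻¹ = z := by rw [cq, f3, mul_inv_eq_iff_eq_mul.mpr b1]
  have hy : E2 * S.y * E2⁻¹ = S.y ∨ E2 * S.y * E2⁻¹ = S.y⁻¹ := by
    obtain ⟨i, hi⟩ := (Subgroup.mem_zpowers_iff).mp hmem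
    have hval : (v ^ i : B) = b * w * b⁻¹ := hi
    have h' : E2 * S.y * E2⁻¹ = S.y ^ i := by
      have := congrArg (fun g : B => (g : G)) hval
      simp only [v, w, Subgroup.coe_zpow, Subgroup.coe_mul, Subgroup.coe_inv] at this
      rw [cq, this]
    have hne : E2 * S.y * E2⁻¹ ≠ 1 := fun e => S.y_ne (by
      rw [show S.y = E2⁻¹ * (E2 * S.y * E2⁻¹) * E2 by group, e]; group)
    rw [h'] at hne ⊢
    rw [zpow_mod_orderOf S.y i |>.symm, S.orderOf_y] at hne ⊢
    have h0 := Int.emod_nonneg i (show ((3 : ℕ) : ℤ) ≠ 0 by norm_num)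
    have h3 := Int.emod_lt_of_pos i (show (0 : ℤ) < ((3 : ℕ) : ℤ) by norm_num)
    rcases (show i % ((3 : ℕ) : ℤ) = 0 ∨ i % ((3 : ℕ) : ℤ) = 1 ∨ i % ((3 : ℕ) : ℤ) = 2 by omega) with e | e | e <;>
      rw [e] at hne ⊢
    · exact absurd (zpow_zero _) hne
    · exact Or.inl (zpow_one _)
    · refine Or.inr (eq_inv_of_mul_eq_one_left ?_)
      rw [show (2 : ℤ) = ((2 : ℕ) : ℤ) from rfl, zpow_natCast, ← pow_succ, S.y_cube]
  set E := E2 ^ 4 with hE
  have it : ∀ g : G, E * g * E⁻¹ = E2 * (E2 * (E2 * (E2 * g * E2⁻¹) * E2⁻¹) * E2⁻¹) * E2⁻¹ := fun g => by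
    rw [hE, show E2 ^ 4 = E2 * E2 * E2 * E2 by simp only [pow_succ, pow_zero, one_mul]]; group
  refine ⟨E, ?_, ?_, ?_, ?_⟩
  · refine mul_inv_eq_iff_eq_mul.mp ?_
    rcases hy with e | e
    · rw [it, e, e, e, e]
    · have e' : E2 * S.y⁻¹ * E2⁻¹ = S.y := by
        rw [show E2 * S.y⁻¹ * E2⁻¹ = (E2 * S.y * E2⁻¹)⁻¹ by group, e, inv_inv]
      rw [it, e, e', e, e']
  · rw [it, g1, g2, g3, g1]
  · rw [it, g2, g3, g1, g2]
  · rw [it, g3, g1, g2, g3]

end Std

end CfsgLib.SpinCent
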