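import Cfsg.Agent.Lib.SpinCent.CaseARLemma
import Cfsg.Agent.Lib.SpinCent.Fuse

/-!
# The centraliser of `y` modulo `y`: involutions and elements of order three
-/

set_option autoImplicit false
set_option linter.unusedSectionVars false
set_option linter.style.haveILetI false

namespace CfsgLib.SpinCent.CaseA

open Equiv Equiv.Perm

variable {G : Type*} [Group G] [Finite G] {k : ℕ} {z x : G} (T : Mdl k) (S : Std (6 + k) z x)

include T in
/-- The involutions in `J` other than `z` are conjugate to `z` under elements commuting with `y`. -/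
theorem fuse_J {v : G} (hv : v ∈ J S) (vv : v * v = 1) (v1 : v ≠ 1) :
    ∃ a : G, a * S.y = S.y * a ∧ a * z * a⁻¹ = v := by
  by_cases vz : v = z
  · exact ⟨1, by rw [one_mul, mul_one], by rw [vz]; group⟩
  obtain ⟨E, hEy, hEz, hEx, -⟩ := S.exists_E
  obtain ⟨d, hd, hd'⟩ := T.facts.invol_conj _ (isInvol_co T S (u := ⟨v, hv⟩) vv v1 vz)
  obtain ⟨g, rfl⟩ := exists_lift T S hd
  rw [← co_x T S, ← map_mul, ← map_inv, ← map_mul] at hd'
  have gy : (g : G) * S.y = S.y * g := ((mem_J S).mp g.2).2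
  rcases eq_or_of_co T S hd'.symm with e | e
  · refine ⟨g * E, by rw [mul_assoc, hEy, ← mul_assoc, gy, mul_assoc], ?_⟩
    rw [show (g : G) * E * z * ((g : G) * E)⁻¹ = g * (E * z * E⁻¹) * (g : G)⁻¹ by group, hEz]
    exact e.symm
  · refine ⟨g * (E * E), ?_, ?_⟩
    · rw [mul_assoc (g : G), mul_assoc E, hEy, ← mul_assoc E, hEy, mul_assoc S.y, ← mul_assoc (g : G), gy,
        mul_assoc]
    · have hgz : (g : G) * z * (g : G)⁻¹ = z := mul_inv_eq_iff_eq_mul.mpr ((mem_J S).mp g.2).1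
      rw [show (g : G) * (E * E) * z * ((g : G) * (E * E))⁻¹ =
        g * (E * (E * z * E⁻¹) * E⁻¹) * (g : G)⁻¹ by group, hEz, hEx,
        show (g : G) * (x * z) * (g : G)⁻¹ = g * x * (g : G)⁻¹ * ((g : G) * z * (g : G)⁻¹) by group, hgz]
      exact e.symm

/-- The centraliser of `y`. -/
abbrev Yc : Subgroup G := Subgroup.centralizer ({S.y} : Set G)

theorem mem_Yc {g : G} : g ∈ Yc S ↔ g * S.y = S.y * g := Subgroup.mem_centralizer_singleton_iff

/-- The subgroup generated by `y` inside it. -/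
abbrev Ny : Subgroup ↥(Yc S) := Subgroup.zpowers ⟨S.y, (mem_Yc S).mpr rfl⟩

instance Ny_normal : (Ny S).Normal := ⟨fun a ha g => by
  have hc : g * a = a * g := by
    obtain ⟨i, rfl⟩ := ha
    exact ((show Commute g ⟨S.y, (mem_Yc S).mpr rfl⟩ from Subtype.ext ((mem_Yc S).mp g.2)).zpow_right i).eq
  rwa [hc, mul_inv_cancel_right]⟩

/-- The centraliser of `y` modulo `y`. -/
abbrev Qy : Type _ := ↥(Yc S) ⧸ Ny S

/-- The quotient map. -/
abbrev mk : ↥(Yc S) →* Qy S := QuotientGroup.mk' (Ny S)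

theorem mk_eq_iff {a b : ↥(Yc S)} : mk S a = mk S b ↔ ∃ j : ℕ, (b : G) = a * S.y ^ j := by
  rw [QuotientGroup.mk'_apply, QuotientGroup.mk'_apply, QuotientGroup.eq]
  constructor
  · intro h
    obtain ⟨j, hj⟩ := (Submonoid.mem_powers_iff _ _).mp (mem_powers_iff_mem_zpowers.mpr h)
    refine ⟨j, ?_⟩
    have e := congrArg Subtype.val hj
    simp only [SubmonoidClass.coe_pow, Subgroup.coe_mul, InvMemClass.coe_inv] at e
    rw [e, mul_inv_cancel_left]
  · rintro ⟨j, hj⟩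
    refine Subgroup.mem_zpowers_iff.mpr ⟨j, Subtype.ext ?_⟩
    rw [zpow_natCast, SubmonoidClass.coe_pow, Subgroup.coe_mul, InvMemClass.coe_inv, hj, inv_mul_cancel_left]

theorem pow_y_eq_one {j : ℕ} (h : (S.y ^ j) ^ 2 = 1) : S.y ^ j = 1 := by
  have h3 : (S.y ^ j) ^ 3 = 1 := by rw [← pow_mul, mul_comm, pow_mul, S.y_cube, one_pow]
  rwa [pow_succ, h, one_mul] at h3

/-- Commuting with an involution modulo `y` is commuting with it. -/
theorem comm_of_mk {g v : ↥(Yc S)} (vv : (v : G) * v = 1) (h : mk S g * mk S v = mk S v * mk S g) :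
    (g : G) * v = v * g := by
  rw [← map_mul, ← map_mul] at h
  obtain ⟨j, hj⟩ := (mk_eq_iff S).mp h
  rw [Subgroup.coe_mul, Subgroup.coe_mul] at hj
  have hyv : Commute (v : G) (S.y ^ j) := (show Commute (v : G) S.y from (mem_Yc S).mp v.2).pow_right j
  have hyg : Commute (g : G) (S.y ^ j) := (show Commute (g : G) S.y from (mem_Yc S).mp g.2).pow_right j
  have e1 : (v : G) * g * (v : G) = g * S.y ^ j := by
    rw [hj, mul_assoc _ (S.y ^ j), ← hyv.eq, ← mul_assoc, mul_assoc (g : G), vv, mul_one]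
  have e2 : (g : G) = v * (g * S.y ^ j) * v := by
    rw [← e1, ← mul_assoc, ← mul_assoc, vv, one_mul, mul_assoc, vv, mul_one]
  have e3 : (g : G) = g * (S.y ^ j) ^ 2 := by
    conv_lhs => rw [e2]
    rw [mul_assoc (v : G), mul_assoc (g : G), ← hyv.eq, ← mul_assoc (g : G), ← mul_assoc (v : G),
      ← mul_assoc (v : G), e1, mul_assoc, pow_two]
  have := pow_y_eq_one S ((left_eq_mul).mp e3)
  rw [hj, this, mul_one]

theorem exists_invol_lift {q : Qy S} (hq : orderOf q = 2) :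
    ∃ v : ↥(Yc S), mk S v = q ∧ (v : G) * v = 1 ∧ (v : G) ≠ 1 := by
  obtain ⟨a, rfl⟩ := QuotientGroup.mk'_surjective (Ny S) q
  have h2 : mk S 1 = mk S (a * a) := by
    rw [map_one, map_mul, ← pow_two, ← hq, pow_orderOf_eq_one]
  obtain ⟨j, hj⟩ := (mk_eq_iff S).mp h2
  rw [Subgroup.coe_one, one_mul, Subgroup.coe_mul] at hj
  have h6 : (a : G) ^ 6 = 1 := by
    rw [show 6 = 2 * 3 from rfl, pow_mul, pow_two, hj, ← pow_mul, mul_comm, pow_mul, S.y_cube, one_pow]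
  have hmk : mk S (a ^ 3) = mk S a := by
    rw [map_pow, pow_succ, ← hq, pow_orderOf_eq_one, one_mul]
  refine ⟨a ^ 3, hmk, ?_, fun e => ?_⟩
  · rw [SubmonoidClass.coe_pow, ← pow_add, h6]
  · rw [show a ^ 3 = (1 : ↥(Yc S)) from Subtype.ext e, map_one] at hmk
    rw [← hmk, orderOf_one] at hq
    norm_num at hq

theorem z_mem_Yc : z ∈ Yc S := (mem_Yc S).mpr S.y_z.symm

/-- The image of `z`. -/
abbrev zq : Qy S := mk S ⟨z, z_mem_Yc S⟩

theorem orderOf_mk_invol {v : ↥(Yc S)} (vv : (v : G) * v = 1) (v1 : (v : G) ≠ 1) :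
    orderOf (mk S v) = 2 := by
  refine orderOf_eq_prime (by rw [← map_pow, show v ^ 2 = 1 from Subtype.ext (by rw [SubmonoidClass.coe_pow, pow_two, vv]; rfl), map_one]) fun e => ?_
  obtain ⟨j, hj⟩ := (mk_eq_iff S).mp (e.symm.trans rfl : (1 : Qy S) = mk S v) |> fun h => (show ∃ j : ℕ, (v : G) = ((1 : ↥(Yc S)) : G) * S.y ^ j from h)
  rw [Subgroup.coe_one, one_mul] at hj
  rw [hj] at vv v1
  exact v1 (pow_y_eq_one S (by rw [pow_two, vv]))

theorem orderOf_zq : orderOf (zq S) = 2 := orderOf_mk_invol S S.H.zz S.H.z_ne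

include T in
/-- All involutions of the quotient are conjugate. -/
theorem fused_mk (q : Qy S) (hq : orderOf q = 2) : IsConj (zq S) q := by
  haveI := Fact.mk Nat.prime_two
  obtain ⟨v, rfl, vv, v1⟩ := exists_invol_lift S hq
  set zy : ↥(Yc S) := ⟨z, z_mem_Yc S⟩ with hzy
  have zy2 : zy ^ 2 = 1 := Subtype.ext (by rw [SubmonoidClass.coe_pow, pow_two, S.H.zz]; rfl)
  obtain ⟨P, hP⟩ := IsPGroup.exists_le_sylow (p := 2) (P := Subgroup.zpowers zy)
    (IsPGroup.of_card (n := 1) (by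
      rw [Nat.card_zpowers, pow_one, orderOf_eq_prime zy2 fun e => S.H.z_ne (congrArg Subtype.val e)]))
  have hzP : zy ∈ P := hP (Subgroup.mem_zpowers _)
  haveI : Nontrivial (P : Subgroup ↥(Yc S)) := ⟨⟨⟨zy, hzP⟩, 1, fun e =>
    S.H.z_ne (congrArg (fun t : (P : Subgroup ↥(Yc S)) => ((t : ↥(Yc S)) : G)) e)⟩⟩
  haveI := P.isPGroup'.center_nontrivial
  obtain ⟨⟨c, hc⟩, hc2⟩ := exists_prime_orderOf_dvd_card' (G := Subgroup.center (P : Subgroup ↥(Yc S))) 2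
    ((P.isPGroup'.to_subgroup _).card_eq_or_dvd.resolve_left fun e => by
      have := Finite.one_lt_card (α := Subgroup.center (P : Subgroup ↥(Yc S)))
      omega)
  set w : G := ((c : ↥(Yc S)) : G) with hw
  have hcY : w * S.y = S.y * w := (mem_Yc S).mp (c : ↥(Yc S)).2
  have ho : orderOf w = 2 := by
    rw [hw, Subgroup.orderOf_coe, Subgroup.orderOf_coe]
    exact (Subgroup.orderOf_coe (⟨c, hc⟩ : Subgroup.center (P : Subgroup ↥(Yc S)))).trans hc2
  have ww : w * w = 1 := by rw [← pow_two, ← ho, pow_orderOf_eq_one]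
  have w1 : w ≠ 1 := fun e => by rw [e, orderOf_one] at ho; norm_num at ho
  have central : ∀ p ∈ P, ((p : ↥(Yc S)) : G) * w = w * p := fun p hp =>
    congrArg (fun t : (P : Subgroup ↥(Yc S)) => ((t : ↥(Yc S)) : G)) (Subgroup.mem_center_iff.mp hc ⟨p, hp⟩)
  obtain ⟨a, hay, haw⟩ := fuse_J T S ((mem_J S).mpr ⟨(central zy hzP).symm, hcY⟩) ww w1
  -- conjugate `v` into `P`
  have v2 : v ^ 2 = 1 := Subtype.ext (by rw [SubmonoidClass.coe_pow, pow_two, vv]; rfl)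
  obtain ⟨P', hP'⟩ := IsPGroup.exists_le_sylow (p := 2) (P := Subgroup.zpowers v)
    (IsPGroup.of_card (n := 1) (by
      rw [Nat.card_zpowers, pow_one, orderOf_eq_prime v2 fun e => v1 (congrArg Subtype.val e)]))
  obtain ⟨b, rfl⟩ := MulAction.exists_smul_eq ↥(Yc S) P P'
  obtain ⟨p, hp, hpv⟩ := (Subgroup.mem_pointwise_smul_iff_inv_smul_mem.mp (hP' (Subgroup.mem_zpowers v)) :
    _) |> fun h => (⟨_, h, rfl⟩ : ∃ p ∈ P, p = (MulAut.conj b)⁻¹ • v)
  have hpv' : p = b⁻¹ * v * b := by rw [hpv]; simp [MulAut.smul_def]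
  have hu := central p hp
  have hay' : a⁻¹ * S.y = S.y * a⁻¹ := (Commute.inv_left (hay : Commute a S.y)).eq
  have hv' : a⁻¹ * ((p : ↥(Yc S)) : G) * a ∈ J S := by
    refine (mem_J S).mpr ⟨?_, ?_⟩
    · rw [← haw] at hu
      calc a⁻¹ * ((p : ↥(Yc S)) : G) * a * z = a⁻¹ * (((p : ↥(Yc S)) : G) * (a * z * a⁻¹)) * a := by group
        _ = a⁻¹ * ((a * z * a⁻¹) * ((p : ↥(Yc S)) : G)) * a := by rw [hu]
        _ = _ := by group
    · rw [mul_assoc, hay, ← mul_assoc, mul_assoc a⁻¹, (mem_Yc S).mp p.2, ← mul_assoc, hay', mul_assoc,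
        mul_assoc, mul_assoc]
  have pp : ((p : ↥(Yc S)) : G) * p = 1 := by
    rw [hpv']
    show ((b : G)⁻¹ * v * b) * ((b : G)⁻¹ * v * b) = 1
    rw [show ((b : G)⁻¹ * v * b) * ((b : G)⁻¹ * v * b) = (b : G)⁻¹ * (v * v) * b by group, vv, mul_one,
      inv_mul_cancel]
  have p1 : ((p : ↥(Yc S)) : G) ≠ 1 := fun e => v1 (by
    rw [hpv'] at e
    rw [show (v : G) = b * ((b : G)⁻¹ * v * b) * (b : G)⁻¹ by group]
    rw [show (b : G)⁻¹ * v * b = 1 from e, mul_one, mul_inv_cancel])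
  obtain ⟨a', ha'y, ha'⟩ := fuse_J T S hv' (by
      rw [show a⁻¹ * ((p : ↥(Yc S)) : G) * a * (a⁻¹ * ((p : ↥(Yc S)) : G) * a) =
        a⁻¹ * (((p : ↥(Yc S)) : G) * p) * a by group, pp, mul_one, inv_mul_cancel])
    (fun e => p1 (by
      rw [show ((p : ↥(Yc S)) : G) = a * (a⁻¹ * p * a) * a⁻¹ by group, e, mul_one, mul_inv_cancel]))
  have hay2 : (b : G) * (a * a') ∈ Yc S :=
    (Yc S).mul_mem b.2 ((Yc S).mul_mem ((mem_Yc S).mpr hay) ((mem_Yc S).mpr ha'y))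
  refine isConj_iff.mpr ⟨mk S ⟨_, hay2⟩, ?_⟩
  rw [← map_inv, ← map_mul, ← map_mul]
  refine congrArg _ (Subtype.ext ?_)
  show (b : G) * (a * a') * z * ((b : G) * (a * a'))⁻¹ = v
  rw [show (b : G) * (a * a') * z * ((b : G) * (a * a'))⁻¹ = b * (a * (a' * z * a'⁻¹) * a⁻¹) * (b : G)⁻¹ by
    group, ha', show a * (a⁻¹ * ((p : ↥(Yc S)) : G) * a) * a⁻¹ = p by group, hpv']
  show (b : G) * ((b : G)⁻¹ * v * b) * (b : G)⁻¹ = v
  group

open Fin.NatCast Fin.CommRing in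
theorem good_exists {a : G} (ha : a ∈ S.P3) (hay : ∀ j : ℕ, a ≠ S.y ^ j) :
    ∃ q m r : _, Good S q ∧ q = a ^ (m : ℕ) * S.y ^ (r : ℕ) := by
  obtain ⟨i, j, l, rfl⟩ := ha
  have key : ∀ i j l : Fin 3, (i ≠ j ∨ l ≠ 0) → ∃ m r : Fin 3,
      (i * m + r = 1 ∧ j * m + r = 0 ∧ l * m = 0) ∨ (j * m + r = 0 ∧ l * m = 1) := by decide
  have red : ∀ {c : G}, c ^ 3 = 1 → ∀ e : ℕ, ∀ f : Fin 3, ((e : Fin 3)) = f → c ^ e = c ^ f.1 := by
    intro c hc e f h
    rw [pow_eq_pow_mod e hc, ← h, Fin.val_natCast]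
  have h12 : Commute S.c₁ S.c₂ := S.comm₁₂
  obtain ⟨m, r, hmr⟩ := key (i : Fin 3) (j : Fin 3) (l : Fin 3) (by
    by_contra h
    push Not at h
    refine hay j ?_
    rw [red S.cube₁ i _ h.1, red S.cube₃ l _ h.2, red S.cube₂ j _ rfl, Std.y, h12.mul_pow,
      red S.cube₁ j _ rfl, red S.cube₂ j _ rfl]
    simp)
  have hprod : (S.c₁ ^ i * S.c₂ ^ j * S.c₃ ^ l) ^ m.1 * S.y ^ r.1 =
      S.c₁ ^ (i * m.1 + r.1) * S.c₂ ^ (j * m.1 + r.1) * S.c₃ ^ (l * m.1) := by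
    have a2 : Commute (S.c₁ ^ i * S.c₂ ^ j) (S.c₃ ^ l) :=
      Commute.mul_left ((show Commute S.c₁ S.c₃ from S.comm₁₃).pow_pow i l)
        ((show Commute S.c₂ S.c₃ from S.comm₂₃).pow_pow j l)
    have a3 : Commute (S.c₃ ^ (l * m.1)) (S.c₁ ^ r.1 * S.c₂ ^ r.1) :=
      Commute.mul_right ((show Commute S.c₁ S.c₃ from S.comm₁₃).symm.pow_pow _ _)
        ((show Commute S.c₂ S.c₃ from S.comm₂₃).symm.pow_pow _ _)
    rw [a2.mul_pow, (h12.pow_pow i j).mul_pow, Std.y, h12.mul_pow, ← pow_mul, ← pow_mul, ← pow_mul,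
      mul_assoc _ (S.c₃ ^ (l * m.1)), a3.eq, ← mul_assoc, pow_add, pow_add,
      mul_assoc _ (S.c₂ ^ (j * m.1)), ← mul_assoc (S.c₂ ^ (j * m.1)),
      ← ((h12.pow_pow r.1 (j * m.1))).eq]
    group
  refine ⟨_, m.1, r.1, ?_, rfl⟩
  rw [hprod]
  have cast2 : ∀ u : ℕ, ((u * m.1 + r.1 : ℕ) : Fin 3) = (u : Fin 3) * m + r := fun u => by
    rw [Nat.cast_add, Nat.cast_mul, Fin.cast_val_eq_self, Fin.cast_val_eq_self]
  have cast1 : ((l * m.1 : ℕ) : Fin 3) = (l : Fin 3) * m := by rw [Nat.cast_mul, Fin.cast_val_eq_self]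
  rcases hmr with ⟨e1, e2, e3⟩ | ⟨e2, e3⟩
  · refine Or.inl ?_
    rw [red S.cube₁ _ 1 ((cast2 i).trans e1), red S.cube₂ _ 0 ((cast2 j).trans e2),
      red S.cube₃ _ 0 (cast1.trans e3)]
    simp
  · refine Or.inr ⟨(i : Fin 3) * m + r, ?_⟩
    rw [red S.cube₁ _ _ (cast2 i), red S.cube₂ _ 0 ((cast2 j).trans e2),
      red S.cube₃ _ 1 (cast1.trans e3)]
    simp

include T in
/-- An involution of `Yc` commuting with an element of `P3` outside `y` is `z`. -/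
theorem eq_z_of_comm_P3 (hA : Assume S) {a : G} (ha : a ∈ S.P3) (hay : ∀ j : ℕ, a ≠ S.y ^ j) {v : G}
    (vy : v * S.y = S.y * v) (va : v * a = a * v) (vv : v * v = 1) (v1 : v ≠ 1) : v = z := by
  obtain ⟨q, m, r, hq, rfl⟩ := good_exists S ha hay
  exact unique_invol S hA (good_mem S hq) (good_x S hq) (good_no T S hq) vy
    (((show Commute v a from va).pow_right m).mul_right ((show Commute v S.y from vy).pow_right r)).eq vv v1

end CfsgLib.SpinCent.CaseA
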