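import Cfsg.Agent.Lib.SpinCent.Large
import Cfsg.Agent.Lib.ThType.Local

/-!
# A second involution, and the smallest degrees
-/

set_option autoImplicit false
set_option linter.unusedSectionVars false
set_option linter.style.haveILetI false

namespace CfsgLib.SpinCent

open Equiv Equiv.Perm

variable {G : Type*} [Group G] [Finite G] {n m : ℕ} {z x : G}

namespace Frame

variable {H : Hyp n z}

theorem support_eq (F : Frame H x m) : (H.p x).support = Finset.univ.map F.P.ψ := by
  classical
  ext q
  rw [Finset.mem_map, mem_support, ← F.P.mem_range_iff]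
  simp [Set.mem_range]

theorem card_support (F : Frame H x m) : (H.p x).support.card = 2 * m := by
  rw [F.support_eq, Finset.card_map, Finset.card_univ, Fintype.card_prod, Fintype.card_fin,
    Fintype.card_bool, Nat.mul_comm]

/-- An even number of pairs is exchanged. -/
theorem even (F : Frame H x m) : Even m := by
  classical
  have hne : H.p x ≠ 1 := fun e => (H.eq_or_of_p_eq_one F.xz e).elim F.ne_one F.ne_z
  have hord : orderOf (H.p x) = 2 :=
    orderOf_eq_prime (by rw [pow_two, ← H.p_mul F.xz F.xz, F.xx, H.p_one]) hne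
  obtain ⟨k, hk⟩ := cycleType_prime_order (σ := H.p x) (by rw [hord]; exact Nat.prime_two)
  rw [hord] at hk
  have hs := sum_cycleType (H.p x)
  rw [hk, Multiset.sum_replicate, smul_eq_mul, F.card_support] at hs
  have hA := H.p_alt F.xz
  rw [mem_alternatingGroup, sign_of_cycleType, hk, Multiset.sum_replicate, Multiset.card_replicate,
    smul_eq_mul] at hA
  have : k + 1 = m := by omega
  rw [← this]
  rcases Nat.even_or_odd (k + 1) with h | h
  · exact h
  · exfalso
    rw [(show Odd ((k + 1) * 2 + (k + 1)) by obtain ⟨l, hl⟩ := h; exact ⟨3 * l + 1, by omega⟩).neg_one_pow] at hA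
    exact absurd hA (by decide)

theorem four_le (F : Frame H x m) : 4 ≤ m := by
  have := F.three_le
  obtain ⟨l, hl⟩ := F.even
  omega

theorem eight_le (F : Frame H x m) : 8 ≤ n := by
  have := F.four_le
  have := F.P.card_le
  omega

end Frame

/-- In a simple group a conjugate of `z` other than `z` commutes with `z`. -/
theorem exists_commuting [IsSimpleGroup G] (H : Hyp n z) :
    ∃ g : G, g * z * g⁻¹ * z = z * (g * z * g⁻¹) ∧ g * z * g⁻¹ ≠ z := by
  by_contra hno
  push Not at hno
  have hiso : Cfsg.IsIsolatedInvolution z := ⟨H.ord, fun g hg => hno g hg.eq.symm⟩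
  have h := ThType.sup_eq_top_of_isolated hiso
  haveI : (Cfsg.pPrimeCore 2 G).Normal := CfsgLib.Transfer.pPrimeCore_normal 2 G
  have hbot : Cfsg.oddCore G = ⊥ := by
    refine (Subgroup.Normal.eq_bot_or_eq_top (H := Cfsg.pPrimeCore 2 G) inferInstance).resolve_right
      fun htop => ?_
    have hc := CfsgLib.Transfer.pPrimeCore_coprime (G := G) 2
    rw [htop, Subgroup.card_top] at hc
    have h2 : 2 ∣ Nat.card G := H.ord ▸ orderOf_dvd_natCard z
    exact absurd (Nat.Coprime.coprime_dvd_left h2 hc) (by decide)
  rw [hbot, sup_bot_eq] at h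
  have hzc : z ∈ Subgroup.center G := Subgroup.mem_center_iff.mpr fun g =>
    mem_cent.mp (h ▸ Subgroup.mem_top g)
  rcases (Subgroup.Normal.eq_bot_or_eq_top (H := Subgroup.center G) inferInstance) with e | e
  · rw [e, Subgroup.mem_bot] at hzc
    exact H.z_ne hzc
  · have hcomm : ∀ a b : ↥(Subgroup.centralizer ({z} : Set G)), a * b = b * a := fun a b =>
      Subtype.ext ((Subgroup.mem_center_iff.mp (e ▸ Subgroup.mem_top (a : G)) b.1).symm)
    have hk : commutator ↥(Subgroup.centralizer ({z} : Set G)) = ⊥ := by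
      rw [commutator_def, Subgroup.commutator_eq_bot_iff_le_centralizer]
      exact fun a _ => Subgroup.mem_centralizer_iff.mpr fun b _ => hcomm b a
    rw [H.cover.perfect] at hk
    have : (⟨z, mem_cent.mpr rfl⟩ : ↥(Subgroup.centralizer ({z} : Set G))) ∈ (⊥ : Subgroup _) :=
      hk ▸ Subgroup.mem_top _
    exact H.z_ne (congrArg Subtype.val (Subgroup.mem_bot.mp this))

/-- The degree is eight, nine, ten, eleven or twelve. -/
theorem degree_bounds [IsSimpleGroup G] (H : Hyp n z) : 8 ≤ n ∧ n ≤ 12 := by
  obtain ⟨g, hg, hne⟩ := exists_commuting H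
  obtain ⟨K⟩ := H.conj g
  obtain ⟨m, ⟨F⟩⟩ := exists_frame H hg K.zz hne K.z_ne
  exact ⟨F.eight_le, by_contra fun h => false_of_large (by omega) H K hg hne⟩

end CfsgLib.SpinCent
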