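import Cfsg.Agent.Lib.SpinCent.CaseASetup
import Cfsg.Agent.Lib.SpinCent.Reduce
import Cfsg.Agent.Lib.SmallCent.FourFixed

/-!
# Elementary groups of order nine containing `y` centralise no involution but `z`
-/

set_option autoImplicit false
set_option linter.unusedSectionVars false
set_option linter.style.haveILetI false

namespace CfsgLib.SpinCent.CaseA

open Equiv Equiv.Perm

variable {G : Type*} [Group G] [Finite G] {k : ℕ} {z x : G} (T : Mdl k) (S : Std (6 + k) z x)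

/-- What is assumed about the configuration. -/
structure Assume : Prop where
  fuse : ∃ E : G, E * S.y = S.y * E ∧ E * z * E⁻¹ = x ∧ E * x * E⁻¹ = x * z ∧ E * (x * z) * E⁻¹ = z
  cent : ∀ g : G, g * S.c₁ = S.c₁ * g → g * S.c₂ = S.c₂ * g → g * S.c₃ = S.c₃ * g → g * z = z * g

theorem involution_fix {u : G} (uz : u * z = z * u) (uu : u * u = 1) (u1 : u ≠ 1)
    (hu : ∀ a ∈ S.P3, u * a = a * u) : u = z := by
  rcases S.cent_P3 uz (hu _ S.c₁_mem) (hu _ S.c₂_mem) (hu _ S.c₃_mem) with h | h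
  · have h3 := S.P3_cube h
    rw [pow_succ, pow_two, uu, one_mul] at h3
    exact absurd h3 u1
  · have h3 := S.P3_cube h
    have e : (u * z) * (u * z) = 1 := by
      rw [mul_assoc u, ← mul_assoc z, ← uz, mul_assoc u, S.H.zz, mul_one, uu]
    rw [pow_succ, pow_two, e, one_mul] at h3
    exact (eq_inv_of_mul_eq_one_left h3).trans (inv_eq_of_mul_eq_one_right S.H.zz)

theorem normalizer_P3_le (hA : Assume S) {g : G} (hg : g ∈ Subgroup.normalizer (S.P3 : Set G)) :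
    g * z = z * g := by
  have hu : ∀ a ∈ S.P3, g * z * g⁻¹ * a = a * (g * z * g⁻¹) := by
    intro a ha
    obtain ⟨b, hb, rfl⟩ : ∃ b ∈ S.P3, g * b * g⁻¹ = a :=
      ⟨g⁻¹ * a * g, by
        have := (Subgroup.mem_normalizer_iff.mp (inv_mem hg) a).mp ha
        rwa [inv_inv] at this, by group⟩
    calc g * z * g⁻¹ * (g * b * g⁻¹) = g * (z * b) * g⁻¹ := by group
      _ = g * (b * z) * g⁻¹ := by rw [S.P3_comm_z hb]
      _ = _ := by group
  have huz := hA.cent _ (hu _ S.c₁_mem) (hu _ S.c₂_mem) (hu _ S.c₃_mem)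
  have e := involution_fix S huz (by
    rw [show g * z * g⁻¹ * (g * z * g⁻¹) = g * (z * z) * g⁻¹ by group, S.H.zz, mul_one, mul_inv_cancel])
    (fun e => S.H.z_ne (by
      have : z = g⁻¹ * (g * z * g⁻¹) * g := by group
      rw [this, e, mul_one, inv_mul_cancel])) hu
  exact mul_inv_eq_iff_eq_mul.mp e

theorem max_P3 (hA : Assume S) {W : Subgroup G} (W3 : IsPGroup 3 W) (hP : S.P3 ≤ W)
    (hy : ∀ a ∈ W, a * S.y = S.y * a) : S.P3 = W := by
  haveI := Fact.mk Nat.prime_three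
  haveI : Group.IsNilpotent W := W3.isNilpotent
  by_contra hne
  have hlt : S.P3.subgroupOf W < ⊤ := lt_top_iff_ne_top.mpr fun e =>
    hne (le_antisymm hP (Subgroup.subgroupOf_eq_top.mp e))
  obtain ⟨w, hwN, hwP⟩ := SetLike.exists_of_lt (Group.normalizerCondition_of_isNilpotent _ hlt)
  have hwnor : (w : G) ∈ Subgroup.normalizer (S.P3 : Set G) := Subgroup.mem_normalizer_iff.mpr fun a => by
    constructor
    · intro ha
      exact Subgroup.mem_subgroupOf.mp ((Subgroup.mem_normalizer_iff.mp hwN ⟨a, hP ha⟩).mp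
        (Subgroup.mem_subgroupOf.mpr ha))
    · intro ha
      have hmem : a ∈ W := by
        have := W.mul_mem (W.mul_mem (W.inv_mem w.2) (hP ha)) w.2
        rwa [show (w : G)⁻¹ * ((w : G) * a * (w : G)⁻¹) * w = a by group] at this
      exact Subgroup.mem_subgroupOf.mp ((Subgroup.mem_normalizer_iff.mp hwN ⟨a, hmem⟩).mpr
        (Subgroup.mem_subgroupOf.mpr ha))
  have hwz := normalizer_P3_le S hA hwnor
  set N := W ⊓ Subgroup.centralizer ({z} : Set G) with hN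
  have hPN : S.P3 ≤ N := le_inf hP fun a ha =>
    Subgroup.mem_centralizer_singleton_iff.mpr (S.P3_comm_z ha)
  have hNd : Nat.card N ∣ 27 := by
    refine S.odd_dvd ?_ (fun g hg => Subgroup.mem_centralizer_singleton_iff.mp hg.2)
      (fun g hg => hy g hg.1)
    obtain ⟨l, hl⟩ := IsPGroup.iff_card.mp (W3.to_le (inf_le_left : N ≤ W))
    rw [hl]
    exact Odd.pow (by decide)
  have heq : S.P3 = N := Subgroup.eq_of_le_of_card_ge hPN (by
    rw [S.card_P3]; exact Nat.le_of_dvd (by norm_num) hNd)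
  refine hwP (Subgroup.mem_subgroupOf.mpr ?_)
  rw [heq]
  exact ⟨w.2, Subgroup.mem_centralizer_singleton_iff.mpr hwz⟩

theorem odd_dvd_conj (hA : Assume S) {K : Subgroup G} (hK : Odd (Nat.card K))
    (hy : ∀ g ∈ K, g * S.y = S.y * g) {u : G} (hu : u = z ∨ u = x ∨ u = x * z)
    (hcu : ∀ g ∈ K, g * u = u * g) : Nat.card K ∣ 27 := by
  obtain ⟨E, hEy, hEz, -, hExz⟩ := hA.fuse
  have key : ∀ w : G, w * S.y = S.y * w → w * u * w⁻¹ = z → Nat.card K ∣ 27 := by
    intro w hwy hwu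
    have e : Nat.card (K.map (MulAut.conj w).toMonoidHom) = Nat.card K :=
      Subgroup.card_map_of_injective (MulAut.conj w).injective
    rw [← e]
    refine S.odd_dvd (by rwa [e]) ?_ ?_
    · rintro _ ⟨g, hg, rfl⟩
      show w * g * w⁻¹ * z = z * (w * g * w⁻¹)
      rw [← hwu]
      calc w * g * w⁻¹ * (w * u * w⁻¹) = w * (g * u) * w⁻¹ := by group
        _ = w * (u * g) * w⁻¹ := by rw [hcu g hg]
        _ = _ := by group
    · rintro _ ⟨g, hg, rfl⟩
      show w * g * w⁻¹ * S.y = S.y * (w * g * w⁻¹)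
      have hiw : w⁻¹ * S.y = S.y * w⁻¹ := (Commute.inv_left (hwy : Commute w S.y)).eq
      rw [mul_assoc _ w⁻¹, hiw, ← mul_assoc, mul_assoc w g, hy g hg, ← mul_assoc, hwy]
      group
  rcases hu with rfl | rfl | rfl
  · exact key 1 (by rw [one_mul, mul_one]) (by group)
  · exact key E⁻¹ (Commute.inv_left (hEy : Commute E S.y)).eq (by rw [← hEz]; group)
  · exact key E hEy hExz

theorem cent_le (hA : Assume S) {q : G} (hqP : q ∈ S.P3) (hqx : ∃ a : ℕ, x * q * x⁻¹ = q⁻¹ * S.y ^ a)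
    (hno : ∀ u ∈ J S, u * u = 1 → u * q = q * u → u = 1 ∨ u = z) {g : G} (hgy : g * S.y = S.y * g)
    (hgq : g * q = q * g) : g * z = z * g := by
  haveI := Fact.mk Nat.prime_three
  set K : Subgroup G := Subgroup.centralizer ({S.y, q} : Set G) with hKdef
  have memK : ∀ {a : G}, a ∈ K ↔ a * S.y = S.y * a ∧ a * q = q * a := fun {a} => by
    rw [hKdef, Subgroup.mem_centralizer_iff]
    simp [eq_comm]
  have P3K : S.P3 ≤ K := fun a ha => memK.mpr ⟨S.P3_comm ha S.y_mem, S.P3_comm ha hqP⟩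
  have zK : z ∈ K := memK.mpr ⟨S.y_z.symm, (S.P3_comm_z hqP).symm⟩
  have hiso : Cfsg.IsIsolatedInvolution (⟨z, zK⟩ : K) := by
    refine ⟨by rw [← Subgroup.orderOf_coe, Subgroup.coe_mk]; exact S.H.ord, fun a hc => Subtype.ext ?_⟩
    have h1 : (a : G) * z * (a : G)⁻¹ * z = z * ((a : G) * z * (a : G)⁻¹) :=
      (congrArg Subtype.val hc.eq).symm
    have hK' := memK.mp (a * ⟨z, zK⟩ * a⁻¹).2
    refine (hno ((a : G) * z * (a : G)⁻¹) ((mem_J S).mpr ⟨h1, hK'.1⟩) ?_ hK'.2).resolve_left fun e => ?_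
    · rw [show (a : G) * z * (a : G)⁻¹ * ((a : G) * z * (a : G)⁻¹) = a * (z * z) * (a : G)⁻¹ by group,
        S.H.zz, mul_one, mul_inv_cancel]
    · exact S.H.z_ne (by
        have h2 : z = (a : G)⁻¹ * ((a : G) * z * (a : G)⁻¹) * a := by group
        rw [h2, e, mul_one, inv_mul_cancel])
  have htop := ThType.sup_eq_top_of_isolated hiso
  haveI : (Cfsg.oddCore ↥K).Normal := CfsgLib.Transfer.pPrimeCore_normal 2 ↥K
  set O : Subgroup G := (Cfsg.oddCore ↥K).map K.subtype with hO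
  have Ole : O ≤ K := Subgroup.map_subtype_le _
  have Oodd : Odd (Nat.card O) := by
    rw [hO, Subgroup.card_map_of_injective K.subtype_injective]
    exact Nat.coprime_two_right.mp (CfsgLib.Transfer.pPrimeCore_coprime (G := ↥K) 2)
  have OnK : ∀ a ∈ K, ∀ o ∈ O, a * o * a⁻¹ ∈ O := by
    rintro a ha _ ⟨o, ho, rfl⟩
    exact ⟨⟨a, ha⟩ * o * ⟨a, ha⟩⁻¹, Subgroup.Normal.conj_mem inferInstance o ho _, rfl⟩
  -- everything reduces to the odd core
  suffices hOz : ∀ o ∈ O, o * z = z * o by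
    have hle : (⊤ : Subgroup ↥K) ≤ (Subgroup.centralizer ({z} : Set G)).subgroupOf K := by
      rw [← htop]
      refine sup_le (fun a ha => ?_) (fun o ho => ?_)
      · rw [Subgroup.mem_subgroupOf, Subgroup.mem_centralizer_singleton_iff]
        exact congrArg Subtype.val (Subgroup.mem_centralizer_singleton_iff.mp ha)
      · rw [Subgroup.mem_subgroupOf, Subgroup.mem_centralizer_singleton_iff]
        exact hOz _ ⟨o, ho, rfl⟩
    exact Subgroup.mem_centralizer_singleton_iff.mp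
      (Subgroup.mem_subgroupOf.mp (hle (Subgroup.mem_top ⟨g, memK.mpr ⟨hgy, hgq⟩⟩)))
  -- the second involution normalises the odd core
  have xK : ∀ a ∈ K, x * a * x⁻¹ ∈ K := by
    intro a ha
    obtain ⟨hay, haq⟩ := memK.mp ha
    obtain ⟨e, he⟩ := hqx
    have xi : x⁻¹ = x := inv_eq_of_mul_eq_one_right S.xx
    have hxy : x * S.y * x⁻¹ = S.y := mul_inv_eq_iff_eq_mul.mpr S.y_x.symm
    have h1 : x * a * x⁻¹ * S.y = S.y * (x * a * x⁻¹) := by
      conv_lhs => rw [← hxy]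
      conv_rhs => rw [← hxy]
      calc x * a * x⁻¹ * (x * S.y * x⁻¹) = x * (a * S.y) * x⁻¹ := by group
        _ = x * (S.y * a) * x⁻¹ := by rw [hay]
        _ = _ := by group
    refine memK.mpr ⟨h1, ?_⟩
    have c1 : Commute (x * a * x⁻¹) (x * q * x⁻¹) := by
      show x * a * x⁻¹ * (x * q * x⁻¹) = x * q * x⁻¹ * (x * a * x⁻¹)
      calc x * a * x⁻¹ * (x * q * x⁻¹) = x * (a * q) * x⁻¹ := by group
        _ = x * (q * a) * x⁻¹ := by rw [haq]
        _ = _ := by group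
    rw [he] at c1
    have c2 : Commute (x * a * x⁻¹) (S.y ^ e) := (show Commute (x * a * x⁻¹) S.y from h1).pow_right e
    have c3 := c1.mul_right c2.inv_right
    rw [mul_inv_cancel_right] at c3
    have := c3.inv_right
    rwa [inv_inv] at this
  have xi : x⁻¹ = x := inv_eq_of_mul_eq_one_right S.xx
  have Ox : ∀ o ∈ O, x * o * x⁻¹ ∈ O := by
    intro o ho
    have hcard : Nat.card ((O.map (MulAut.conj x).toMonoidHom).subgroupOf K) = Nat.card O := by
      rw [Nat.card_congr (Subgroup.subgroupOfEquivOfLe ?_).toEquiv,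
        Subgroup.card_map_of_injective (MulAut.conj x).injective]
      rintro _ ⟨o, ho, rfl⟩
      exact xK o (Ole ho)
    have hn : ((O.map (MulAut.conj x).toMonoidHom).subgroupOf K).Normal := ⟨by
      rintro ⟨b, hb⟩ hm ⟨a, ha⟩
      obtain ⟨o, ho, rfl⟩ := Subgroup.mem_subgroupOf.mp hm
      refine Subgroup.mem_subgroupOf.mpr ⟨(x * a * x⁻¹) * o * (x * a * x⁻¹)⁻¹, OnK _ (xK a ha) o ho, ?_⟩
      show x * (x * a * x⁻¹ * o * (x * a * x⁻¹)⁻¹) * x⁻¹ = a * (x * o * x⁻¹) * a⁻¹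
      rw [mul_inv_rev, mul_inv_rev, xi, xi]
      calc x * (x * a * x * o * (x * (a⁻¹ * x))) * x = (x * x) * a * (x * o * x) * a⁻¹ * (x * x) := by group
        _ = _ := by rw [S.xx, one_mul, mul_one]⟩
    have hle := CfsgLib.Transfer.le_pPrimeCore (p := 2) hn (by
      rw [hcard]; exact Nat.coprime_two_right.mpr Oodd)
    exact ⟨⟨x * o * x⁻¹, xK o (Ole ho)⟩, hle (Subgroup.mem_subgroupOf.mpr ⟨o, ho, rfl⟩), rfl⟩
  have Oy : ∀ o ∈ O, o * S.y = S.y * o := fun o ho => (memK.mp (Ole ho)).1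
  have hdiv : ∀ u, u = z ∨ u = x ∨ u = x * z →
      Nat.card ↥(O ⊓ Subgroup.centralizer ({u} : Set G)) ∣ 27 := fun u hu =>
    odd_dvd_conj S hA (Oodd.of_dvd_nat (Subgroup.card_dvd_of_le inf_le_left)) (fun g hg => Oy g hg.1) hu
      (fun g hg => Subgroup.mem_centralizer_singleton_iff.mp hg.2)
  have hprod := CfsgLib.SmallCent.four_product Oodd S.H.zz S.xx (S.xz.symm : Commute z x)
    (fun o ho => OnK z zK o ho) Ox
  have h27 : Nat.card O ∣ 27 * 27 * 27 := by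
    refine Dvd.dvd.trans (dvd_mul_right _ _) (hprod.dvd.trans ?_)
    rw [← S.xz]
    exact mul_dvd_mul (mul_dvd_mul (hdiv z (Or.inl rfl)) (hdiv x (Or.inr (Or.inl rfl))))
      (hdiv (x * z) (Or.inr (Or.inr rfl)))
  have O3 : IsPGroup 3 O := by
    obtain ⟨l, -, hl⟩ := (Nat.dvd_prime_pow Nat.prime_three (m := 9)).mp (h27.trans (by norm_num))
    exact IsPGroup.of_card hl
  have P33 : IsPGroup 3 S.P3 := IsPGroup.of_card (n := 3) (by rw [S.card_P3]; norm_num)
  have hnorm : S.P3 ≤ Subgroup.normalizer (O : Set G) := fun a ha => Subgroup.mem_normalizer_iff.mpr fun o =>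
    ⟨fun ho => OnK a (P3K ha) o ho, fun ho => by
      have := OnK a⁻¹ (inv_mem (P3K ha)) _ ho
      rwa [show a⁻¹ * (a * o * a⁻¹) * a⁻¹⁻¹ = o by group] at this⟩
  set W := S.P3 ⊔ O with hW
  have W3 : IsPGroup 3 W := P33.to_sup_of_normal_right' O3 hnorm
  intro o ho
  have e := max_P3 S hA (W := W) W3 le_sup_left fun a ha => (memK.mp (sup_le P3K Ole ha)).1
  exact S.P3_comm_z (e ▸ (le_sup_right : O ≤ W) ho)

theorem unique_invol (hA : Assume S) {q : G} (hqP : q ∈ S.P3) (hqx : ∃ a : ℕ, x * q * x⁻¹ = q⁻¹ * S.y ^ a)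
    (hno : ∀ u ∈ J S, u * u = 1 → u * q = q * u → u = 1 ∨ u = z) {u : G} (huy : u * S.y = S.y * u)
    (huq : u * q = q * u) (uu : u * u = 1) (u1 : u ≠ 1) : u = z :=
  (hno u ((mem_J S).mpr ⟨cent_le S hA hqP hqx hno huy huq, huy⟩) uu huq).resolve_left u1

/-- The elements to which the lemma is applied. -/
def Good (q : G) : Prop := q = S.c₁ ∨ ∃ i : Fin 3, q = S.c₁ ^ i.1 * S.c₃

theorem good_mem {q : G} (hq : Good S q) : q ∈ S.P3 := by
  rcases hq with rfl | ⟨i, rfl⟩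
  · exact S.c₁_mem
  · exact mul_mem (pow_mem S.c₁_mem _) S.c₃_mem

theorem good_x {q : G} (hq : Good S q) : ∃ a : ℕ, x * q * x⁻¹ = q⁻¹ * S.y ^ a := by
  rcases hq with rfl | ⟨i, rfl⟩
  · exact ⟨1, by rw [S.x_c₁, pow_one, Std.y, inv_mul_cancel_left]⟩
  · refine ⟨i.1, ?_⟩
    have h1 : x * (S.c₁ ^ i.1 * S.c₃) * x⁻¹ = S.c₂ ^ i.1 * S.c₃⁻¹ := by
      rw [← S.x_c₁, ← S.x_c₃, conj_pow]; group
    rw [h1, Std.y, (show Commute S.c₁ S.c₂ from S.comm₁₂).mul_pow, mul_inv_rev, mul_assoc,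
      inv_mul_cancel_left]
    exact (((show Commute S.c₂ S.c₃ from S.comm₂₃).inv_right).pow_left i.1).eq

include T in
theorem good_no {q : G} (hq : Good S q) :
    ∀ u ∈ J S, u * u = 1 → u * q = q * u → u = 1 ∨ u = z := by
  intro u hu uu huq
  by_contra h
  push Not at h
  have hI := isInvol_co T S (u := ⟨u, hu⟩) uu h.1 h.2
  have hqJ : q ∈ J S := (mem_J S).mpr ⟨S.P3_comm_z (good_mem S hq), S.P3_comm (good_mem S hq) S.y_mem⟩
  have hc : co T S ⟨u, hu⟩ * co T S ⟨q, hqJ⟩ = co T S ⟨q, hqJ⟩ * co T S ⟨u, hu⟩ := by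
    rw [← map_mul, ← map_mul]; exact congrArg _ (Subtype.ext huq)
  obtain ⟨n1, n2⟩ := T.facts.no_invol _ hI
  rcases hq with rfl | ⟨i, rfl⟩
  · rw [co_eq T S (g := ⟨S.c₁, hqJ⟩) (w := (a6, 1)) (by rw [S.p₁, T.embA])] at hc
    exact n1 (congrArg Prod.fst hc)
  · rw [co_eq T S (g := ⟨S.c₁ ^ i.1 * S.c₃, hqJ⟩) (w := ((a6, 1) : W k) ^ i.1 * (1, T.C)) (by
      rw [S.H.p_mul (Hyp.comm_pow S.comm₁ _) S.comm₃, S.H.p_pow S.comm₁, S.p₁, S.p₃, T.embA, T.embC,
        map_mul, map_pow])] at hc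
    simp only [Prod.pow_mk, one_pow, Prod.mk_mul_mk, mul_one, one_mul] at hc
    exact n2 i ⟨congrArg Prod.fst hc, congrArg Prod.snd hc⟩

end CfsgLib.SpinCent.CaseA
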