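import Cfsg.Agent.Lib.SpinCent.StdBasic
import Cfsg.Agent.Lib.SpinCent.CaseAPerm

/-!
# The common centraliser of `z` and the product of two three-cycles, in coordinates
-/

set_option autoImplicit false
set_option linter.unusedSectionVars false
set_option linter.style.haveILetI false

namespace CfsgLib.SpinCent.CaseA

open Equiv Equiv.Perm

/-- Pairs as permutations of all points. -/
def ι (k : ℕ) : W k →* Perm (Fin (6 + k)) :=
  finSumFinEquiv.permCongrHom.toMonoidHom.comp (sumCongrHom (Fin 6) (Fin k))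

theorem ι_apply {k : ℕ} (w : W k) (q : Fin 6 ⊕ Fin k) :
    ι k w (finSumFinEquiv q) = finSumFinEquiv (Equiv.sumCongr w.1 w.2 q) := by
  simp [ι]

theorem ι_injective (k : ℕ) : Function.Injective (ι k) :=
  (finSumFinEquiv.permCongrHom.injective).comp sumCongrHom_injective

theorem sign_ι {k : ℕ} (w : W k) : sign (ι k w) = sign w.1 * sign w.2 := by
  show sign (finSumFinEquiv.permCongr (Equiv.sumCongr w.1 w.2)) = _
  rw [sign_permCongr, sign_sumCongr]

theorem card_support_ι {k : ℕ} (w : W k) : (ι k w).support.card = moved w := by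
  have h : (Finset.univ.filter fun q : Fin 6 ⊕ Fin k => Equiv.sumCongr w.1 w.2 q ≠ q).card = moved w := by
    rw [Finset.card_eq_sum_ones, Finset.sum_filter, Fintype.sum_sum_type, moved, Finset.card_eq_sum_ones,
      Finset.sum_filter, Finset.card_eq_sum_ones, Finset.sum_filter]
    congr 1 <;> refine Finset.sum_congr rfl fun i _ => ?_ <;> simp
  rw [← h, ← Finset.card_map (f := finSumFinEquiv.toEmbedding)]
  congr 1
  ext p
  obtain ⟨q, rfl⟩ := finSumFinEquiv.surjective p
  rw [mem_support, ι_apply, Finset.mem_map_equiv, Equiv.symm_apply_apply, Finset.mem_filter]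
  simp only [ne_eq, finSumFinEquiv.injective.eq_iff, Finset.mem_univ, true_and]

theorem exists_eq_ι {k : ℕ} {h : Perm (Fin (6 + k))} (hc : h * ι k (y6, 1) = ι k (y6, 1) * h) :
    ∃ w : W k, ι k w = h ∧ w.1 * y6 = y6 * w.1 := by
  obtain ⟨g, rfl⟩ := finSumFinEquiv.permCongrHom.surjective h
  have hc' : g * sumCongrHom _ _ (y6, 1) = sumCongrHom _ _ (y6, 1) * g :=
    finSumFinEquiv.permCongrHom.injective (by rw [map_mul, map_mul]; exact hc)
  have hy : ∀ i : Fin 6, y6 i ≠ i := by decide +kernel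
  have hg : g ∈ (sumCongrHom (Fin 6) (Fin k)).range := by
    refine mem_sumCongrHom_range_of_perm_mapsTo_inl ?_
    rintro _ ⟨i, rfl⟩
    rcases e : g (Sum.inl i) with j | j
    · exact ⟨j, rfl⟩
    · exfalso
      have e2 := DFunLike.congr_fun hc' (Sum.inl i)
      simp only [Perm.mul_apply, sumCongrHom_apply, Equiv.sumCongr_apply, Sum.map_inl, Sum.map_inr, e,
        Perm.one_apply] at e2
      exact hy i (Sum.inl_injective (g.injective (e2.trans e.symm)))
  obtain ⟨w, rfl⟩ := hg
  refine ⟨w, rfl, ?_⟩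
  rw [← map_mul, ← map_mul] at hc'
  exact congrArg Prod.fst (sumCongrHom_injective hc')

/-- A model of the two degrees. -/
structure Mdl (k : ℕ) where
  h9 : 9 ≤ 6 + k
  π : Perm (Fin k) →* Perm (Fin 3)
  X : Perm (Fin k)
  C : Perm (Fin k)
  c : ℕ
  M : ℕ
  facts : Facts π X C c M
  embA : emb h9 permA = ι k (a6, 1)
  embB : emb h9 permB = ι k (b6, 1)
  embC : emb h9 permC = ι k (1, C)
  embX : emb h9 permX = ι k (s6, X)

/-- Nine points. -/
def mdlNine : Mdl 3 :=
  ⟨le_rfl, MonoidHom.id _, swap 0 1, c3', 54, 9, facts_three, by decide +kernel, by decide +kernel,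
    by decide +kernel, by decide +kernel⟩

/-- Ten points. -/
def mdlTen : Mdl 4 :=
  ⟨by decide, pairHom, swap 0 1, c4', 216, 18, facts_four, by decide +kernel, by decide +kernel,
    by decide +kernel, by decide +kernel⟩

variable {G : Type*} [Group G] [Finite G] {k : ℕ} {z x : G} (T : Mdl k) (S : Std (6 + k) z x)

/-- The elements commuting with `z` and `y`. -/
def J : Subgroup G :=
  Subgroup.centralizer ({z} : Set G) ⊓ Subgroup.centralizer ({S.y} : Set G)

theorem mem_J {g : G} : g ∈ J S ↔ g * z = z * g ∧ g * S.y = S.y * g := by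
  simp [J, Subgroup.mem_inf, Subgroup.mem_centralizer_singleton_iff]

include T in
theorem py : S.H.p S.y = ι k (y6, 1) := by
  rw [S.p_y, map_mul, T.embA, T.embB, ← map_mul, Prod.mk_mul_mk, mul_one]
  rfl

include T in
theorem exists_coord (g : ↥(J S)) : ∃ w : W k, InW w ∧ ι k w = S.H.p g := by
  obtain ⟨h1, h2⟩ := mem_J S |>.mp g.2
  obtain ⟨w, hw, hw1⟩ := exists_eq_ι (h := S.H.p g) (by
    rw [← py T S, ← S.H.p_mul h1 S.y_z, ← S.H.p_mul S.y_z h1, h2])
  refine ⟨w, ⟨hw1, ?_⟩, hw⟩
  rw [← sign_ι, hw]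
  exact mem_alternatingGroup.mp (S.H.p_alt h1)

/-- The coordinates. -/
noncomputable def co : ↥(J S) →* W k where
  toFun g := (exists_coord T S g).choose
  map_one' := ι_injective k (by rw [(exists_coord T S 1).choose_spec.2, map_one]; exact S.H.p_one)
  map_mul' a b := ι_injective k (by
    rw [map_mul, (exists_coord T S (a * b)).choose_spec.2, (exists_coord T S a).choose_spec.2,
      (exists_coord T S b).choose_spec.2]
    exact S.H.p_mul (mem_J S |>.mp a.2).1 (mem_J S |>.mp b.2).1)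

theorem co_mem (g : ↥(J S)) : InW (co T S g) := (exists_coord T S g).choose_spec.1

theorem co_spec (g : ↥(J S)) : ι k (co T S g) = S.H.p g := (exists_coord T S g).choose_spec.2

theorem co_eq {g : ↥(J S)} {w : W k} (h : S.H.p g = ι k w) : co T S g = w :=
  ι_injective k ((co_spec T S g).trans h)

theorem exists_lift {w : W k} (hw : InW w) : ∃ g : ↥(J S), co T S g = w := by
  obtain ⟨g, hg, pg⟩ := S.H.exists_lift (s := ι k w) (mem_alternatingGroup.mpr (by rw [sign_ι]; exact hw.2))
  have hy : g * S.y = S.y * g := (S.H.commute_of_odd S.y_z hg (by decide : Odd 3) S.y_cube (by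
    rw [pg, py T S]
    show _ * _ = _ * _
    rw [← map_mul, ← map_mul]
    exact congrArg _ (Prod.ext hw.1.symm (by simp)))).symm
  exact ⟨⟨g, (mem_J S).mpr ⟨hg, hy⟩⟩, co_eq T S pg⟩

theorem z_mem_J : z ∈ J S := (mem_J S).mpr ⟨rfl, S.y_z.symm⟩

theorem y_mem_J : S.y ∈ J S := (mem_J S).mpr ⟨S.y_z, rfl⟩

theorem x_mem_J : x ∈ J S := (mem_J S).mpr ⟨S.xz, S.y_x.symm⟩

theorem co_y : co T S ⟨S.y, y_mem_J S⟩ = (y6, 1) := co_eq T S (py T S)

theorem co_x : co T S ⟨x, x_mem_J S⟩ = (s6, T.X) := co_eq T S (by rw [S.px, T.embX])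

theorem co_z : co T S ⟨z, z_mem_J S⟩ = 1 := co_eq T S (by rw [map_one]; exact S.H.p_z)

theorem eq_or_of_co {g h : ↥(J S)} (e : co T S g = co T S h) : (g : G) = h ∨ (g : G) = h * z := by
  refine S.H.eq_or_of_p_eq (mem_J S |>.mp g.2).1 (mem_J S |>.mp h.2).1 ?_
  rw [← co_spec T S g, ← co_spec T S h, e]

theorem isInvol_co {u : ↥(J S)} (uu : (u : G) * u = 1) (u1 : (u : G) ≠ 1) (uz : (u : G) ≠ z) :
    IsInvol (co T S u) := by
  refine ⟨co_mem T S u, ?_, ?_⟩
  · rw [← map_mul, show u * u = 1 from Subtype.ext uu, map_one]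
  · obtain ⟨m, ⟨F⟩⟩ := exists_frame S.H (mem_J S |>.mp u.2).1 uu uz u1
    rw [← card_support_ι, co_spec, F.card_support, F.four_eq (by have := S.h10; omega)]

theorem card_range_co : Nat.card (co T S).range = T.c := by
  rw [← T.facts.card]
  refine Nat.card_congr (Equiv.subtypeEquivRight fun w => ⟨?_, fun hw => exists_lift T S hw⟩)
  rintro ⟨g, rfl⟩
  exact co_mem T S g

theorem mem_ker_co {g : ↥(J S)} : g ∈ (co T S).ker ↔ (g : G) = 1 ∨ (g : G) = z := by
  rw [MonoidHom.mem_ker]
  refine ⟨fun h => ?_, ?_⟩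
  · have := eq_or_of_co T S (h := 1) (h.trans (map_one _).symm)
    simpa using this
  · rintro (e | e)
    · rw [show g = 1 from Subtype.ext e, map_one]
    · rw [show g = ⟨z, z_mem_J S⟩ from Subtype.ext e, co_z]

theorem card_ker_co : Nat.card (co T S).ker = 2 := by
  rw [Nat.card_eq_two_iff' (1 : (co T S).ker)]
  refine ⟨⟨⟨z, z_mem_J S⟩, (mem_ker_co T S).mpr (Or.inr rfl)⟩,
    fun e => S.H.z_ne (congrArg (fun t : (co T S).ker => (t.1 : G)) e), fun t ht => ?_⟩
  rcases (mem_ker_co T S).mp t.2 with e | e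
  · exact absurd (Subtype.ext (Subtype.ext e)) ht
  · exact Subtype.ext (Subtype.ext e)

theorem card_J : Nat.card ↥(J S) = 2 * T.c := by
  rw [← Subgroup.card_mul_index (co T S).ker, Subgroup.index_ker, card_range_co, card_ker_co]

end CfsgLib.SpinCent.CaseA
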