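import Cfsg.Agent.Lib.SpinCent.CaseBGens

/-!
# The second case on nine points
-/

set_option autoImplicit false
set_option linter.unusedSectionVars false
set_option linter.style.haveILetI false

namespace CfsgLib.SpinCent

open Equiv Equiv.Perm

/-- A candidate permutation commuting with the product of two three-cycles. -/
def candY (a b : Fin 9) (t : Fin 3 → Fin 3) (q : Fin 9) : Fin 9 :=
  if (q : ℕ) < 3 then ((permA * permB) ^ (q : ℕ)) a
  else if (q : ℕ) < 6 then ((permA * permB) ^ ((q : ℕ) - 3)) b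
  else ⟨6 + (t ⟨((q : ℕ) - 6) % 3, Nat.mod_lt _ (by norm_num)⟩).1, by omega⟩

set_option maxRecDepth 10000 in
theorem candY_comm : ∀ a b : Fin 9, (permA * permB) a ≠ a → (permA * permB) b ≠ b → ∀ t : Fin 3 → Fin 3,
    (∀ q, (candY a b t)^[27] q = q) →
      ∀ q, candY a b t (permA q) = permA (candY a b t q) ∧ candY a b t (permB q) = permB (candY a b t q) ∧
        candY a b t (permC q) = permC (candY a b t q) := by
  decide +kernel

theorem comm_of_permY {σ : Perm (Fin 9)} (h : σ * (permA * permB) = permA * permB * σ) (h27 : σ ^ 27 = 1) :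
    σ * permA = permA * σ ∧ σ * permB = permB * σ ∧ σ * permC = permC * σ := by
  set Y := permA * permB with hY
  have hc : ∀ k : ℕ, ∀ q, σ ((Y ^ k) q) = (Y ^ k) (σ q) := fun k q => by
    rw [← Perm.mul_apply, ((show Commute σ Y from h).pow_right k).eq, Perm.mul_apply]
  have hc1 : ∀ q, σ (Y q) = Y (σ q) := fun q => by simpa using hc 1 q
  have hfix : ∀ q : Fin 9, Y q = q ↔ 6 ≤ (q : ℕ) := by decide +kernel
  have hmoved : ∀ q, Y q ≠ q → Y (σ q) ≠ σ q := fun q hq e => hq (σ.injective (by rw [hc1, e]))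
  have hfixed : ∀ q : Fin 9, 6 ≤ (q : ℕ) → 6 ≤ (σ q : ℕ) := fun q hq =>
    (hfix _).mp (by rw [← hc1, (hfix q).mpr hq])
  let t : Fin 3 → Fin 3 := fun i => ⟨(σ ⟨6 + i.1, by omega⟩ : ℕ) - 6, by
    have := hfixed ⟨6 + i.1, by omega⟩ (by simp)
    have := (σ ⟨6 + i.1, by omega⟩).2
    omega⟩
  have heq : ∀ q, candY (σ 0) (σ 3) t q = σ q := by
    intro q
    have hlow : ∀ q : Fin 9, ((q : ℕ) < 3 → (Y ^ (q : ℕ)) 0 = q) ∧
        (¬ (q : ℕ) < 3 → (q : ℕ) < 6 → (Y ^ ((q : ℕ) - 3)) 3 = q) := by decide +kernel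
    unfold candY
    split_ifs with h1 h2
    · rw [← hY, ← hc]; exact congrArg σ ((hlow q).1 h1)
    · rw [← hY, ← hc]; exact congrArg σ ((hlow q).2 h1 h2)
    · have e : (⟨6 + ((q : ℕ) - 6) % 3, by omega⟩ : Fin 9) = q := Fin.ext (by
        show 6 + ((q : ℕ) - 6) % 3 = q
        have := q.2
        omega)
      refine Fin.ext ?_
      show 6 + ((σ ⟨6 + ((q : ℕ) - 6) % 3, _⟩ : ℕ) - 6) = _
      simp only [e]
      have := hfixed q (by omega)
      omega
  have hfun : candY (σ 0) (σ 3) t = σ := funext heq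
  have hiter : ∀ q, (candY (σ 0) (σ 3) t)^[27] q = q := fun q => by
    rw [hfun, ← Perm.coe_pow, h27, Perm.one_apply]
  have hres := candY_comm (σ 0) (σ 3) (hmoved 0 (by decide +kernel)) (hmoved 3 (by decide +kernel)) t hiter
  refine ⟨Equiv.ext fun q => ?_, Equiv.ext fun q => ?_, Equiv.ext fun q => ?_⟩ <;>
    have h := hres q <;> rw [hfun] at h
  exacts [h.1, h.2.1, h.2.2]

theorem emb_nine (h : 9 ≤ 9) (σ : Perm (Fin 9)) : emb h σ = σ :=
  Equiv.ext fun q => (emb_apply h σ q : _)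

variable {G : Type*} [Group G] [Finite G] {z x : G}

theorem Std.mem_P3_of_odd (S : Std 9 z x) {g : G} (hodd : Odd (orderOf g)) (hgz : g * z = z * g)
    (hgy : g * S.y = S.y * g) : g ∈ S.P3 := by
  have h27 : orderOf g ∣ 27 := by
    rw [← Nat.card_zpowers]
    refine S.odd_dvd (by rwa [Nat.card_zpowers]) ?_ ?_
    · rintro _ ⟨i, rfl⟩; exact ((show Commute g z from hgz).zpow_left i).eq
    · rintro _ ⟨i, rfl⟩; exact ((show Commute g S.y from hgy).zpow_left i).eq
  obtain ⟨h1, h2, h3⟩ := comm_of_permY (σ := S.H.p g)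
    (by
      rw [← emb_nine S.h9 (permA * permB), ← S.p_y, ← S.H.p_mul hgz S.y_z, ← S.H.p_mul S.y_z hgz, hgy])
    (by rw [← S.H.p_pow hgz, orderOf_dvd_iff_pow_eq_one.mp h27, S.H.p_one])
  have g27 : g ^ 27 = 1 := orderOf_dvd_iff_pow_eq_one.mp h27
  have e1 := S.H.commute_of_odd hgz S.comm₁ (by decide : Odd 27) g27 (by rw [S.p₁, emb_nine]; exact h1)
  have e2 := S.H.commute_of_odd hgz S.comm₂ (by decide : Odd 27) g27 (by rw [S.p₂, emb_nine]; exact h2)
  have e3 := S.H.commute_of_odd hgz S.comm₃ (by decide : Odd 27) g27 (by rw [S.p₃, emb_nine]; exact h3)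
  rcases S.cent_P3 hgz e1 e2 e3 with e | e
  · exact e
  · exact (S.eq_z_of_odd hodd hgz e).elim

theorem conj_comm {F a b c : G} (h : a * b = b * a) (hb : F * b * F⁻¹ = c) :
    F * a * F⁻¹ * c = c * (F * a * F⁻¹) := by
  rw [← hb]
  calc F * a * F⁻¹ * (F * b * F⁻¹) = F * (a * b) * F⁻¹ := by group
    _ = F * (b * a) * F⁻¹ := by rw [h]
    _ = _ := by group

theorem conj_inv_eq {F a b : G} (h : F * a * F⁻¹ = b) : F⁻¹ * b * F⁻¹⁻¹ = a := by
  rw [← h]; group

theorem odd_conj {F a : G} (h : Odd (orderOf a)) : Odd (orderOf (F * a * F⁻¹)) := by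
  rwa [← MulAut.conj_apply, MulEquiv.orderOf_eq]

theorem Std.false_of_caseB_nine (S : Std 9 z x) {Y : Subgroup G} (PY : Split z (Subgroup.centralizer S.gens₀) Y)
    (hYz : Y ⊓ Subgroup.centralizer ({z} : Set G) = S.P3)
    (hI : (CfsgLib.SmallCent.inverted Y z).ncard = 9)
    (hA9 : Nat.card ↥(Y ⊓ Subgroup.centralizer ({x} : Set G)) = 9) : False := by
  classical
  have hG := S.gens₀_gens
  obtain ⟨hab, hY, -, -, -⟩ := hG.card_core PY
  rw [hI, hA9] at hab
  set A := Y ⊓ Subgroup.centralizer ({x} : Set G) with hAdef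
  set A' := Y ⊓ Subgroup.centralizer ({x * z} : Set G) with hA'def
  have hA'9 : Nat.card A' = 9 := by omega
  obtain ⟨E, hEy, hE1, hE2, hE3⟩ := S.exists_E
  have Ey : E * S.y * E⁻¹ = S.y := mul_inv_eq_iff_eq_mul.mpr hEy
  have Ey' : E⁻¹ * S.y * E⁻¹⁻¹ = S.y := by
    calc E⁻¹ * S.y * E⁻¹⁻¹ = E⁻¹ * (E * S.y * E⁻¹) * E := by rw [Ey, inv_inv]
      _ = S.y := by group
  have E1' : E⁻¹ * x * E⁻¹⁻¹ = z := by rw [← hE1]; group
  set Px := S.P3.map (MulAut.conj E).toMonoidHom with hPx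
  set Pxz := Px.map (MulAut.conj E).toMonoidHom with hPxz
  have h27 : Odd 27 := by decide
  have oddP : ∀ {g : G}, g ∈ S.P3 → Odd (orderOf g) := fun hg => odd_orderOf (S.card_P3 ▸ h27) hg
  have memPx : ∀ {g : G}, g ∈ Px → Odd (orderOf g) ∧ g * x = x * g ∧ g * S.y = S.y * g := by
    rintro _ ⟨g, hg, rfl⟩
    exact ⟨odd_conj (oddP hg), conj_comm (S.P3_comm_z hg) hE1, conj_comm (S.P3_comm hg S.y_mem) Ey⟩
  have memPxz : ∀ {g : G}, g ∈ Pxz → Odd (orderOf g) ∧ g * (x * z) = x * z * g ∧ g * S.y = S.y * g := by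
    rintro _ ⟨g, hg, rfl⟩
    obtain ⟨o, hx, hy⟩ := memPx hg
    exact ⟨odd_conj o, conj_comm hx hE2, conj_comm hy Ey⟩
  have cPx : Nat.card Px = 27 := (Subgroup.card_map_of_injective (MulAut.conj E).injective).trans S.card_P3
  have cPxz : Nat.card Pxz = 27 := (Subgroup.card_map_of_injective (MulAut.conj E).injective).trans cPx
  have back : Pxz.map (MulAut.conj E).toMonoidHom = S.P3 := by
    refine Subgroup.eq_of_le_of_card_ge ?_ (le_of_eq ?_)
    · rintro _ ⟨g, hg, rfl⟩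
      obtain ⟨o, hxz, hy⟩ := memPxz hg
      exact S.mem_P3_of_odd (odd_conj o) (conj_comm hxz hE3) (conj_comm hy Ey)
    · rw [S.card_P3, Subgroup.card_map_of_injective (MulAut.conj E).injective, cPxz]
  have inPx : ∀ {g : G}, Odd (orderOf g) → g * x = x * g → g * S.y = S.y * g → g ∈ Px := by
    intro g o hx hy
    refine ⟨E⁻¹ * g * E⁻¹⁻¹, S.mem_P3_of_odd (odd_conj o) (conj_comm hx E1') (conj_comm hy Ey'), ?_⟩
    show E * (E⁻¹ * g * E⁻¹⁻¹) * E⁻¹ = g
    group
  have inPxz : ∀ {g : G}, Odd (orderOf g) → g * (x * z) = x * z * g → g * S.y = S.y * g → g ∈ Pxz := by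
    intro g o hx hy
    have : E * g * E⁻¹ ∈ Pxz.map (MulAut.conj E).toMonoidHom := by
      rw [back]; exact S.mem_P3_of_odd (odd_conj o) (conj_comm hx hE3) (conj_comm hy Ey)
    obtain ⟨g', hg', e⟩ := this
    rwa [show g' = g from (MulAut.conj E).injective e] at hg'
  have zc : ∀ a : G, a * z = z * a → z * a * z⁻¹ = a := fun a h => mul_inv_eq_iff_eq_mul.mpr h.symm
  have zPx : ∀ g ∈ Px, z * g * z⁻¹ ∈ Px := fun g hg => by
    obtain ⟨o, hx, hy⟩ := memPx hg
    exact inPx (odd_conj o) (conj_comm hx (zc x S.xz)) (conj_comm hy (zc _ S.y_z))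
  have zPxz : ∀ g ∈ Pxz, z * g * z⁻¹ ∈ Pxz := fun g hg => by
    obtain ⟨o, hx, hy⟩ := memPxz hg
    exact inPxz (odd_conj o) (conj_comm hx (zc _ (Hyp.comm_mul S.xz rfl))) (conj_comm hy (zc _ S.y_z))
  have hYy : ∀ {g : G}, g ∈ Y → g * S.y = S.y * g := fun hg => hG.comm_y (PY.le hg)
  have hAPx : A ≤ Px := fun g hg =>
    inPx (odd_orderOf PY.odd (Subgroup.mem_inf.mp hg).1) (mem_cent.mp (Subgroup.mem_inf.mp hg).2)
      (hYy (Subgroup.mem_inf.mp hg).1)
  have hA'Pxz : A' ≤ Pxz := fun g hg =>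
    inPxz (odd_orderOf PY.odd (Subgroup.mem_inf.mp hg).1) (mem_cent.mp (Subgroup.mem_inf.mp hg).2)
      (hYy (Subgroup.mem_inf.mp hg).1)
  have comP : ∀ {g p : G}, g ∈ Y → p ∈ S.P3 → g * p = p * g := by
    intro g p hg hp
    obtain ⟨i, j, k, rfl⟩ := hp
    have hm := Subgroup.mem_centralizer_iff.mp (PY.le hg)
    have q1 : Commute g S.c₁ := (hm S.c₁ (Or.inl rfl)).symm
    have q2 : Commute g S.c₂ := (hm S.c₂ (Or.inr (Or.inl rfl))).symm
    have q3 : Commute g S.c₃ := (hm S.c₃ (Or.inr (Or.inr rfl))).symm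
    exact (((q1.pow_right i).mul_right (q2.pow_right j)).mul_right (q3.pow_right k)).eq
  -- the whole core is abelian
  obtain ⟨v₁, hA1⟩ := S.exists_axis₁
  have hA3 := S.axis₃
  have habel : ∀ {a b : G}, a ∈ Y → b ∈ Y → a * b = b * a := by
    intro a b ha hb
    obtain ⟨f, hf, hfz, i, hi, hiz, rfl⟩ := exists_fixed_mul_inverted PY.odd S.H.zz (fun g hg => hG.z_norm PY hg) ha
    obtain ⟨f', hf', hfz', j, hj, hjz, rfl⟩ := exists_fixed_mul_inverted PY.odd S.H.zz (fun g hg => hG.z_norm PY hg) hb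
    have hfP : f ∈ S.P3 := hYz ▸ Subgroup.mem_inf.mpr ⟨hf, mem_cent.mpr hfz⟩
    have hfP' : f' ∈ S.P3 := hYz ▸ Subgroup.mem_inf.mpr ⟨hf', mem_cent.mpr hfz'⟩
    have hij : i * j = j * i := by
      have key : ∀ {c v : G}, Axis S c v → c ∈ S.gens₀ → i * j * (j * i)⁻¹ ∈ Subgroup.zpowers c := by
        intro c v hA hc
        obtain ⟨Oc, Pc⟩ := S.exists_core (s := {c}) rfl hA.comm hA.three (fun u hu => hu ▸ hA.comm)
        have hm : ∀ {r : G}, r ∈ Y → z * r * z⁻¹ = r⁻¹ → r ∈ Oc := fun hr hrz =>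
          Pc.mem_of_inverted (Subgroup.mem_centralizer_singleton_iff.mpr hA.comm.symm)
            (Subgroup.mem_centralizer_singleton_iff.mpr (Subgroup.mem_centralizer_iff.mp (PY.le hr) c hc).symm)
            (odd_orderOf PY.odd hr) hrz
        exact hA.commutator_mem Pc (hm hi hiz) (hm hj hjz)
      obtain ⟨a, ha⟩ := Subgroup.mem_zpowers_iff.mp (key hA1 (Or.inl rfl))
      obtain ⟨b, hb⟩ := Subgroup.mem_zpowers_iff.mp (key hA3 (Or.inr (Or.inr rfl)))
      refine mul_inv_eq_one.mp ?_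
      rw [← ha]
      have hp : S.H.p (S.c₁ ^ a) = S.H.p (S.c₃ ^ b) := by rw [ha, hb]
      have hpz : ∀ (c : G) (k : ℤ), c ^ 3 = 1 → ∃ l : Fin 3, c ^ k = c ^ (l : ℕ) := fun c k hc => by
        have h0 := Int.emod_nonneg k (show (3 : ℤ) ≠ 0 by norm_num)
        have h3 := Int.emod_lt_of_pos k (show (0 : ℤ) < 3 by norm_num)
        refine ⟨⟨(k % 3).toNat, by omega⟩, ?_⟩
        rw [← zpow_natCast c (k % 3).toNat, Int.toNat_of_nonneg h0]
        exact (zpow_eq_zpow_emod' k hc)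
      obtain ⟨l, hl⟩ := hpz S.c₁ a S.cube₁
      obtain ⟨l', hl'⟩ := hpz S.c₃ b S.cube₃
      rw [hl, hl', S.H.p_pow S.comm₁, S.H.p_pow S.comm₃, S.p₁, S.p₃, ← map_pow, ← map_pow] at hp
      have hfin : ∀ l l' : Fin 3, permA ^ (l : ℕ) = permC ^ (l' : ℕ) → l = 0 := by decide +kernel
      rw [hl, hfin l l' (emb_injective _ hp)]
      exact pow_zero _
    calc f * i * (f' * j) = f * (i * f') * j := by group
      _ = (f * f') * (i * j) := by rw [comP hi hfP']; group
      _ = f' * (f * j) * i := by rw [S.P3_comm hfP hfP', hij]; group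
      _ = f' * (j * f) * i := by rw [comP hj hfP]
      _ = _ := by group
  -- neither `Px` nor `Pxz` centralises the lifts
  have hPnot : ∀ (R : Subgroup G) (u : G), (u = x ∨ u = x * z) → Nat.card R = 27 → (∀ g ∈ R, g * u = u * g) →
      (∀ g ∈ R, z * g * z⁻¹ ∈ R) → (∀ g ∈ R, g * S.y = S.y * g) →
      Nat.card ↥(Y ⊓ Subgroup.centralizer ({u} : Set G)) = 9 → ¬ R ≤ Subgroup.centralizer S.gens₀ := by
    intro R u _ hR hu hz _ h9 hle
    have hRY : R ≤ Y := hG.le_core PY (by rw [hR]; exact h27) hle hz fun g hg hgz => by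
      have : g ∈ S.P3 := by
        have hm := Subgroup.mem_centralizer_iff.mp (hle hg)
        rcases S.cent_P3 hgz (hm S.c₁ (Or.inl rfl)).symm (hm S.c₂ (Or.inr (Or.inl rfl))).symm
          (hm S.c₃ (Or.inr (Or.inr rfl))).symm with e | e
        · exact e
        · exact (S.eq_z_of_odd (odd_orderOf (hR ▸ h27) hg) hgz e).elim
      exact (hYz.symm ▸ this : g ∈ Y ⊓ Subgroup.centralizer ({z} : Set G)).1
    have := Subgroup.card_le_of_le (le_inf hRY fun g hg => mem_cent.mpr (hu g hg) :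
      R ≤ Y ⊓ Subgroup.centralizer ({u} : Set G))
    rw [hR, h9] at this
    omega
  have hPxnot := hPnot Px x (Or.inl rfl) cPx (fun g hg => (memPx hg).2.1) zPx (fun g hg => (memPx hg).2.2) hA9
  have hPxznot := hPnot Pxz (x * z) (Or.inr rfl) cPxz (fun g hg => (memPxz hg).2.1) zPxz
    (fun g hg => (memPxz hg).2.2) hA'9
  -- `d`
  obtain ⟨d, hd, pd, hdx, d1, d2, d3, dy⟩ := S.exists_d
  have hdd : ∀ a : G, a * z = z * a → d * (d * a * d⁻¹) * d⁻¹ = a ∨ d * (d * a * d⁻¹) * d⁻¹ = z * a * z⁻¹ := by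
    intro a ha
    have hsq : S.H.p (d * d) = 1 := by
      rw [S.H.p_mul hd hd, pd, ← map_mul, show permD * permD = 1 by decide +kernel, map_one]
    rw [show d * (d * a * d⁻¹) * d⁻¹ = d * d * a * (d * d)⁻¹ by group]
    rcases S.H.eq_or_of_p_eq_one (Hyp.comm_mul hd hd) hsq with e | e
    · left; rw [e]; group
    · right; rw [e]
  have dd_mem : ∀ {R : Subgroup G}, (∀ g ∈ R, z * g * z⁻¹ ∈ R) → ∀ g ∈ R, d * (d * g * d⁻¹) * d⁻¹ ∈ R := by
    intro R hR g hg
    have hsq : S.H.p (d * d) = 1 := by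
      rw [S.H.p_mul hd hd, pd, ← map_mul, show permD * permD = 1 by decide +kernel, map_one]
    rw [show d * (d * g * d⁻¹) * d⁻¹ = d * d * g * (d * d)⁻¹ by group]
    rcases S.H.eq_or_of_p_eq_one (Hyp.comm_mul hd hd) hsq with e | e <;> rw [e]
    · simpa using hg
    · exact hR g hg
  have dyy : d * S.y⁻¹ * d⁻¹ = S.y := by rw [show d * S.y⁻¹ * d⁻¹ = (d * S.y * d⁻¹)⁻¹ by group, dy, inv_inv]
  have hdxz : d * (x * z) * d⁻¹ = x := by
    rw [show d * (x * z) * d⁻¹ = (d * x * d⁻¹) * (d * z * d⁻¹) by group, hdx, mul_inv_eq_iff_eq_mul.mpr hd, mul_assoc,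
      S.H.zz, mul_one]
  have dPxz : ∀ g ∈ Pxz, d * g * d⁻¹ ∈ Px := fun g hg => by
    obtain ⟨o, hxz, hy⟩ := memPxz hg
    exact inPx (odd_conj o) (conj_comm hxz hdxz) (conj_comm (Commute.inv_right hy : Commute g S.y⁻¹) dyy)
  have dPx : ∀ g ∈ Px, d * g * d⁻¹ ∈ Pxz := fun g hg => by
    obtain ⟨o, hx, hy⟩ := memPx hg
    exact inPxz (odd_conj o) (conj_comm hx hdx) (conj_comm (Commute.inv_right hy : Commute g S.y⁻¹) dyy)
  -- `A` centralises `Pxz`
  set A2 := A.map (MulAut.conj E).toMonoidHom with hA2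
  set S2 := A2.map (MulAut.conj d).toMonoidHom with hS2
  have hA2c : ∀ g ∈ A2, g ∈ Pxz ∧ ∀ p ∈ Px, g * p = p * g := by
    rintro _ ⟨a, ha, rfl⟩
    refine ⟨⟨a, hAPx ha, rfl⟩, ?_⟩
    rintro _ ⟨p, hp, rfl⟩
    exact conj_comm (comP (Subgroup.mem_inf.mp ha).1 hp) rfl
  have hS2c : ∀ g ∈ S2, g ∈ Px ∧ ∀ p ∈ Pxz, g * p = p * g := by
    rintro _ ⟨a, ha, rfl⟩
    refine ⟨dPxz a (hA2c a ha).1, fun p hp => ?_⟩
    have hp' : d⁻¹ * p * d ∈ Px := by
      have h1 := dPxz p hp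
      have h2 := dd_mem zPx _ h1
      obtain ⟨o, hxz, hy⟩ := memPxz hp
      refine inPx (by simpa using odd_conj (F := d⁻¹) o) ?_ ?_
      · have := conj_comm (F := d⁻¹) hxz (c := x) (conj_inv_eq hdx)
        simpa using this
      · have := conj_comm (F := d⁻¹) (Commute.inv_right hy : Commute p S.y⁻¹) (c := S.y) (conj_inv_eq dy)
        simpa using this
    have := conj_comm (F := d) ((hA2c a ha).2 _ hp') (c := p) (by group)
    exact this
  have hZ : ∀ {R : Subgroup G}, (∀ g ∈ R, g ∈ Pxz ∧ ∀ p ∈ Px, g * p = p * g) → Nat.card R = 9 →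
      R = Pxz ⊓ Subgroup.centralizer (Px : Set G) := by
    intro R hR h9
    have hd27 : Nat.card ↥(Pxz ⊓ Subgroup.centralizer (Px : Set G)) ∣ 3 ^ 3 := by
      refine (Subgroup.card_dvd_of_le inf_le_left).trans ?_
      rw [cPxz]; norm_num
    obtain ⟨j, hj, hje⟩ := (Nat.dvd_prime_pow Nat.prime_three).mp hd27
    refine Subgroup.eq_of_le_of_card_ge (fun g hg => Subgroup.mem_inf.mpr ⟨(hR g hg).1,
      Subgroup.mem_centralizer_iff.mpr fun p hp => ((hR g hg).2 p hp).symm⟩) ?_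
    rw [h9, hje]
    interval_cases j <;> try norm_num
    exfalso
    have hall : Pxz ⊓ Subgroup.centralizer (Px : Set G) = Pxz :=
      Subgroup.eq_of_le_of_card_ge inf_le_left (by rw [hje, cPxz]; norm_num)
    refine hPxznot fun g hg => Subgroup.mem_centralizer_iff.mpr fun u hu => ?_
    have huP : u ∈ Pxz.map (MulAut.conj E).toMonoidHom := back.symm ▸ hG.sub hu
    obtain ⟨u', hu', rfl⟩ := huP
    obtain ⟨p, hp, rfl⟩ := hg
    have h1 := Subgroup.mem_centralizer_iff.mp (Subgroup.mem_inf.mp (hall.symm ▸ hu')).2 p hp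
    exact conj_comm h1.symm rfl
  have hAS : ∀ a ∈ A, ∀ p ∈ Pxz, a * p = p * a := by
    by_cases hle : A ≤ S2
    · exact fun a ha p hp => (hS2c a (hle ha)).2 p hp
    exfalso
    have hsupPx : A ⊔ S2 = Px := by
      have hle' : A ⊔ S2 ≤ Px := sup_le hAPx fun g hg => (hS2c g hg).1
      refine Subgroup.eq_of_le_of_card_ge hle' ?_
      have hd27 : Nat.card ↥(A ⊔ S2) ∣ 3 ^ 3 := by
        refine (Subgroup.card_dvd_of_le hle').trans ?_
        rw [cPx]; norm_num
      obtain ⟨j, hj, hje⟩ := (Nat.dvd_prime_pow Nat.prime_three).mp hd27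
      have hS9 : Nat.card S2 = 9 := by
        rw [hS2, Subgroup.card_map_of_injective (MulAut.conj d).injective, hA2,
          Subgroup.card_map_of_injective (MulAut.conj E).injective, hA9]
      have h9 := Subgroup.card_le_of_le (le_sup_left : A ≤ A ⊔ S2)
      rw [hA9, hje] at h9
      rw [cPx, hje]
      interval_cases j
      · norm_num at h9
      · norm_num at h9
      swap
      · norm_num
      exfalso
      have hAeq : A = A ⊔ S2 := Subgroup.eq_of_le_of_card_ge le_sup_left (by rw [hA9, hje]; norm_num)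
      have hSA : S2 = A := Subgroup.eq_of_le_of_card_ge (hAeq ▸ le_sup_right) (by rw [hS9, hA9])
      exact hle hSA.ge
    have hA'c : ∀ g ∈ A', g ∈ Pxz ∧ ∀ p ∈ Px, g * p = p * g := by
      intro g hg
      refine ⟨hA'Pxz hg, fun p hp => ?_⟩
      have hle2 : A ⊔ S2 ≤ Subgroup.centralizer ({g} : Set G) :=
        sup_le (fun a ha => mem_cent.mpr (habel (Subgroup.mem_inf.mp ha).1 (Subgroup.mem_inf.mp hg).1))
          fun a ha => mem_cent.mpr ((hS2c a ha).2 g (hA'Pxz hg))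
      exact (mem_cent.mp (hle2 (hsupPx.symm ▸ hp))).symm
    have h21 := hZ hA2c (by rw [hA2, Subgroup.card_map_of_injective (MulAut.conj E).injective, hA9])
    have h22 := hZ hA'c hA'9
    refine hle fun a ha => ?_
    have hdY : ∀ g ∈ Y, d * g * d⁻¹ ∈ Y := by
      intro g hg
      refine (Subgroup.mem_normalizer_iff.mp (PY.stable d (mem_normalizer_centralizer ?_ ?_)) g).mp hg
      · rintro u (rfl | rfl | rfl)
        · rw [d1]; exact inv_mem (Subgroup.subset_closure (Or.inl rfl))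
        · rw [d2]; exact inv_mem (Subgroup.subset_closure (Or.inr (Or.inl rfl)))
        · rw [d3]; exact Subgroup.subset_closure (Or.inr (Or.inr rfl))
      · rintro u (rfl | rfl | rfl)
        · rw [show d⁻¹ * S.c₁ * d = (d⁻¹ * (d * S.c₁ * d⁻¹) * d)⁻¹ by rw [d1]; group,
            show d⁻¹ * (d * S.c₁ * d⁻¹) * d = S.c₁ by group]
          exact inv_mem (Subgroup.subset_closure (Or.inl rfl))
        · rw [show d⁻¹ * S.c₂ * d = (d⁻¹ * (d * S.c₂ * d⁻¹) * d)⁻¹ by rw [d2]; group,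
            show d⁻¹ * (d * S.c₂ * d⁻¹) * d = S.c₂ by group]
          exact inv_mem (Subgroup.subset_closure (Or.inr (Or.inl rfl)))
        · rw [show d⁻¹ * S.c₃ * d = d⁻¹ * (d * S.c₃ * d⁻¹) * d by rw [d3],
            show d⁻¹ * (d * S.c₃ * d⁻¹) * d = S.c₃ by group]
          exact Subgroup.subset_closure (Or.inr (Or.inr rfl))
    -- `a` is the image under `d` of an element of `A'`
    obtain ⟨haY, hax⟩ := Subgroup.mem_inf.mp ha
    set b := d⁻¹ * a * d with hb
    have hbA' : b ∈ A' := by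
      have h1 : d * a * d⁻¹ ∈ A' := Subgroup.mem_inf.mpr ⟨hdY a haY, mem_cent.mpr (conj_comm (mem_cent.mp hax) hdx)⟩
      have hzA' : ∀ g ∈ A', z * g * z⁻¹ ∈ A' := fun g hg => Subgroup.mem_inf.mpr
        ⟨hG.z_norm PY (Subgroup.mem_inf.mp hg).1, mem_cent.mpr
          (conj_comm (mem_cent.mp (Subgroup.mem_inf.mp hg).2) (zc _ (Hyp.comm_mul S.xz rfl)))⟩
      have hsq : S.H.p (d * d) = 1 := by
        rw [S.H.p_mul hd hd, pd, ← map_mul, show permD * permD = 1 by decide +kernel, map_one]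
      have hb' : b = (d * d)⁻¹ * (d * a * d⁻¹) * (d * d) := by rw [hb]; group
      rcases S.H.eq_or_of_p_eq_one (Hyp.comm_mul hd hd) hsq with e | e <;> rw [hb', e]
      · simpa using h1
      · rw [inv_eq_of_mul_eq_one_right S.H.zz]
        simpa [inv_eq_of_mul_eq_one_right S.H.zz] using hzA' _ h1
    refine ⟨b, by rw [SetLike.mem_coe, h21, ← h22]; exact hbA', ?_⟩
    show d * b * d⁻¹ = a
    rw [hb]; group
  -- a subgroup of the lifts centralising both
  set Z3 := S.P3 ⊓ Subgroup.centralizer ((Px : Set G) ∪ (Pxz : Set G)) with hZ3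
  have hB0 : A.map (MulAut.conj E⁻¹).toMonoidHom ≤ Z3 := by
    rintro _ ⟨a, ha, rfl⟩
    refine Subgroup.mem_inf.mpr ⟨?_, Subgroup.mem_centralizer_iff.mpr ?_⟩
    · obtain ⟨o, hx, hy⟩ := memPx (hAPx ha)
      exact S.mem_P3_of_odd (odd_conj o) (conj_comm hx E1') (conj_comm hy Ey')
    · rintro p (hp | hp)
      · refine (conj_comm (F := E⁻¹) (b := E * p * E⁻¹) ?_ (by group)).symm
        exact hAS a ha _ ⟨p, hp, rfl⟩
      · refine (conj_comm (F := E⁻¹) (b := E * p * E⁻¹) ?_ (by group)).symm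
        exact comP (Subgroup.mem_inf.mp ha).1 (back ▸ ⟨p, hp, rfl⟩)
  have hc9 : 9 ≤ Nat.card Z3 := by
    have := Subgroup.card_le_of_le hB0
    rwa [Subgroup.card_map_of_injective (MulAut.conj E⁻¹).injective, hA9] at this
  have hdZ : ∀ g ∈ Z3, d * g * d⁻¹ ∈ Z3 := by
    intro g hg
    obtain ⟨hgP, hgc⟩ := Subgroup.mem_inf.mp hg
    refine Subgroup.mem_inf.mpr ⟨?_, Subgroup.mem_centralizer_iff.mpr ?_⟩
    · refine S.mem_P3_of_odd (odd_conj (oddP hgP)) (conj_comm (S.P3_comm_z hgP) (mul_inv_eq_iff_eq_mul.mpr hd)) ?_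
      exact conj_comm (Commute.inv_right (S.P3_comm hgP S.y_mem) : Commute g S.y⁻¹) dyy
    · intro p hp
      have hp' : d⁻¹ * p * d ∈ (Px : Set G) ∪ (Pxz : Set G) := by
        rcases hp with hp | hp
        · right
          obtain ⟨o, hx, hy⟩ := memPx hp
          refine inPxz (by simpa using odd_conj (F := d⁻¹) o) ?_ ?_
          · have := conj_comm (F := d⁻¹) hx (c := x * z) (conj_inv_eq hdxz)
            simpa using this
          · have := conj_comm (F := d⁻¹) (Commute.inv_right hy : Commute p S.y⁻¹) (c := S.y) (conj_inv_eq dy)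
            simpa using this
        · left
          obtain ⟨o, hxz, hy⟩ := memPxz hp
          refine inPx (by simpa using odd_conj (F := d⁻¹) o) ?_ ?_
          · have := conj_comm (F := d⁻¹) hxz (c := x) (conj_inv_eq hdx)
            simpa using this
          · have := conj_comm (F := d⁻¹) (Commute.inv_right hy : Commute p S.y⁻¹) (c := S.y) (conj_inv_eq dy)
            simpa using this
      have := Subgroup.mem_centralizer_iff.mp hgc _ hp'
      exact (conj_comm (F := d) this.symm (by group)).symm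
  have hnotall : ¬ S.P3 ≤ Z3 := fun hle => hPxnot fun g hg => Subgroup.mem_centralizer_iff.mpr fun u hu =>
    (Subgroup.mem_centralizer_iff.mp (Subgroup.mem_inf.mp (hle (hG.sub hu))).2 g (Or.inl hg)).symm
  have hyZ : S.y ∈ Z3 := Subgroup.mem_inf.mpr ⟨S.y_mem, Subgroup.mem_centralizer_iff.mpr (by
    rintro p (hp | hp)
    exacts [(memPx hp).2.2, (memPxz hp).2.2])⟩
  -- it contains one of two pairs of generators
  have hpair : (S.c₁ ∈ Z3 ∧ S.c₂ ∈ Z3) ∨ S.c₃ ∈ Z3 := by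
    by_contra hno
    push Not at hno
    obtain ⟨hno1, hno3⟩ := hno
    have hsub : (Z3 : Set G) ⊆ (Subgroup.zpowers S.y : Set G) := by
      intro g hg
      obtain ⟨i, j, k, rfl⟩ := (Subgroup.mem_inf.mp hg).1
      have hk : k % 3 = 0 := by
        by_contra hk
        refine hno3 ?_
        have hm : S.c₁ ^ i * S.c₂ ^ j * S.c₃ ^ k * (d * (S.c₁ ^ i * S.c₂ ^ j * S.c₃ ^ k) * d⁻¹) ∈ Z3 :=
          Z3.mul_mem hg (hdZ _ hg)
        have e : d * (S.c₁ ^ i * S.c₂ ^ j * S.c₃ ^ k) * d⁻¹ = (S.c₁ ^ i)⁻¹ * (S.c₂ ^ j)⁻¹ * S.c₃ ^ k := by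
          rw [← MulAut.conj_apply, map_mul, map_mul, map_pow, map_pow, map_pow, MulAut.conj_apply, MulAut.conj_apply,
            MulAut.conj_apply, d1, d2, d3, inv_pow, inv_pow]
        rw [e] at hm
        have q12 : Commute (S.c₁ ^ i) (S.c₂ ^ j) := mul_pow_comm S.comm₁₂ i j
        have q13 : Commute (S.c₁ ^ i) (S.c₃ ^ k) := mul_pow_comm S.comm₁₃ i k
        have q23 : Commute (S.c₂ ^ j) (S.c₃ ^ k) := mul_pow_comm S.comm₂₃ j k
        have q : Commute (S.c₃ ^ k) ((S.c₁ ^ i)⁻¹ * (S.c₂ ^ j)⁻¹) := q13.symm.inv_right.mul_right q23.symm.inv_right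
        have e2 : S.c₁ ^ i * S.c₂ ^ j * S.c₃ ^ k * ((S.c₁ ^ i)⁻¹ * (S.c₂ ^ j)⁻¹ * S.c₃ ^ k) = S.c₃ ^ (2 * k) := by
          calc S.c₁ ^ i * S.c₂ ^ j * S.c₃ ^ k * ((S.c₁ ^ i)⁻¹ * (S.c₂ ^ j)⁻¹ * S.c₃ ^ k)
              = S.c₁ ^ i * S.c₂ ^ j * (S.c₃ ^ k * ((S.c₁ ^ i)⁻¹ * (S.c₂ ^ j)⁻¹)) * S.c₃ ^ k := by group
            _ = S.c₁ ^ i * (S.c₂ ^ j * (S.c₁ ^ i)⁻¹) * (S.c₂ ^ j)⁻¹ * (S.c₃ ^ k * S.c₃ ^ k) := by rw [q.eq]; group
            _ = S.c₁ ^ i * ((S.c₁ ^ i)⁻¹ * S.c₂ ^ j) * (S.c₂ ^ j)⁻¹ * (S.c₃ ^ k * S.c₃ ^ k) := by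
              rw [q12.symm.inv_right.eq]
            _ = _ := by rw [two_mul, pow_add]; group
        rw [e2] at hm
        have := Z3.pow_mem hm (2 * k % 3)
        rwa [← pow_mul, pow_eq_pow_mod _ S.cube₃, show (2 * k * (2 * k % 3)) % 3 = 1 by
          have : k % 3 = 1 ∨ k % 3 = 2 := by omega
          rcases this with h | h <;> simp [Nat.mul_mod, h], pow_one] at this
      rw [show S.c₃ ^ k = 1 by rw [pow_eq_pow_mod k S.cube₃, hk, pow_zero], mul_one] at hg ⊢
      by_cases hij : (j + 2 * i) % 3 = 0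
      · have : S.c₁ ^ i * S.c₂ ^ j = S.y ^ i := by
          rw [Std.y, (show Commute S.c₁ S.c₂ from S.comm₁₂).mul_pow, pow_eq_pow_mod j S.cube₂,
            pow_eq_pow_mod i S.cube₂, show j % 3 = i % 3 by omega]
        rw [this]; exact Subgroup.npow_mem_zpowers S.y i
      · exfalso
        have e : S.c₁ ^ i * S.c₂ ^ j * (S.y ^ i) ^ 2 = S.c₂ ^ (j + 2 * i) := by
          rw [Std.y, (show Commute S.c₁ S.c₂ from S.comm₁₂).mul_pow,
            (show Commute (S.c₁ ^ i) (S.c₂ ^ i) from mul_pow_comm S.comm₁₂ i i).mul_pow, ← pow_mul, ← pow_mul,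
            mul_assoc, ← mul_assoc (S.c₂ ^ j), ← mul_pow_comm S.comm₁₂ (i * 2) j, mul_assoc (S.c₁ ^ (i * 2)),
            ← mul_assoc (S.c₁ ^ i), ← pow_add, ← pow_add, show i + i * 2 = 3 * i by ring, pow_mul, S.cube₁, one_pow,
            one_mul, mul_comm i 2]
        have hm2 : S.c₂ ^ (j + 2 * i) ∈ Z3 := e ▸ Z3.mul_mem hg (Z3.pow_mem (Z3.pow_mem hyZ i) 2)
        have hc2 : S.c₂ ∈ Z3 := by
          have := Z3.pow_mem hm2 ((j + 2 * i) % 3)
          rwa [← pow_mul, pow_eq_pow_mod _ S.cube₂, show ((j + 2 * i) * ((j + 2 * i) % 3)) % 3 = 1 by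
            have : (j + 2 * i) % 3 = 1 ∨ (j + 2 * i) % 3 = 2 := by omega
            rcases this with h | h <;> rw [Nat.mul_mod, h], pow_one] at this
        refine hno1 ?_ hc2
        have := Z3.mul_mem hyZ (Z3.inv_mem hc2)
        rwa [Std.y, mul_inv_cancel_right] at this
    have h1 := Subgroup.card_le_of_le (show Z3 ≤ Subgroup.zpowers S.y from hsub)
    rw [Nat.card_zpowers, S.orderOf_y] at h1
    omega
  -- the bound
  have final : ∀ {s : Set G}, Gens S s → s ⊆ Z3 → ∀ {c v u g : G}, Axis S c v → c ∈ Subgroup.closure s →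
      u ∈ Subgroup.closure s → g * c = c * g → z ∈ Subgroup.closure ({u, g * u * g⁻¹} : Set G) → False := by
    intro s hs hsZ c v u g hA hc hu hgc hz
    obtain ⟨O, P⟩ := hs.exists_core
    obtain ⟨hab', -, ha, hb, -⟩ := hs.card_core P
    have hle : ∀ (R : Subgroup G) (w : G), Nat.card R = 27 → (R : Set G) ⊆ (Px : Set G) ∪ (Pxz : Set G) →
        (∀ g ∈ R, z * g * z⁻¹ ∈ R) → (∀ g ∈ R, g * w = w * g ∧ g * S.y = S.y * g) → w = x ∨ w = x * z →
        R ≤ O ⊓ Subgroup.centralizer ({w} : Set G) := by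
      intro R w hR hsub hzR hRw hw
      refine le_inf (hs.le_core P (hR ▸ h27) (fun g hg => Subgroup.mem_centralizer_iff.mpr fun a ha =>
        (Subgroup.mem_centralizer_iff.mp (Subgroup.mem_inf.mp (hsZ ha)).2 g (hsub hg)).symm) hzR ?_)
        fun g hg => mem_cent.mpr (hRw g hg).1
      intro g hg hgz
      have hgx : g * x = x * g := by
        rcases hw with rfl | rfl
        · exact (hRw g hg).1
        · have := (hRw g hg).1
          calc g * x = g * (x * z) * z := by rw [mul_assoc, mul_assoc x, S.H.zz, mul_one]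
            _ = x * z * (g * z) := by rw [this]; group
            _ = x * (z * (z * g)) := by rw [hgz]; group
            _ = _ := by rw [← mul_assoc z, S.H.zz, one_mul]
      have h3 : Nat.card (Subgroup.zpowers g) ∣ 3 := by
        refine S.odd_both_dvd (by rw [Nat.card_zpowers]; exact odd_orderOf (hR ▸ h27) hg) ?_ ?_ ?_
        · rintro _ ⟨l, rfl⟩; exact ((show Commute g z from hgz).zpow_left l).eq
        · rintro _ ⟨l, rfl⟩; exact ((show Commute g x from hgx).zpow_left l).eq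
        · rintro _ ⟨l, rfl⟩; exact ((show Commute g S.y from (hRw g hg).2).zpow_left l).eq
      have hgy : g ∈ Subgroup.zpowers S.y := by
        have hsup : Nat.card ↥(Subgroup.zpowers S.y ⊔ Subgroup.zpowers g) ∣ 3 := by
          refine S.odd_both_dvd ?_ ?_ ?_ ?_
          · have hn : Subgroup.zpowers g ≤ Subgroup.normalizer ((Subgroup.zpowers S.y : Subgroup G) : Set G) := by
              refine le_trans ?_ (Subgroup.centralizer_le_normalizer _)
              rw [Subgroup.zpowers_le, Subgroup.mem_centralizer_iff]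
              rintro _ ⟨l, rfl⟩
              exact ((show Commute g S.y from (hRw g hg).2).zpow_right l).eq.symm
            have hh := CfsgLib.Coprime.card_sup_mul_card_inf hn
            rw [Nat.card_zpowers, S.orderOf_y, Nat.card_zpowers] at hh
            exact ((show Odd 3 by decide).mul (odd_orderOf (hR ▸ h27) hg)).of_dvd_nat (hh ▸ dvd_mul_right _ _)
          all_goals
            intro k hk
            refine mem_cent.mp ((sup_le ?_ ?_ : Subgroup.zpowers S.y ⊔ Subgroup.zpowers g ≤ _) hk) <;>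
              rw [Subgroup.zpowers_le, mem_cent]
          exacts [S.y_z, hgz, S.y_x, hgx, (hRw g hg).2]
        have : Subgroup.zpowers S.y = Subgroup.zpowers S.y ⊔ Subgroup.zpowers g :=
          Subgroup.eq_of_le_of_card_ge le_sup_left (by
            rw [Nat.card_zpowers, S.orderOf_y]; exact Nat.le_of_dvd (by norm_num) hsup)
        exact this.symm ▸ Subgroup.mem_sup_right (Subgroup.mem_zpowers g)
      obtain ⟨l, rfl⟩ := hgy
      exact O.zpow_mem (hs.closure_le_core P hs.y_mem) l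
    have h1 := Subgroup.card_le_of_le (hle Px x cPx (fun g hg => Or.inl hg) zPx
      (fun g hg => ⟨(memPx hg).2.1, (memPx hg).2.2⟩) (Or.inl rfl))
    have h2 := Subgroup.card_le_of_le (hle Pxz (x * z) cPxz (fun g hg => Or.inr hg) zPxz
      (fun g hg => ⟨(memPxz hg).2.1, (memPxz hg).2.2⟩) (Or.inr rfl))
    rw [cPx] at h1
    rw [cPxz] at h2
    have e1 := le_antisymm (Nat.le_of_dvd (by norm_num) ha) h1
    have e2 := le_antisymm (Nat.le_of_dvd (by norm_num) hb) h2
    rw [e1, e2] at hab'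
    exact hs.false_of_inverted P hA hc hu hgc hz (by omega)
  rcases hpair with ⟨h1, h2⟩ | h3
  · obtain ⟨g, hgc, hgz⟩ := S.exists_witness₁
    exact final S.gens₁₂_gens (by rintro u (rfl | rfl) <;> assumption) hA1
      (Subgroup.subset_closure (Or.inl rfl)) (Subgroup.subset_closure (Or.inr rfl)) hgc hgz
  · obtain ⟨g, hgc, hgz⟩ := S.exists_witness₃
    exact final S.gens₃_gens (by rintro u (rfl | rfl) <;> assumption) hA3
      (Subgroup.subset_closure (Or.inr rfl)) (Subgroup.subset_closure (Or.inl rfl)) hgc hgz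

end CfsgLib.SpinCent
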