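import Cfsg.Agent.Lib.SpinCent.CaseBTen
import Cfsg.Agent.Lib.SpinCent.CaseBNine

/-!
# The second case
-/

set_option autoImplicit false
set_option linter.unusedSectionVars false
set_option linter.style.haveILetI false

namespace CfsgLib.SpinCent

variable {G : Type*} [Group G] [Finite G] {n : ℕ} {z x : G}

/-- The centraliser of the three lifts lies in the centraliser of `z`. -/
theorem false_of_caseB (S : Std n z x) {g : G} (h1 : g * S.c₁ = S.c₁ * g) (h2 : g * S.c₂ = S.c₂ * g)
    (h3 : g * S.c₃ = S.c₃ * g) (hgz : g * z ≠ z * g) : False := by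
  obtain ⟨Y, PY, hYz, hI, hA⟩ := S.caseB_data h1 h2 h3 hgz
  have := S.h9
  have := S.h10
  rcases (show n = 9 ∨ n = 10 by omega) with rfl | rfl
  · exact S.false_of_caseB_nine PY hYz hI hA
  · exact S.false_of_caseB_ten PY hYz hI

end CfsgLib.SpinCent
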