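import Cfsg.Agent.Lib.SpinCent.CaseBCommon

/-!
# The two axes and their witnesses
-/

set_option autoImplicit false
set_option linter.unusedSectionVars false
set_option linter.style.haveILetI false

namespace CfsgLib.SpinCent

open Equiv Equiv.Perm

theorem emb_swap {n : ℕ} (h : 9 ≤ n) (i j : Fin 9) : emb h (swap i j) = swap (i.castLE h) (j.castLE h) := by
  refine Equiv.ext fun q => ?_
  by_cases hq : (q : ℕ) < 9
  · obtain ⟨a, rfl⟩ : ∃ a : Fin 9, a.castLE h = q := ⟨⟨q.1, hq⟩, rfl⟩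
    rw [emb_apply, swap_apply_def, swap_apply_def]
    simp only [(Fin.castLE_injective h).eq_iff]
    split_ifs <;> rfl
  · rw [emb_apply_out h _ hq, swap_apply_of_ne_of_ne] <;>
      intro e <;> exact hq (by rw [e]; simp only [Fin.val_castLE]; exact Fin.isLt _)

theorem isDouble_emb {n : ℕ} (h : 9 ≤ n) {a b c e : Fin 9} (hab : a ≠ b) (hce : c ≠ e) (hac : a ≠ c)
    (hae : a ≠ e) (hbc : b ≠ c) (hbe : b ≠ e) : SpinAlt.IsDouble (emb h (swap a b * swap c e)) := by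
  have hne : ∀ i j : Fin 9, i ≠ j → i.castLE h ≠ j.castLE h := fun i j hij e => hij (Fin.castLE_injective h e)
  exact ⟨_, _, _, _, hne _ _ hab, hne _ _ hce, hne _ _ hac, hne _ _ hae, hne _ _ hbc, hne _ _ hbe,
    by rw [map_mul, emb_swap, emb_swap]⟩

namespace Std

variable {G : Type*} [Group G] [Finite G] {n : ℕ} {z x : G} (S : Std n z x)

/-- A commutator of conjugates that lifts a double transposition. -/
theorem z_mem_closure {u g : G} (hu : u * z = z * u) (hg : g * z = z * g) {s σ : Perm (Fin 9)}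
    (pu : S.H.p u = emb S.h9 s) (pg : S.H.p g = emb S.h9 σ) {a b c e : Fin 9} (hab : a ≠ b) (hce : c ≠ e)
    (hac : a ≠ c) (hae : a ≠ e) (hbc : b ≠ c) (hbe : b ≠ e)
    (hw : s * (σ * s * σ⁻¹) * s⁻¹ * (σ * s * σ⁻¹)⁻¹ = swap a b * swap c e) :
    z ∈ Subgroup.closure ({u, g * u * g⁻¹} : Set G) := by
  set w := g * u * g⁻¹
  have hwz : w * z = z * w := Hyp.comm_mul (Hyp.comm_mul hg hu) (Hyp.comm_inv hg)
  have pw : S.H.p w = emb S.h9 (σ * s * σ⁻¹) := by
    rw [S.H.p_mul (Hyp.comm_mul hg hu) (Hyp.comm_inv hg), S.H.p_mul hg hu, S.H.p_inv hg, pu, pg, map_mul, map_mul,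
      map_inv]
  have hDz : u * w * u⁻¹ * w⁻¹ * z = z * (u * w * u⁻¹ * w⁻¹) :=
    Hyp.comm_mul (Hyp.comm_mul (Hyp.comm_mul hu hwz) (Hyp.comm_inv hu)) (Hyp.comm_inv hwz)
  have hd : SpinAlt.IsDouble (S.H.p (u * w * u⁻¹ * w⁻¹)) := by
    rw [S.H.p_mul (Hyp.comm_mul (Hyp.comm_mul hu hwz) (Hyp.comm_inv hu)) (Hyp.comm_inv hwz),
      S.H.p_mul (Hyp.comm_mul hu hwz) (Hyp.comm_inv hu), S.H.p_mul hu hwz, S.H.p_inv hu, S.H.p_inv hwz, pu, pw,
      ← map_inv, ← map_inv, ← map_mul, ← map_mul, ← map_mul, hw]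
    exact isDouble_emb S.h9 hab hce hac hae hbc hbe
  have h1 : u ∈ Subgroup.closure ({u, w} : Set G) := Subgroup.subset_closure (Or.inl rfl)
  have h2 : w ∈ Subgroup.closure ({u, w} : Set G) := Subgroup.subset_closure (Or.inr rfl)
  have h3 := mul_mem (mul_mem (mul_mem h1 h2) (inv_mem h1)) (inv_mem h2)
  exact S.H.sq_of_double hDz hd ▸ mul_mem h3 h3

theorem exists_lift_emb {σ : Perm (Fin 9)} (hs : sign σ = 1) : ∃ g : G, g * z = z * g ∧ S.H.p g = emb S.h9 σ :=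
  S.H.exists_lift (by rw [mem_alternatingGroup, sign_emb, hs])

theorem exists_witness₁ : ∃ g : G, g * S.c₁ = S.c₁ * g ∧
    z ∈ Subgroup.closure ({S.c₂, g * S.c₂ * g⁻¹} : Set G) := by
  obtain ⟨g, hg, pg⟩ := S.exists_lift_emb (σ := swap 5 6 * swap 7 8) (by decide +kernel)
  refine ⟨g, ?_, S.z_mem_closure S.comm₂ hg S.p₂ pg (a := 3) (b := 4) (c := 5) (e := 6) (by decide) (by decide)
    (by decide) (by decide) (by decide) (by decide) (by decide +kernel)⟩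
  refine (S.H.commute_of_odd S.comm₁ hg (by decide : Odd 3) S.cube₁ ?_).symm
  rw [S.p₁, pg]
  exact (show _ = _ by rw [← map_mul, ← map_mul]; exact congrArg _ (by decide +kernel))

theorem exists_witness₃ : ∃ g : G, g * S.c₃ = S.c₃ * g ∧
    z ∈ Subgroup.closure ({S.y, g * S.y * g⁻¹} : Set G) := by
  obtain ⟨g, hg, pg⟩ := S.exists_lift_emb (σ := swap 0 3 * swap 1 4) (by decide +kernel)
  refine ⟨g, ?_, S.z_mem_closure S.y_z hg S.p_y pg (a := 1) (b := 4) (c := 2) (e := 5) (by decide) (by decide)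
    (by decide) (by decide) (by decide) (by decide) (by decide +kernel)⟩
  refine (S.H.commute_of_odd S.comm₃ hg (by decide : Odd 3) S.cube₃ ?_).symm
  rw [S.p₃, pg]
  exact (show _ = _ by rw [← map_mul, ← map_mul]; exact congrArg _ (by decide +kernel))

theorem axis₃ : Axis S S.c₃ x :=
  ⟨S.comm₃, S.cube₃, S.three₃, S.xz, S.xx, S.ne_one, S.ne_z, S.x_c₃⟩

theorem exists_axis₁ : ∃ v, Axis S S.c₁ v := by
  obtain ⟨k, hk, pk⟩ := S.exists_lift_emb (σ := swap 0 6 * swap 1 7 * swap 2 8 * swap 3 4) (by decide +kernel)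
  have e : k * S.c₃ * k⁻¹ = S.c₁ := S.conj_lift hk S.comm₃ S.comm₁ S.cube₃ S.cube₁ (by
    rw [pk, S.p₃, S.p₁, ← map_mul, ← map_mul]; exact congrArg _ (by decide +kernel))
  refine ⟨k * x * k⁻¹, S.comm₁, S.cube₁, S.three₁, Hyp.comm_mul (Hyp.comm_mul hk S.xz) (Hyp.comm_inv hk), ?_, ?_, ?_, ?_⟩
  · rw [show k * x * k⁻¹ * (k * x * k⁻¹) = k * (x * x) * k⁻¹ by group, S.xx]; group
  · intro h
    exact S.ne_one (by rw [show x = k⁻¹ * (k * x * k⁻¹) * k by group, h]; group)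
  · intro h
    refine S.ne_z ?_
    rw [show x = k⁻¹ * (k * x * k⁻¹) * k by group, h, mul_assoc, ← hk]; group
  · rw [← e, show k * x * k⁻¹ * (k * S.c₃ * k⁻¹) * (k * x * k⁻¹)⁻¹ = k * (x * S.c₃ * x⁻¹) * k⁻¹ by group, S.x_c₃]
    group

end Std

end CfsgLib.SpinCent
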