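import Cfsg.Agent.Lib.SpinCent.CaseBAxes

/-!
# The centraliser of the three lifts when it leaves the centraliser of `z`
-/

set_option autoImplicit false
set_option linter.unusedSectionVars false
set_option linter.style.haveILetI false

namespace CfsgLib.SpinCent

open Equiv Equiv.Perm

variable {G : Type*} [Group G] [Finite G] {n : ℕ} {z x : G}

namespace Std

variable (S : Std n z x)

/-- The three lifts. -/
def gens₀ : Set G := {S.c₁, S.c₂, S.c₃}

theorem gens₀_gens : Gens S S.gens₀ where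
  sub := by rintro u (rfl | rfl | rfl); exacts [S.c₁_mem, S.c₂_mem, S.c₃_mem]
  y_mem := mul_mem (Subgroup.subset_closure (Or.inl rfl)) (Subgroup.subset_closure (Or.inr (Or.inl rfl)))
  has := ⟨S.c₁, Or.inl rfl, S.three₁⟩
  x_stable := by
    rintro u (rfl | rfl | rfl)
    · rw [S.x_c₁]; exact Subgroup.subset_closure (Or.inr (Or.inl rfl))
    · rw [S.x_c₂]; exact Subgroup.subset_closure (Or.inl rfl)
    · rw [S.x_c₃]; exact inv_mem (Subgroup.subset_closure (Or.inr (Or.inr rfl)))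

theorem gens₁₂_gens : Gens S ({S.c₁, S.c₂} : Set G) where
  sub := by rintro u (rfl | rfl); exacts [S.c₁_mem, S.c₂_mem]
  y_mem := mul_mem (Subgroup.subset_closure (Or.inl rfl)) (Subgroup.subset_closure (Or.inr rfl))
  has := ⟨S.c₁, Or.inl rfl, S.three₁⟩
  x_stable := by
    rintro u (rfl | rfl)
    · rw [S.x_c₁]; exact Subgroup.subset_closure (Or.inr rfl)
    · rw [S.x_c₂]; exact Subgroup.subset_closure (Or.inl rfl)

theorem gens₃_gens : Gens S ({S.y, S.c₃} : Set G) where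
  sub := by rintro u (rfl | rfl); exacts [S.y_mem, S.c₃_mem]
  y_mem := Subgroup.subset_closure (Or.inl rfl)
  has := ⟨S.c₃, Or.inr rfl, S.three₃⟩
  x_stable := by
    rintro u (rfl | rfl)
    · rw [mul_inv_eq_iff_eq_mul.mpr S.y_x.symm]; exact Subgroup.subset_closure (Or.inl rfl)
    · rw [S.x_c₃]; exact inv_mem (Subgroup.subset_closure (Or.inr rfl))

variable {S} {O : Subgroup G}

theorem eq_z_of_odd (S : Std n z x) {g : G} (hg : Odd (orderOf g)) (hgz : g * z = z * g) (h : g * z ∈ S.P3) :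
    False := by
  have h1 := S.P3_cube h
  rw [(show Commute g z from hgz).mul_pow, pow_succ z, pow_two, S.H.zz, one_mul] at h1
  have h2 : z ∈ Subgroup.zpowers g := by
    rw [← inv_eq_of_mul_eq_one_right h1]
    exact inv_mem (Subgroup.npow_mem_zpowers g 3)
  have h3 := Subgroup.orderOf_dvd_natCard _ h2
  rw [Nat.card_zpowers, S.H.ord] at h3
  exact Nat.not_even_iff_odd.mpr hg (even_iff_two_dvd.mpr h3)

/-- The data of the second case. -/
theorem caseB_data (S : Std n z x) {g : G} (h1 : g * S.c₁ = S.c₁ * g) (h2 : g * S.c₂ = S.c₂ * g)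
    (h3 : g * S.c₃ = S.c₃ * g) (hgz : g * z ≠ z * g) :
    ∃ Y, Split z (Subgroup.centralizer S.gens₀) Y ∧ Y ⊓ Subgroup.centralizer ({z} : Set G) = S.P3 ∧
      (CfsgLib.SmallCent.inverted Y z).ncard = 9 ∧
      Nat.card ↥(Y ⊓ Subgroup.centralizer ({x} : Set G)) = 9 := by
  have hG := S.gens₀_gens
  obtain ⟨Y, P⟩ := hG.exists_core
  have hmemK : ∀ {k : G}, k ∈ Subgroup.centralizer S.gens₀ ↔
      k * S.c₁ = S.c₁ * k ∧ k * S.c₂ = S.c₂ * k ∧ k * S.c₃ = S.c₃ * k := by
    intro k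
    rw [Subgroup.mem_centralizer_iff]
    simp only [Std.gens₀, Set.mem_insert_iff, Set.mem_singleton_iff, forall_eq_or_imp, forall_eq]
    exact and_congr eq_comm (and_congr eq_comm eq_comm)
  have hfix : Y ⊓ Subgroup.centralizer ({z} : Set G) = S.P3 := by
    refine le_antisymm (fun k hk => ?_) ?_
    · obtain ⟨hkY, hkz⟩ := Subgroup.mem_inf.mp hk
      obtain ⟨e1, e2, e3⟩ := hmemK.mp (P.le hkY)
      rcases S.cent_P3 (mem_cent.mp hkz) e1 e2 e3 with e | e
      · exact e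
      · exact (S.eq_z_of_odd (odd_orderOf P.odd hkY) (mem_cent.mp hkz) e).elim
    · intro k hk
      refine Subgroup.mem_inf.mpr ⟨hG.closure_le_core P ?_, mem_cent.mpr (S.P3_comm_z hk)⟩
      obtain ⟨i, j, l, rfl⟩ := hk
      have m1 : S.c₁ ∈ Subgroup.closure S.gens₀ := Subgroup.subset_closure (Or.inl rfl)
      have m2 : S.c₂ ∈ Subgroup.closure S.gens₀ := Subgroup.subset_closure (Or.inr (Or.inl rfl))
      have m3 : S.c₃ ∈ Subgroup.closure S.gens₀ := Subgroup.subset_closure (Or.inr (Or.inr rfl))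
      exact mul_mem (mul_mem (pow_mem m1 i) (pow_mem m2 j)) (pow_mem m3 l)
  obtain ⟨hab, hY, ha, -, hp⟩ := hG.card_core P
  rw [hfix, S.card_P3] at hY
  -- `d` exchanges the fixed groups of `x` and `x * z`
  obtain ⟨d, hd, -, hdx, d1, d2, d3, -⟩ := S.exists_d
  have d1' : d⁻¹ * S.c₁ * d = S.c₁⁻¹ := by
    calc d⁻¹ * S.c₁ * d = d⁻¹ * (d * S.c₁ * d⁻¹)⁻¹ * d := by rw [d1, inv_inv]
      _ = _ := by group
  have d2' : d⁻¹ * S.c₂ * d = S.c₂⁻¹ := by
    calc d⁻¹ * S.c₂ * d = d⁻¹ * (d * S.c₂ * d⁻¹)⁻¹ * d := by rw [d2, inv_inv]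
      _ = _ := by group
  have d3' : d⁻¹ * S.c₃ * d = S.c₃ := by
    calc d⁻¹ * S.c₃ * d = d⁻¹ * (d * S.c₃ * d⁻¹) * d := by rw [d3]
      _ = _ := by group
  have hdY := Subgroup.mem_normalizer_iff.mp (P.stable d (mem_normalizer_centralizer (by
    rintro u (rfl | rfl | rfl)
    · rw [d1]; exact inv_mem (Subgroup.subset_closure (Or.inl rfl))
    · rw [d2]; exact inv_mem (Subgroup.subset_closure (Or.inr (Or.inl rfl)))
    · rw [d3]; exact Subgroup.subset_closure (Or.inr (Or.inr rfl))) (by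
    rintro u (rfl | rfl | rfl)
    · rw [d1']; exact inv_mem (Subgroup.subset_closure (Or.inl rfl))
    · rw [d2']; exact inv_mem (Subgroup.subset_closure (Or.inr (Or.inl rfl)))
    · rw [d3']; exact Subgroup.subset_closure (Or.inr (Or.inr rfl)))))
  have heq : (Y ⊓ Subgroup.centralizer ({x} : Set G)).map (MulAut.conj d).toMonoidHom =
      Y ⊓ Subgroup.centralizer ({x * z} : Set G) := by
    ext k
    constructor
    · rintro ⟨l, hl, rfl⟩
      obtain ⟨hlY, hlx⟩ := Subgroup.mem_inf.mp hl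
      refine Subgroup.mem_inf.mpr ⟨(hdY l).mp hlY, mem_cent.mpr ?_⟩
      show d * l * d⁻¹ * (x * z) = x * z * (d * l * d⁻¹)
      rw [← hdx]
      calc d * l * d⁻¹ * (d * x * d⁻¹) = d * (l * x) * d⁻¹ := by group
        _ = d * (x * l) * d⁻¹ := by rw [mem_cent.mp hlx]
        _ = _ := by group
    · intro hk
      obtain ⟨hkY, hkx⟩ := Subgroup.mem_inf.mp hk
      refine ⟨d⁻¹ * k * d, Subgroup.mem_inf.mpr ⟨(hdY _).mpr (by rwa [show d * (d⁻¹ * k * d) * d⁻¹ = k by group]),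
        mem_cent.mpr ?_⟩, show d * (d⁻¹ * k * d) * d⁻¹ = k by group⟩
      have h := mem_cent.mp hkx
      calc d⁻¹ * k * d * x = d⁻¹ * (k * (d * x * d⁻¹)) * d := by group
        _ = d⁻¹ * (d * x * d⁻¹ * k) * d := by rw [hdx, h]
        _ = _ := by group
  rw [← heq, Subgroup.card_map_of_injective (MulAut.conj d).injective] at hab
  set a := Nat.card ↥(Y ⊓ Subgroup.centralizer ({x} : Set G))
  set I := (CfsgLib.SmallCent.inverted Y z).ncard
  have hI : I ≠ 1 := by
    intro e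
    rw [e, mul_one] at hY
    have hall : Y ⊓ Subgroup.centralizer ({z} : Set G) = Y :=
      Subgroup.eq_of_le_of_card_ge inf_le_left (by rw [hfix, S.card_P3, hY])
    obtain ⟨c, -, hcz, o, ho, rfl⟩ := P.cover g (hmemK.mpr ⟨h1, h2, h3⟩)
    exact hgz (Hyp.comm_mul hcz (mem_cent.mp (Subgroup.mem_inf.mp (hall.symm ▸ ho)).2))
  obtain ⟨j, hj, hja⟩ : ∃ j ≤ 3, a = 3 ^ j :=
    (Nat.dvd_prime_pow Nat.prime_three).mp (show a ∣ 3 ^ 3 from ha)
  rw [hja] at hab
  interval_cases j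
  · norm_num at hab
  · norm_num at hab; omega
  · norm_num at hab
    exact ⟨Y, P, hfix, show I = 9 by omega, show a = 9 by rw [hja]; norm_num⟩
  · exfalso
    norm_num at hab
    obtain ⟨v, hA⟩ := S.exists_axis₁
    obtain ⟨w, hwc, hwz⟩ := S.exists_witness₁
    exact hG.false_of_inverted P hA (Subgroup.subset_closure (Or.inl rfl))
      (Subgroup.subset_closure (Or.inr (Or.inl rfl))) hwc hwz (by omega)

end Std

end CfsgLib.SpinCent
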