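import Cfsg.Agent.Lib.SpinCent.CaseBGens

/-!
# The second case on ten points
-/

set_option autoImplicit false
set_option linter.unusedSectionVars false
set_option linter.style.haveILetI false

namespace CfsgLib.SpinCent

open Equiv Equiv.Perm

variable {G : Type*} [Group G] [Finite G] {z x : G}

theorem card_mul_card_le {U V O : Subgroup G} (hU : U ≤ O) (hV : V ≤ O) :
    Nat.card U * Nat.card V ≤ Nat.card O * Nat.card ↥(U ⊓ V) := by
  have h1 : U.relIndex V ≤ U.relIndex O :=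
    Subgroup.relIndex_le_of_le_right hV (Subgroup.index_ne_zero_of_finite (H := U.subgroupOf O))
  have h2 : Nat.card ↥(U ⊓ V) * U.relIndex V = Nat.card V := by
    have := Subgroup.relIndex_mul_relIndex ⊥ (U ⊓ V) V bot_le inf_le_right
    rwa [Subgroup.relIndex_bot_left, Subgroup.relIndex_bot_left, Subgroup.inf_relIndex_right] at this
  have h3 : Nat.card U * U.relIndex O = Nat.card O := by
    have := Subgroup.relIndex_mul_relIndex ⊥ U O bot_le hU
    rwa [Subgroup.relIndex_bot_left, Subgroup.relIndex_bot_left] at this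
  rw [← h2, ← h3, mul_assoc (Nat.card U) (U.relIndex O), mul_comm (Nat.card ↥(U ⊓ V))]
  exact Nat.mul_le_mul_left _ (Nat.mul_le_mul_right _ h1)

/-- The permutation exchanging two pairs of the last four points. -/
def lastSwap : Perm (Fin 10) := emb (by norm_num) (swap 6 7 : Perm (Fin 9)) * swap 8 9

theorem sign_lastSwap : sign lastSwap = 1 := by decide +kernel

theorem lastSwap_comm (h : 9 ≤ 10) :
    emb h permA * lastSwap = lastSwap * emb h permA ∧ emb h permB * lastSwap = lastSwap * emb h permB := by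
  revert h; decide +kernel

theorem lastSwap_double (h : 9 ≤ 10) :
    emb h permC * (lastSwap * emb h permC * lastSwap⁻¹) * (emb h permC)⁻¹ * (lastSwap * emb h permC * lastSwap⁻¹)⁻¹ =
      swap 6 9 * swap 7 8 := by
  revert h; decide +kernel

theorem Std.false_of_caseB_ten (S : Std 10 z x) {Y : Subgroup G} (PY : Split z (Subgroup.centralizer S.gens₀) Y)
    (hYz : Y ⊓ Subgroup.centralizer ({z} : Set G) = S.P3)
    (hI : (CfsgLib.SmallCent.inverted Y z).ncard = 9) : False := by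
  classical
  haveI := Fact.mk Nat.prime_three
  have hG : Std.Gens S ({S.c₁, S.c₂} : Set G) := S.gens₁₂_gens
  obtain ⟨O, P⟩ := hG.exists_core
  obtain ⟨hab, hO, ha, hb, -⟩ := hG.card_core P
  have hz3 : ∀ g ∈ Subgroup.centralizer S.gens₀,
      g ∈ Subgroup.centralizer ({S.c₁, S.c₂} : Set G) ∧ g * S.c₃ = S.c₃ * g := fun g hg => by
    refine ⟨Subgroup.mem_centralizer_iff.mpr fun u hu => Subgroup.mem_centralizer_iff.mp hg u ?_,
      (Subgroup.mem_centralizer_iff.mp hg S.c₃ (Or.inr (Or.inr rfl))).symm⟩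
    rcases hu with rfl | rfl
    exacts [Or.inl rfl, Or.inr (Or.inl rfl)]
  set D := O ⊓ Subgroup.centralizer ({z} : Set G)
  have hDodd : Odd (Nat.card D) := P.odd.of_dvd_nat (Subgroup.card_dvd_of_le inf_le_left)
  -- the fixed part lies among the three lifts
  have hPK : S.P3 ≤ Subgroup.centralizer ({S.c₁, S.c₂} : Set G) := fun g hg =>
    Subgroup.mem_centralizer_iff.mpr fun u hu => S.P3_comm (hG.sub hu) hg
  have hDP : D ≤ S.P3 := by
    have hn : S.P3 ≤ Subgroup.normalizer (D : Set G) := by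
      intro p hp
      have key : ∀ p ∈ S.P3, ∀ d ∈ D, p * d * p⁻¹ ∈ D := fun p hp d hd => by
        refine Subgroup.mem_inf.mpr ⟨(Subgroup.mem_normalizer_iff.mp
          (P.stable p (Subgroup.le_normalizer (hPK hp))) d).mp (Subgroup.mem_inf.mp hd).1, mem_cent.mpr ?_⟩
        exact Hyp.comm_mul (Hyp.comm_mul (S.P3_comm_z hp) (mem_cent.mp (Subgroup.mem_inf.mp hd).2))
          (Hyp.comm_inv (S.P3_comm_z hp))
      refine Subgroup.mem_normalizer_iff.mpr fun d => ⟨key p hp d, fun h => ?_⟩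
      have := key p⁻¹ (inv_mem hp) _ h
      rwa [inv_inv, show p⁻¹ * (p * d * p⁻¹) * p = d by group] at this
    have h27 : Odd 27 := by decide
    have hsupodd : Odd (Nat.card ↥(D ⊔ S.P3)) := by
      refine (hDodd.mul h27).of_dvd_nat ?_
      have := CfsgLib.Coprime.card_sup_mul_card_inf (K := D) (S := S.P3) hn
      rw [S.card_P3] at this
      exact this ▸ dvd_mul_right _ _
    have hle : D ⊔ S.P3 ≤ Subgroup.centralizer ({z} : Set G) :=
      sup_le inf_le_right fun g hg => mem_cent.mpr (S.P3_comm_z hg)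
    have hley : D ⊔ S.P3 ≤ Subgroup.centralizer ({S.y} : Set G) :=
      sup_le (fun g hg => mem_cent.mpr (hG.comm_y (P.le (Subgroup.mem_inf.mp hg).1)))
        fun g hg => mem_cent.mpr (S.P3_comm hg S.y_mem)
    have h := S.odd_dvd hsupodd (fun g hg => mem_cent.mp (hle hg)) (fun g hg => mem_cent.mp (hley hg))
    exact le_sup_left.trans (Subgroup.eq_of_le_of_card_ge le_sup_right
      (by rw [S.card_P3]; exact Nat.le_of_dvd (by norm_num) h)).ge
  -- a second three-cycle on the four other points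
  set e := lastSwap with he
  obtain ⟨h, hh, ph⟩ := S.H.exists_lift (s := e) (mem_alternatingGroup.mpr sign_lastSwap)
  have hc1 : h * S.c₁ = S.c₁ * h := (S.H.commute_of_odd S.comm₁ hh (by decide : Odd 3) S.cube₁ (by
    rw [S.p₁, ph, he]; exact (lastSwap_comm S.h9).1)).symm
  have hc2 : h * S.c₂ = S.c₂ * h := (S.H.commute_of_odd S.comm₂ hh (by decide : Odd 3) S.cube₂ (by
    rw [S.p₂, ph, he]; exact (lastSwap_comm S.h9).2)).symm
  set w := h * S.c₃ * h⁻¹ with hw
  have hzmem : z ∈ Subgroup.closure ({S.c₃, w} : Set G) := by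
    have hwz : w * z = z * w := Hyp.comm_mul (Hyp.comm_mul hh S.comm₃) (Hyp.comm_inv hh)
    have pw : S.H.p w = e * emb S.h9 permC * e⁻¹ := by
      rw [hw, S.H.p_mul (Hyp.comm_mul hh S.comm₃) (Hyp.comm_inv hh), S.H.p_mul hh S.comm₃, S.H.p_inv hh, ph, S.p₃]
    have hDz : S.c₃ * w * S.c₃⁻¹ * w⁻¹ * z = z * (S.c₃ * w * S.c₃⁻¹ * w⁻¹) :=
      Hyp.comm_mul (Hyp.comm_mul (Hyp.comm_mul S.comm₃ hwz) (Hyp.comm_inv S.comm₃)) (Hyp.comm_inv hwz)
    have hd : SpinAlt.IsDouble (S.H.p (S.c₃ * w * S.c₃⁻¹ * w⁻¹)) := by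
      rw [S.H.p_mul (Hyp.comm_mul (Hyp.comm_mul S.comm₃ hwz) (Hyp.comm_inv S.comm₃)) (Hyp.comm_inv hwz),
        S.H.p_mul (Hyp.comm_mul S.comm₃ hwz) (Hyp.comm_inv S.comm₃), S.H.p_mul S.comm₃ hwz, S.H.p_inv S.comm₃,
        S.H.p_inv hwz, S.p₃, pw, he]
      exact ⟨6, 9, 7, 8, by decide, by decide, by decide, by decide, by decide, by decide, lastSwap_double S.h9⟩
    have m1 : S.c₃ ∈ Subgroup.closure ({S.c₃, w} : Set G) := Subgroup.subset_closure (Or.inl rfl)
    have m2 : w ∈ Subgroup.closure ({S.c₃, w} : Set G) := Subgroup.subset_closure (Or.inr rfl)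
    have m3 := mul_mem (mul_mem (mul_mem m1 m2) (inv_mem m1)) (inv_mem m2)
    have m4 := mul_mem m3 m3
    rwa [S.H.sq_of_double hDz hd] at m4
  -- the two groups
  set U := O ⊓ Subgroup.centralizer ({S.c₃} : Set G) with hU
  set V := U.map (MulAut.conj h).toMonoidHom with hV
  have hhO := Subgroup.mem_normalizer_iff.mp (P.stable h (Subgroup.le_normalizer
    (Subgroup.mem_centralizer_iff.mpr (by
      rintro u (rfl | rfl)
      exacts [hc1.symm, hc2.symm]))))
  have hVO : V ≤ O := by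
    rintro _ ⟨g, hg, rfl⟩
    exact (hhO g).mp (Subgroup.mem_inf.mp hg).1
  have hcU : Nat.card V = Nat.card U := Subgroup.card_map_of_injective (MulAut.conj h).injective
  have hzU : ∀ g ∈ U, z * g * z⁻¹ ∈ U := fun g hg => Subgroup.mem_inf.mpr ⟨hG.z_norm P (Subgroup.mem_inf.mp hg).1,
    mem_cent.mpr (by
      have e := mem_cent.mp (Subgroup.mem_inf.mp hg).2
      have e' : z * S.c₃ * z⁻¹ = S.c₃ := mul_inv_eq_iff_eq_mul.mpr S.comm₃.symm
      calc z * g * z⁻¹ * S.c₃ = z * g * z⁻¹ * (z * S.c₃ * z⁻¹) := by rw [e']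
        _ = z * (g * S.c₃) * z⁻¹ := by group
        _ = z * (S.c₃ * g) * z⁻¹ := by rw [e]
        _ = (z * S.c₃ * z⁻¹) * (z * g * z⁻¹) := by group
        _ = _ := by rw [e'])⟩
  have hUz : U ⊓ Subgroup.centralizer ({z} : Set G) = D := by
    refine le_antisymm (fun g hg => Subgroup.mem_inf.mpr ⟨(Subgroup.mem_inf.mp (Subgroup.mem_inf.mp hg).1).1,
      (Subgroup.mem_inf.mp hg).2⟩) fun g hg => ?_
    exact Subgroup.mem_inf.mpr ⟨Subgroup.mem_inf.mpr ⟨(Subgroup.mem_inf.mp hg).1,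
      mem_cent.mpr (S.P3_comm (hDP hg) S.c₃_mem)⟩, (Subgroup.mem_inf.mp hg).2⟩
  have hWU : CfsgLib.SmallCent.inverted Y z ⊆ CfsgLib.SmallCent.inverted U z := by
    intro g hg
    obtain ⟨e1, e2⟩ := hz3 g (PY.le hg.1)
    exact ⟨Subgroup.mem_inf.mpr ⟨P.mem_of_inverted hG.z_mem e1 (odd_orderOf PY.odd hg.1) hg.2, mem_cent.mpr e2⟩, hg.2⟩
  have h9 : 9 ≤ (CfsgLib.SmallCent.inverted U z).ncard := hI ▸ Set.ncard_le_ncard hWU (Set.toFinite _)
  have hUc := CfsgLib.SmallCent.card_fixed_mul_inverted (P.odd.of_dvd_nat (Subgroup.card_dvd_of_le inf_le_left))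
    S.H.zz hzU
  rw [hUz] at hUc
  have hinf : U ⊓ V ≤ D := by
    intro g hg
    obtain ⟨hgU, hgV⟩ := Subgroup.mem_inf.mp hg
    obtain ⟨hgO, hg3⟩ := Subgroup.mem_inf.mp hgU
    obtain ⟨u, hu, hgu⟩ := hgV
    have hle : Subgroup.closure ({S.c₃, w} : Set G) ≤ Subgroup.centralizer ({g} : Set G) := by
      rw [Subgroup.closure_le]
      rintro a (rfl | rfl)
      · exact mem_cent.mpr (mem_cent.mp hg3).symm
      · refine mem_cent.mpr ?_
        rw [← hgu]
        show h * S.c₃ * h⁻¹ * (h * u * h⁻¹) = h * u * h⁻¹ * (h * S.c₃ * h⁻¹)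
        calc h * S.c₃ * h⁻¹ * (h * u * h⁻¹) = h * (S.c₃ * u) * h⁻¹ := by group
          _ = h * (u * S.c₃) * h⁻¹ := by rw [mem_cent.mp (Subgroup.mem_inf.mp hu).2]
          _ = _ := by group
    exact Subgroup.mem_inf.mpr ⟨hgO, mem_cent.mpr (mem_cent.mp (hle hzmem)).symm⟩
  have hprod := card_mul_card_le (U := U) (V := V) inf_le_left hVO
  have hinfc := Subgroup.card_le_of_le hinf
  rw [hcU, hUc, hO] at hprod
  set d := Nat.card D
  set iO := (CfsgLib.SmallCent.inverted O z).ncard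
  set iU := (CfsgLib.SmallCent.inverted U z).ncard
  have hd : 0 < d := Nat.card_pos
  have h81 : 81 ≤ iO := by
    have e1 : d * 9 * (d * 9) ≤ d * iO * d :=
      (Nat.mul_le_mul (Nat.mul_le_mul_left d h9) (Nat.mul_le_mul_left d h9)).trans
        (hprod.trans (Nat.mul_le_mul_left _ hinfc))
    have e2 : d * d * 81 ≤ d * d * iO := by linarith
    exact Nat.le_of_mul_le_mul_left e2 (Nat.mul_pos hd hd)
  have hle : 9 * iO ≤ 27 * 27 := hab ▸ Nat.mul_le_mul (Nat.le_of_dvd (by norm_num) ha) (Nat.le_of_dvd (by norm_num) hb)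
  obtain ⟨v, hA⟩ := S.exists_axis₁
  obtain ⟨g, hgc, hgz⟩ := S.exists_witness₁
  exact hG.false_of_inverted P hA (Subgroup.subset_closure (Or.inl rfl)) (Subgroup.subset_closure (Or.inr rfl))
    hgc hgz (show iO = 81 by omega)

end CfsgLib.SpinCent
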