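import Cfsg.Agent.Lib.SpinCent.StdExists

/-!
# The standard three-cycles and their lifts
-/

set_option autoImplicit false
set_option linter.unusedSectionVars false
set_option linter.style.haveILetI false

namespace CfsgLib.SpinCent

open Equiv Equiv.Perm

theorem perm_rel :
    permX * permA = permB * permX ∧ permX * permB = permA * permX ∧ permX * permC = permC⁻¹ * permX ∧
    permD * permA = permA⁻¹ * permD ∧ permD * permB = permB⁻¹ * permD ∧ permD * permC = permC * permD ∧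
    permA * permB = permB * permA ∧ permA * permC = permC * permA ∧ permB * permC = permC * permB ∧
    permA ^ 3 = 1 ∧ permB ^ 3 = 1 ∧ permC ^ 3 = 1 := by
  decide +kernel

theorem perm_inj : ∀ i j k i' j' k' : Fin 3,
    permA ^ (i : ℕ) * permB ^ (j : ℕ) * permC ^ (k : ℕ) = permA ^ (i' : ℕ) * permB ^ (j' : ℕ) * permC ^ (k' : ℕ) →
      i = i' ∧ j = j' ∧ k = k' := by
  decide +kernel

theorem cycleType_permY : (permA * permB).cycleType = {3, 3} := by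
  have hd : Equiv.Perm.Disjoint permA permB := fun q => by revert q; decide +kernel
  have h1 : permA.cycleType = {3} := (card_support_eq_three_iff.mp (by decide +kernel) : permA.IsThreeCycle)
  have h2 : permB.cycleType = {3} := (card_support_eq_three_iff.mp (by decide +kernel) : permB.IsThreeCycle)
  rw [hd.cycleType_mul, h1, h2]; rfl

theorem card_cent_permY {n : ℕ} (h : 9 ≤ n) :
    Nat.card (Subgroup.centralizer ({emb h (permA * permB)} : Set (Perm (Fin n)))) = (n - 6).factorial * 18 := by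
  rw [Equiv.Perm.nat_card_centralizer, show (emb h (permA * permB)).cycleType = (permA * permB).cycleType from
    cycleType_extendDomain _, cycleType_permY, Fintype.card_fin]
  rw [show (({3, 3} : Multiset ℕ)).sum = 6 from rfl, show (({3, 3} : Multiset ℕ)).prod = 9 from rfl,
    show (({3, 3} : Multiset ℕ)).toFinset = {3} from rfl, Finset.prod_singleton,
    show (({3, 3} : Multiset ℕ)).count 3 = 2 from rfl, Nat.factorial_two, mul_assoc]
  norm_num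

theorem mul_pow_comm {M : Type*} [Monoid M] {a b : M} (h : a * b = b * a) (i j : ℕ) :
    a ^ i * b ^ j = b ^ j * a ^ i := (Commute.pow_pow (h : Commute a b) i j).eq

namespace Std

variable {G : Type*} [Group G] [Finite G] {n : ℕ} {z x : G} (S : Std n z x)

/-- The product of the first two lifts. -/
def y : G := S.c₁ * S.c₂

theorem y_z : S.y * z = z * S.y := Hyp.comm_mul S.comm₁ S.comm₂

theorem p_y : S.H.p S.y = emb S.h9 (permA * permB) := by rw [y, S.H.p_mul S.comm₁ S.comm₂, S.p₁, S.p₂, map_mul]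

theorem lift_ext {g h : G} (hg : g * z = z * g) (hh : h * z = z * h) (g3 : g ^ 3 = 1) (h3 : h ^ 3 = 1)
    (e : S.H.p g = S.H.p h) : g = h := by
  rcases S.H.eq_or_of_p_eq hg hh e with e1 | e1
  · exact e1
  · exfalso
    rw [e1, (show Commute h z from hh).mul_pow, h3, one_mul, pow_succ, pow_two, S.H.zz, one_mul] at g3
    exact S.H.z_ne g3

/-- Conjugates of lifts of order three are read off the permutations. -/
theorem conj_lift {u a b : G} (hu : u * z = z * u) (ha : a * z = z * a) (hb : b * z = z * b) (a3 : a ^ 3 = 1)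
    (b3 : b ^ 3 = 1) (e : S.H.p u * S.H.p a = S.H.p b * S.H.p u) : u * a * u⁻¹ = b := by
  refine S.lift_ext (Hyp.comm_mul (Hyp.comm_mul hu ha) (Hyp.comm_inv hu)) hb
    (by rw [conj_pow, a3, mul_one, mul_inv_cancel]) b3 ?_
  rw [S.H.p_mul (Hyp.comm_mul hu ha) (Hyp.comm_inv hu), S.H.p_mul hu ha, S.H.p_inv hu, e, mul_inv_cancel_right]

theorem inv_three {a : G} (h : a ^ 3 = 1) : a⁻¹ ^ 3 = 1 := by rw [inv_pow, h, inv_one]

theorem comm₁₂ : S.c₁ * S.c₂ = S.c₂ * S.c₁ :=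
  S.H.commute_of_odd S.comm₁ S.comm₂ (by decide : Odd 3) S.cube₁ (by
    rw [S.p₁, S.p₂]; exact (show _ = _ by rw [← map_mul, ← map_mul, perm_rel.2.2.2.2.2.2.1]))

theorem comm₁₃ : S.c₁ * S.c₃ = S.c₃ * S.c₁ :=
  S.H.commute_of_odd S.comm₁ S.comm₃ (by decide : Odd 3) S.cube₁ (by
    rw [S.p₁, S.p₃]; exact (show _ = _ by rw [← map_mul, ← map_mul, perm_rel.2.2.2.2.2.2.2.1]))

theorem comm₂₃ : S.c₂ * S.c₃ = S.c₃ * S.c₂ :=
  S.H.commute_of_odd S.comm₂ S.comm₃ (by decide : Odd 3) S.cube₂ (by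
    rw [S.p₂, S.p₃]; exact (show _ = _ by rw [← map_mul, ← map_mul, perm_rel.2.2.2.2.2.2.2.2.1]))

theorem x_c₁ : x * S.c₁ * x⁻¹ = S.c₂ := S.conj_lift S.xz S.comm₁ S.comm₂ S.cube₁ S.cube₂
  (by rw [S.px, S.p₁, S.p₂, ← map_mul, ← map_mul, perm_rel.1])

theorem x_c₂ : x * S.c₂ * x⁻¹ = S.c₁ := S.conj_lift S.xz S.comm₂ S.comm₁ S.cube₂ S.cube₁
  (by rw [S.px, S.p₁, S.p₂, ← map_mul, ← map_mul, perm_rel.2.1])

theorem x_c₃ : x * S.c₃ * x⁻¹ = S.c₃⁻¹ := S.conj_lift S.xz S.comm₃ (Hyp.comm_inv S.comm₃) S.cube₃ (inv_three S.cube₃)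
  (by rw [S.px, S.H.p_inv S.comm₃, S.p₃, ← map_inv, ← map_mul, ← map_mul, perm_rel.2.2.1])

theorem y_x : S.y * x = x * S.y := by
  have h : x * S.y * x⁻¹ = S.y := by
    rw [y, show x * (S.c₁ * S.c₂) * x⁻¹ = (x * S.c₁ * x⁻¹) * (x * S.c₂ * x⁻¹) by group, S.x_c₁, S.x_c₂,
      S.comm₁₂]
  exact (mul_inv_eq_iff_eq_mul.mp h).symm

theorem y_cube : S.y ^ 3 = 1 := by
  rw [y, (show Commute S.c₁ S.c₂ from S.comm₁₂).mul_pow, S.cube₁, S.cube₂, one_mul]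

theorem y_ne : S.y ≠ 1 := fun e => by
  have h := S.p_y
  rw [e, S.H.p_one] at h
  have := emb_injective S.h9 (h.symm.trans (map_one _).symm)
  revert this; decide +kernel

theorem orderOf_y : orderOf S.y = 3 := by
  rw [orderOf_eq_prime_iff]; exact ⟨S.y_cube, S.y_ne⟩

/-- A lift inverting the first two cycles, fixing the third, and exchanging `x` with `x * z`. -/
theorem exists_d : ∃ d : G, d * z = z * d ∧ S.H.p d = emb S.h9 permD ∧ d * x * d⁻¹ = x * z ∧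
    d * S.c₁ * d⁻¹ = S.c₁⁻¹ ∧ d * S.c₂ * d⁻¹ = S.c₂⁻¹ ∧ d * S.c₃ * d⁻¹ = S.c₃ ∧ d * S.y * d⁻¹ = S.y⁻¹ := by
  obtain ⟨d, hd, pd, hdx⟩ := exists_swap_lift S.H S.h9 S.xz S.px
  have h1 : d * S.c₁ * d⁻¹ = S.c₁⁻¹ := S.conj_lift hd S.comm₁ (Hyp.comm_inv S.comm₁) S.cube₁ (inv_three S.cube₁)
    (by rw [pd, S.H.p_inv S.comm₁, S.p₁, ← map_inv, ← map_mul, ← map_mul, perm_rel.2.2.2.1])
  have h2 : d * S.c₂ * d⁻¹ = S.c₂⁻¹ := S.conj_lift hd S.comm₂ (Hyp.comm_inv S.comm₂) S.cube₂ (inv_three S.cube₂)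
    (by rw [pd, S.H.p_inv S.comm₂, S.p₂, ← map_inv, ← map_mul, ← map_mul, perm_rel.2.2.2.2.1])
  have h3 : d * S.c₃ * d⁻¹ = S.c₃ := S.conj_lift hd S.comm₃ S.comm₃ S.cube₃ S.cube₃
    (by rw [pd, S.p₃, ← map_mul, ← map_mul, perm_rel.2.2.2.2.2.1])
  refine ⟨d, hd, pd, hdx, h1, h2, h3, ?_⟩
  rw [y, show d * (S.c₁ * S.c₂) * d⁻¹ = (d * S.c₁ * d⁻¹) * (d * S.c₂ * d⁻¹) by group, h1, h2, ← mul_inv_rev,
    S.comm₁₂]

/-- The three lifts generate an elementary abelian group. -/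
def P3 : Subgroup G where
  carrier := {g | ∃ i j k : ℕ, g = S.c₁ ^ i * S.c₂ ^ j * S.c₃ ^ k}
  one_mem' := ⟨0, 0, 0, by simp⟩
  mul_mem' := by
    rintro _ _ ⟨i, j, k, rfl⟩ ⟨i', j', k', rfl⟩
    refine ⟨i + i', j + j', k + k', ?_⟩
    rw [pow_add, pow_add, pow_add]
    calc S.c₁ ^ i * S.c₂ ^ j * S.c₃ ^ k * (S.c₁ ^ i' * S.c₂ ^ j' * S.c₃ ^ k')
        = S.c₁ ^ i * S.c₂ ^ j * (S.c₃ ^ k * S.c₁ ^ i') * S.c₂ ^ j' * S.c₃ ^ k' := by group
      _ = S.c₁ ^ i * (S.c₂ ^ j * S.c₁ ^ i') * (S.c₃ ^ k * S.c₂ ^ j') * S.c₃ ^ k' := by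
        rw [← mul_pow_comm S.comm₁₃ i' k]; group
      _ = _ := by rw [← mul_pow_comm S.comm₁₂ i' j, ← mul_pow_comm S.comm₂₃ j' k]; group
  inv_mem' := by
    rintro _ ⟨i, j, k, rfl⟩
    refine ⟨2 * i, 2 * j, 2 * k, inv_eq_of_mul_eq_one_right ?_⟩
    calc S.c₁ ^ i * S.c₂ ^ j * S.c₃ ^ k * (S.c₁ ^ (2 * i) * S.c₂ ^ (2 * j) * S.c₃ ^ (2 * k))
        = S.c₁ ^ i * S.c₂ ^ j * (S.c₃ ^ k * S.c₁ ^ (2 * i)) * S.c₂ ^ (2 * j) * S.c₃ ^ (2 * k) := by group
      _ = S.c₁ ^ i * (S.c₂ ^ j * S.c₁ ^ (2 * i)) * (S.c₃ ^ k * S.c₂ ^ (2 * j)) * S.c₃ ^ (2 * k) := by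
        rw [← mul_pow_comm S.comm₁₃ (2 * i) k]; group
      _ = (S.c₁ ^ i * S.c₁ ^ (2 * i)) * (S.c₂ ^ j * S.c₂ ^ (2 * j)) * (S.c₃ ^ k * S.c₃ ^ (2 * k)) := by
        rw [← mul_pow_comm S.comm₁₂ (2 * i) j, ← mul_pow_comm S.comm₂₃ (2 * j) k]; group
      _ = 1 := by
        rw [← pow_add, ← pow_add, ← pow_add, show i + 2 * i = 3 * i by ring, show j + 2 * j = 3 * j by ring,
          show k + 2 * k = 3 * k by ring, pow_mul, pow_mul, pow_mul, S.cube₁, S.cube₂, S.cube₃]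
        simp

theorem mem_P3 {g : G} : g ∈ S.P3 ↔ ∃ i j k : ℕ, g = S.c₁ ^ i * S.c₂ ^ j * S.c₃ ^ k := Iff.rfl

theorem c₁_mem : S.c₁ ∈ S.P3 := ⟨1, 0, 0, by simp⟩

theorem c₂_mem : S.c₂ ∈ S.P3 := ⟨0, 1, 0, by simp⟩

theorem c₃_mem : S.c₃ ∈ S.P3 := ⟨0, 0, 1, by simp⟩

theorem y_mem : S.y ∈ S.P3 := S.P3.mul_mem S.c₁_mem S.c₂_mem

theorem P3_comm_z {g : G} (hg : g ∈ S.P3) : g * z = z * g := by
  obtain ⟨i, j, k, rfl⟩ := hg
  exact Hyp.comm_mul (Hyp.comm_mul (Hyp.comm_pow S.comm₁ i) (Hyp.comm_pow S.comm₂ j)) (Hyp.comm_pow S.comm₃ k)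

theorem p_P3 (i j k : ℕ) : S.H.p (S.c₁ ^ i * S.c₂ ^ j * S.c₃ ^ k) = emb S.h9 (permA ^ i * permB ^ j * permC ^ k) := by
  rw [S.H.p_mul (Hyp.comm_mul (Hyp.comm_pow S.comm₁ i) (Hyp.comm_pow S.comm₂ j)) (Hyp.comm_pow S.comm₃ k),
    S.H.p_mul (Hyp.comm_pow S.comm₁ i) (Hyp.comm_pow S.comm₂ j), S.H.p_pow S.comm₁, S.H.p_pow S.comm₂,
    S.H.p_pow S.comm₃, S.p₁, S.p₂, S.p₃, map_mul, map_mul, map_pow, map_pow, map_pow]

theorem P3_comm {g h : G} (hg : g ∈ S.P3) (hh : h ∈ S.P3) : g * h = h * g := by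
  obtain ⟨i, j, k, rfl⟩ := hg
  obtain ⟨i', j', k', rfl⟩ := hh
  have a1 : Commute S.c₁ S.c₂ := S.comm₁₂
  have a2 : Commute S.c₁ S.c₃ := S.comm₁₃
  have a3 : Commute S.c₂ S.c₃ := S.comm₂₃
  have b1 : ∀ l, Commute (S.c₁ ^ i * S.c₂ ^ j * S.c₃ ^ k) (S.c₁ ^ l) := fun l =>
    (((Commute.refl _).pow_pow i l).mul_left (a1.symm.pow_pow j l)).mul_left (a2.symm.pow_pow k l)
  have b2 : ∀ l, Commute (S.c₁ ^ i * S.c₂ ^ j * S.c₃ ^ k) (S.c₂ ^ l) := fun l =>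
    ((a1.pow_pow i l).mul_left ((Commute.refl _).pow_pow j l)).mul_left (a3.symm.pow_pow k l)
  have b3 : ∀ l, Commute (S.c₁ ^ i * S.c₂ ^ j * S.c₃ ^ k) (S.c₃ ^ l) := fun l =>
    ((a2.pow_pow i l).mul_left (a3.pow_pow j l)).mul_left ((Commute.refl _).pow_pow k l)
  exact (((b1 i').mul_right (b2 j')).mul_right (b3 k')).eq

theorem P3_cube {g : G} (hg : g ∈ S.P3) : g ^ 3 = 1 := by
  obtain ⟨i, j, k, rfl⟩ := hg
  have h12 : Commute (S.c₁ ^ i) (S.c₂ ^ j) := mul_pow_comm S.comm₁₂ i j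
  have h3 : Commute (S.c₁ ^ i * S.c₂ ^ j) (S.c₃ ^ k) :=
    Commute.mul_left (mul_pow_comm S.comm₁₃ i k) (mul_pow_comm S.comm₂₃ j k)
  rw [h3.mul_pow, h12.mul_pow, ← pow_mul, ← pow_mul, ← pow_mul, mul_comm i, mul_comm j, mul_comm k, pow_mul,
    pow_mul, pow_mul, S.cube₁, S.cube₂, S.cube₃]
  simp

theorem card_P3 : Nat.card S.P3 = 27 := by
  rw [show (27 : ℕ) = Nat.card (Fin 3 × Fin 3 × Fin 3) by simp]
  refine (Nat.card_eq_of_bijective (fun t => ⟨S.c₁ ^ (t.1 : ℕ) * S.c₂ ^ (t.2.1 : ℕ) * S.c₃ ^ (t.2.2 : ℕ),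
    ⟨_, _, _, rfl⟩⟩) ⟨?_, ?_⟩).symm
  · rintro ⟨i, j, k⟩ ⟨i', j', k'⟩ e
    have h := congrArg (fun g : S.P3 => S.H.p g) e
    simp only [S.p_P3] at h
    obtain ⟨rfl, rfl, rfl⟩ := perm_inj i j k i' j' k' (emb_injective S.h9 h)
    rfl
  · rintro ⟨g, i, j, k, rfl⟩
    refine ⟨(⟨i % 3, Nat.mod_lt _ (by norm_num)⟩, ⟨j % 3, Nat.mod_lt _ (by norm_num)⟩,
      ⟨k % 3, Nat.mod_lt _ (by norm_num)⟩), Subtype.ext ?_⟩
    show S.c₁ ^ (i % 3) * S.c₂ ^ (j % 3) * S.c₃ ^ (k % 3) = _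
    rw [← pow_eq_pow_mod i S.cube₁, ← pow_eq_pow_mod j S.cube₂, ← pow_eq_pow_mod k S.cube₃]

/-- The centraliser of the three lifts inside the centraliser of `z`. -/
theorem cent_P3 {g : G} (hg : g * z = z * g) (h1 : g * S.c₁ = S.c₁ * g) (h2 : g * S.c₂ = S.c₂ * g)
    (h3 : g * S.c₃ = S.c₃ * g) : g ∈ S.P3 ∨ g * z ∈ S.P3 := by
  set σ := S.H.p g with hσ
  have hc : ∀ {s : Perm (Fin 9)} {c : G}, c * z = z * c → S.H.p c = emb S.h9 s → g * c = c * g →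
      ∀ q, σ (emb S.h9 s q) = emb S.h9 s (σ q) := by
    intro s c hc pc e q
    have e' := congrArg S.H.p e
    rw [S.H.p_mul hg hc, S.H.p_mul hc hg, pc] at e'
    exact Equiv.ext_iff.mp e' q
  have kA := hc S.comm₁ S.p₁ h1
  have kB := hc S.comm₂ S.p₂ h2
  have kC := hc S.comm₃ S.p₃ h3
  have orb : ∀ {s : Perm (Fin 9)}, (∀ q, σ (emb S.h9 s q) = emb S.h9 s (σ q)) → ∀ a : Fin 9, s a ≠ a →
      ∃ b : Fin 9, b.castLE S.h9 = σ (a.castLE S.h9) ∧ s b ≠ b := by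
    intro s hs a ha
    have hne : emb S.h9 s (σ (a.castLE S.h9)) ≠ σ (a.castLE S.h9) := by
      rw [← hs, emb_apply]
      exact fun e => ha (Fin.castLE_injective _ (σ.injective e))
    by_cases h9 : (σ (a.castLE S.h9) : ℕ) < 9
    · refine ⟨⟨_, h9⟩, rfl, fun e => hne ?_⟩
      conv_rhs => rw [show σ (a.castLE S.h9) = (⟨_, h9⟩ : Fin 9).castLE S.h9 from rfl, ← e]
      rw [← emb_apply]; rfl
    · exact absurd (emb_apply_out S.h9 s h9) hne
  obtain ⟨a, ea, ha⟩ := orb kA 0 (by decide +kernel)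
  obtain ⟨b, eb, hb⟩ := orb kB 3 (by decide +kernel)
  obtain ⟨c, ec, hc'⟩ := orb kC 6 (by decide +kernel)
  obtain ⟨⟨i, hi⟩, ⟨j, hj⟩, ⟨k, hk⟩⟩ :
      (∃ i : Fin 3, (permA ^ (i : ℕ)) 0 = a) ∧ (∃ j : Fin 3, (permB ^ (j : ℕ)) 3 = b) ∧
        (∃ k : Fin 3, (permC ^ (k : ℕ)) 6 = c) := by
    revert ha hb hc'
    clear ea eb ec
    revert a b c
    decide +kernel
  set w := S.c₁ ^ (i : ℕ) * S.c₂ ^ (j : ℕ) * S.c₃ ^ (k : ℕ) with hw
  have hwz := S.P3_comm_z (g := w) ⟨_, _, _, rfl⟩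
  have hgw : σ = S.H.p w := by
    rw [hw, S.p_P3]
    set π := permA ^ (i : ℕ) * permB ^ (j : ℕ) * permC ^ (k : ℕ) with hπ
    have hπv : π 0 = a ∧ π 3 = b ∧ π 6 = c := by
      rw [← hi, ← hj, ← hk, hπ]
      clear hπ π hi hj hk hw w hwz
      revert i j k; decide +kernel
    have hπc : π * permA = permA * π ∧ π * permB = permB * π ∧ π * permC = permC * π := by
      rw [hπ]
      clear hπ π hi hj hk hw w hwz hπv
      revert i j k; decide +kernel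
    have step : ∀ {s : Perm (Fin 9)}, (∀ q, σ (emb S.h9 s q) = emb S.h9 s (σ q)) → π * s = s * π →
        ∀ a : Fin 9, σ (a.castLE S.h9) = (π a).castLE S.h9 → σ ((s a).castLE S.h9) = (π (s a)).castLE S.h9 := by
      intro s hs hπs a e
      rw [← emb_apply, hs, e, emb_apply]
      exact congrArg _ (Equiv.ext_iff.mp hπs a).symm
    have h0 : σ ((0 : Fin 9).castLE S.h9) = (π 0).castLE S.h9 := by rw [hπv.1, ea]
    have h3' : σ ((3 : Fin 9).castLE S.h9) = (π 3).castLE S.h9 := by rw [hπv.2.1, eb]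
    have h6 : σ ((6 : Fin 9).castLE S.h9) = (π 6).castLE S.h9 := by rw [hπv.2.2, ec]
    have h1' := step kA hπc.1 _ h0
    have h2' := step kA hπc.1 _ h1'
    have h4 := step kB hπc.2.1 _ h3'
    have h5 := step kB hπc.2.1 _ h4
    have h7 := step kC hπc.2.2 _ h6
    have h8 := step kC hπc.2.2 _ h7
    have hlow : ∀ a : Fin 9, σ (a.castLE S.h9) = emb S.h9 π (a.castLE S.h9) := by
      intro a
      rw [emb_apply]
      have hcase : a = 0 ∨ a = permA 0 ∨ a = permA (permA 0) ∨ a = 3 ∨ a = permB 3 ∨ a = permB (permB 3) ∨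
          a = 6 ∨ a = permC 6 ∨ a = permC (permC 6) := by revert a; decide +kernel
      rcases hcase with rfl | rfl | rfl | rfl | rfl | rfl | rfl | rfl | rfl <;> assumption
    refine Equiv.ext fun q => ?_
    by_cases hq : (q : ℕ) < 9
    · exact hlow ⟨q, hq⟩
    · rw [emb_apply_out _ _ hq]
      -- the only remaining point
      obtain ⟨r, hr⟩ : ∃ r, σ r = q := σ.surjective q
      by_cases hr9 : (r : ℕ) < 9
      · exfalso
        have h := hlow ⟨r, hr9⟩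
        have e : (⟨r, hr9⟩ : Fin 9).castLE S.h9 = r := rfl
        rw [e, hr, ← e, emb_apply] at h
        exact hq (by rw [h]; simp only [Fin.val_castLE]; exact Fin.isLt _)
      · have hrq : r = q := Fin.ext (by have := r.2; have := q.2; have := S.h10; omega)
        exact hrq ▸ hr
  rcases S.H.eq_or_of_p_eq hg hwz hgw with e | e
  · exact Or.inl (e ▸ ⟨_, _, _, rfl⟩)
  · exact Or.inr (by rw [e, mul_assoc, S.H.zz, mul_one]; exact ⟨_, _, _, rfl⟩)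

/-- An odd group centralising `z` and `y` has order dividing twenty-seven. -/
theorem odd_dvd {K : Subgroup G} (hK : Odd (Nat.card K)) (hz : ∀ g ∈ K, g * z = z * g)
    (hy : ∀ g ∈ K, g * S.y = S.y * g) : Nat.card K ∣ 27 := by
  let φ : K →* Perm (Fin n) :=
    { toFun := fun g => S.H.p g
      map_one' := S.H.p_one
      map_mul' := fun a b => S.H.p_mul (hz a a.2) (hz b b.2) }
  have hφ : ∀ g, φ g ∈ Subgroup.centralizer ({emb S.h9 (permA * permB)} : Set (Perm (Fin n))) := fun g => by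
    rw [Subgroup.mem_centralizer_singleton_iff]
    show S.H.p g * _ = _ * S.H.p g
    rw [← S.p_y, ← S.H.p_mul (hz g g.2) S.y_z, ← S.H.p_mul S.y_z (hz g g.2), hy g g.2]
  have hinj : Function.Injective φ := (injective_iff_map_eq_one φ).mpr fun g hg => by
    rcases S.H.eq_or_of_p_eq_one (hz g g.2) hg with e | e
    · exact Subtype.ext e
    · exfalso
      have := Subgroup.orderOf_dvd_natCard K g.2
      rw [e, S.H.ord] at this
      exact Nat.not_even_iff_odd.mpr hK (even_iff_two_dvd.mpr this)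
  have h1 : Nat.card K ∣ (n - 6).factorial * 18 := by
    rw [← card_cent_permY S.h9, Nat.card_congr (MonoidHom.ofInjective hinj).toEquiv]
    exact Subgroup.card_dvd_of_le (by rintro _ ⟨g, rfl⟩; exact hφ g)
  have := S.h9
  have := S.h10
  have hcop : Nat.Coprime (Nat.card K) 16 := by
    rw [show (16 : ℕ) = 2 ^ 4 from rfl]
    exact Nat.Coprime.pow_right 4 (Nat.coprime_two_right.mpr hK)
  have h2 : Nat.card K ∣ 27 * 16 := by
    refine h1.trans ?_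
    rcases (show n = 9 ∨ n = 10 by omega) with rfl | rfl <;> decide
  exact hcop.dvd_of_dvd_mul_right h2

end Std

end CfsgLib.SpinCent
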