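import Cfsg.Agent.Lib.ThType.Local
import Cfsg.Agent.Lib.SmallCent.FourFixed
import Cfsg.Agent.Lib.PSolvable.Core
import Cfsg.Agent.Lib.SpinCent.StdBasic

/-!
# A subgroup in which the central involution is isolated
-/

set_option autoImplicit false
set_option linter.unusedSectionVars false
set_option linter.style.haveILetI false

namespace CfsgLib.SpinCent

variable {G : Type*} [Group G] [Finite G] {z : G} {K O : Subgroup G}

/-- The group is what centralises `z` times a normal subgroup of odd order. -/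
structure Split (z : G) (K O : Subgroup G) : Prop where
  le : O ≤ K
  odd : Odd (Nat.card O)
  cover : ∀ g ∈ K, ∃ c ∈ K, c * z = z * c ∧ ∃ o ∈ O, g = c * o
  stable : ∀ a ∈ Subgroup.normalizer (K : Set G), a ∈ Subgroup.normalizer (O : Set G)
  absorb : ∀ B : Subgroup G, B ≤ K → Odd (Nat.card B) →
    (∀ c ∈ K, c * z = z * c → ∀ b ∈ B, c * b * c⁻¹ ∈ B) → B ≤ O

theorem exists_split (hz : orderOf z = 2) (hzK : z ∈ K)
    (huniq : ∀ v ∈ K, v * z = z * v → orderOf v = 2 → v = z) : ∃ O, Split z K O := by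
  set t : K := ⟨z, hzK⟩ with ht
  have hiso : Cfsg.IsIsolatedInvolution t := by
    refine ⟨by rw [← Subgroup.orderOf_coe]; exact hz, fun g hg => Subtype.ext ?_⟩
    refine huniq _ (g * t * g⁻¹).2 (congrArg Subtype.val hg.symm.eq) ?_
    rw [Subgroup.orderOf_coe, ← MulAut.conj_apply, MulEquiv.orderOf_eq, ← Subgroup.orderOf_coe]
    exact hz
  have hsup := CfsgLib.ThType.sup_eq_top_of_isolated hiso
  haveI : (Cfsg.oddCore K).Normal := CfsgLib.Transfer.pPrimeCore_normal 2 K
  have hodd := CfsgLib.Transfer.pPrimeCore_coprime (G := ↥K) 2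
  refine ⟨(Cfsg.oddCore K).map K.subtype, Subgroup.map_subtype_le _, ?_, ?_, ?_, ?_⟩
  · rw [Subgroup.card_map_of_injective K.subtype_injective]
    exact Nat.coprime_two_right.mp hodd
  · intro g hg
    have hm : (⟨g, hg⟩ : K) ∈ ((Subgroup.centralizer ({t} : Set K) ⊔ Cfsg.oddCore K : Subgroup K) : Set K) := by
      rw [hsup]; exact Subgroup.mem_top _
    rw [Subgroup.mul_normal] at hm
    obtain ⟨c, hc, o, ho, e⟩ := Set.mem_mul.mp hm
    exact ⟨c, c.2, congrArg Subtype.val (Subgroup.mem_centralizer_singleton_iff.mp hc), o,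
      Subgroup.mem_map_of_mem _ ho, (congrArg Subtype.val e).symm⟩
  · exact fun a ha => CfsgLib.PSolvable.le_normalizer_map_of_characteristic
      (A := Subgroup.normalizer (K : Set G)) (H := K) le_rfl (Cfsg.oddCore ↥K) ha
  · intro B hB hBodd hBn
    set B' := B.subgroupOf K
    set N := B' ⊔ Cfsg.oddCore K
    have hN : N.Normal := by
      refine ⟨fun b hb g => ?_⟩
      have hg : g ∈ (Subgroup.centralizer ({t} : Set K) ⊔ Cfsg.oddCore K : Subgroup K) := by
        rw [hsup]; exact Subgroup.mem_top _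
      have hle : Subgroup.centralizer ({t} : Set K) ⊔ Cfsg.oddCore K ≤ Subgroup.normalizer (N : Set K) := by
        refine sup_le (fun c hc => ?_) (le_sup_right.trans Subgroup.le_normalizer)
        have hcB : ∀ c ∈ Subgroup.centralizer ({t} : Set K), ∀ b ∈ N, c * b * c⁻¹ ∈ N := by
          intro c hc b hb
          have : B' ⊔ Cfsg.oddCore K ≤ N.comap (MulAut.conj c).toMonoidHom :=
            sup_le (fun b' hb' => Subgroup.mem_sup_left (hBn c c.2
              (congrArg Subtype.val (Subgroup.mem_centralizer_singleton_iff.mp hc)) b' hb'))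
              (fun o ho => Subgroup.mem_sup_right (Subgroup.Normal.conj_mem inferInstance o ho c))
          exact this hb
        refine Subgroup.mem_normalizer_iff.mpr fun b => ⟨hcB c hc b, fun h => ?_⟩
        have := hcB c⁻¹ (inv_mem hc) _ h
        rwa [inv_inv, show c⁻¹ * (c * b * c⁻¹) * c = b by group] at this
      exact (Subgroup.mem_normalizer_iff.mp (hle hg) b).mp hb
    have hNc : (Nat.card N).Coprime 2 := by
      have e : N = Cfsg.oddCore K ⊔ B' := sup_comm _ _
      rw [e]
      exact CfsgLib.Transfer.coprime_card_sup_of_normal inferInstance hodd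
        (Nat.coprime_two_right.mpr (by
          rwa [show Nat.card B' = Nat.card B from Nat.card_congr (Subgroup.subgroupOfEquivOfLe hB).toEquiv]))
    have h1 : B' ≤ Cfsg.oddCore K := le_sup_left.trans (CfsgLib.Transfer.le_pPrimeCore hN hNc)
    intro b hb
    exact ⟨⟨b, hB hb⟩, h1 hb, rfl⟩

/-- Centralisers of finite sets as subgroups. -/
theorem mem_normalizer_centralizer {s : Set G} {a : G} (ha : ∀ u ∈ s, a * u * a⁻¹ ∈ Subgroup.closure s)
    (ha' : ∀ u ∈ s, a⁻¹ * u * a ∈ Subgroup.closure s) :
    a ∈ Subgroup.normalizer ((Subgroup.centralizer s : Subgroup G) : Set G) := by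
  have key : ∀ b : G, (∀ u ∈ s, b⁻¹ * u * b ∈ Subgroup.closure s) → ∀ g ∈ Subgroup.centralizer s,
      b * g * b⁻¹ ∈ Subgroup.centralizer s := by
    intro b hb g hg
    refine Subgroup.mem_centralizer_iff.mpr fun u hu => ?_
    have hg' : g ∈ Subgroup.centralizer ((Subgroup.closure s : Subgroup G) : Set G) := by
      rwa [Subgroup.centralizer_closure]
    have := Subgroup.mem_centralizer_iff.mp hg' _ (hb u hu)
    calc u * (b * g * b⁻¹) = b * (b⁻¹ * u * b * g) * b⁻¹ := by group
      _ = b * (g * (b⁻¹ * u * b)) * b⁻¹ := by rw [this]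
      _ = _ := by group
  refine Subgroup.mem_normalizer_iff.mpr fun g => ⟨key a ha' g, fun h => ?_⟩
  have := key a⁻¹ (by simpa using ha) _ h
  rwa [inv_inv, show a⁻¹ * (a * g * a⁻¹) * a = g by group] at this

end CfsgLib.SpinCent
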