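import Cfsg.Agent.Lib.SpinAlt.Cover
import Cfsg.Prelude.Def_SporadicB

/-!
# An involution whose centraliser covers an alternating group twice

The covering map of the centraliser, written on elements of the whole group, and the elementary rules
for lifts.
-/

set_option autoImplicit false
set_option linter.unusedSectionVars false
set_option linter.style.haveILetI false

namespace CfsgLib.SpinCent

open Equiv Equiv.Perm

variable {G : Type*} [Group G] {n : ℕ} {z : G}

/-- The centraliser of the involution `z` is a perfect double cover of the alternating group. -/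
structure Hyp (n : ℕ) (z : G) where
  hom : ↥(Subgroup.centralizer ({z} : Set G)) →* Perm (Fin n)
  cover : SpinAlt.Cover hom
  ord : orderOf z = 2
  ker_z : ∀ h : z ∈ Subgroup.centralizer ({z} : Set G), hom ⟨z, h⟩ = 1

/-- Commuting with `z`. -/
theorem mem_cent {z g : G} : g ∈ Subgroup.centralizer ({z} : Set G) ↔ g * z = z * g :=
  Subgroup.mem_centralizer_singleton_iff

theorem exists_hyp [Finite G] (hn : 5 ≤ n) (hz : orderOf z = 2)
    (hcov : Cfsg.IsNonsplitDoubleCover (Subgroup.centralizer ({z} : Set G)) (alternatingGroup (Fin n))) :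
    Nonempty (Hyp n z) := by
  obtain ⟨hZ, ⟨e⟩, hns⟩ := hcov
  set C := Subgroup.centralizer ({z} : Set G) with hCdef
  have h5 : 5 ≤ Nat.card (Fin n) := by rw [Nat.card_eq_fintype_card, Fintype.card_fin]; exact hn
  haveI : IsSimpleGroup (alternatingGroup (Fin n)) := alternatingGroup.isSimpleGroup h5
  set f : ↥C →* alternatingGroup (Fin n) := e.toMonoidHom.comp (QuotientGroup.mk' (Subgroup.center ↥C))
    with hf
  have fsurj : Function.Surjective f :=
    e.surjective.comp (QuotientGroup.mk'_surjective (Subgroup.center ↥C))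
  have fker : f.ker = Subgroup.center ↥C := by
    ext x
    rw [MonoidHom.mem_ker, hf]
    show e (QuotientGroup.mk' (Subgroup.center ↥C) x) = 1 ↔ _
    rw [e.map_eq_one_iff, ← MonoidHom.mem_ker, QuotientGroup.ker_mk']
  set π : ↥C →* Perm (Fin n) := (alternatingGroup (Fin n)).subtype.comp f with hπ
  have πker : π.ker = Subgroup.center ↥C := by
    rw [← fker]; ext x; simp only [MonoidHom.mem_ker, hπ, MonoidHom.comp_apply]
    exact (map_eq_one_iff _ (Subgroup.subtype_injective _))
  have hzz : z ∈ C := mem_cent.mpr rfl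
  have hzc : (⟨z, hzz⟩ : ↥C) ∈ Subgroup.center ↥C :=
    Subgroup.mem_center_iff.mpr fun g => Subtype.ext (mem_cent.mp g.2)
  refine ⟨⟨π, ⟨by rw [Fintype.card_fin]; exact hn, ?_, by rw [πker], by rw [πker]; exact hZ, ?_⟩, hz,
    fun h => ?_⟩⟩
  · rw [hπ, MonoidHom.range_comp, MonoidHom.range_eq_top.mpr fsurj, ← MonoidHom.range_eq_map,
      Subgroup.range_subtype]
  · -- perfect
    have hA : commutator (alternatingGroup (Fin n)) = ⊤ :=
      commutator_alternatingGroup_eq_top h5
    have hmap : (commutator ↥C).map f = ⊤ := by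
      rw [commutator_def, Subgroup.map_commutator, Subgroup.map_top_of_surjective f fsurj,
        ← commutator_def, hA]
    have hsup : commutator ↥C ⊔ Subgroup.center ↥C = ⊤ := by
      rw [← fker]
      have := congrArg (Subgroup.comap f) hmap
      rwa [Subgroup.comap_map_eq, Subgroup.comap_top] at this
    by_cases hle : Subgroup.center ↥C ≤ commutator ↥C
    · rwa [sup_of_le_left hle] at hsup
    exfalso
    obtain ⟨c, hc, hc'⟩ := SetLike.not_le_iff_exists.mp hle
    have hd : Disjoint (Subgroup.center ↥C) (commutator ↥C) := by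
      rw [Subgroup.disjoint_def]
      intro x hx hx'
      by_contra h1
      obtain ⟨y, hy, hu⟩ := (Nat.card_eq_two_iff' (1 : Subgroup.center ↥C)).mp hZ
      have e1 := hu ⟨x, hx⟩ fun e => h1 (congrArg Subtype.val e)
      have e2 := hu ⟨c, hc⟩ fun e => hc' (by
        rw [show c = 1 from congrArg Subtype.val e]; exact one_mem _)
      exact hc' (by rw [← show x = c from congrArg Subtype.val (e1.trans e2.symm)]; exact hx')
    haveI : (commutator ↥C).Normal := inferInstance
    exact hns _ (Subgroup.isComplement'_of_disjoint_and_mul_eq_univ hd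
      (by rw [← Subgroup.mul_normal, sup_comm, hsup, Subgroup.coe_top]))
  · rw [← MonoidHom.mem_ker, πker]; exact hzc

namespace Hyp

variable (H : Hyp n z)

/-- The covering map, on elements of the whole group (trivial outside the centraliser). -/
noncomputable def p (g : G) : Perm (Fin n) :=
  open scoped _root_.Classical in
  if h : g ∈ Subgroup.centralizer ({z} : Set G) then H.hom ⟨g, h⟩ else 1

theorem p_eq {g : G} (h : g ∈ Subgroup.centralizer ({z} : Set G)) : H.p g = H.hom ⟨g, h⟩ := by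
  rw [p, dif_pos h]

theorem p_mul {g h : G} (hg : g * z = z * g) (hh : h * z = z * h) : H.p (g * h) = H.p g * H.p h := by
  rw [H.p_eq (mem_cent.mpr hg), H.p_eq (mem_cent.mpr hh),
    H.p_eq (mul_mem (mem_cent.mpr hg) (mem_cent.mpr hh)), ← map_mul]
  rfl

theorem p_one : H.p 1 = 1 := by rw [H.p_eq (one_mem _)]; exact map_one H.hom

theorem p_inv {g : G} (hg : g * z = z * g) : H.p g⁻¹ = (H.p g)⁻¹ := by
  rw [H.p_eq (mem_cent.mpr hg), H.p_eq (inv_mem (mem_cent.mpr hg)), ← map_inv]
  rfl

theorem zz (H : Hyp n z) : z * z = 1 := by rw [← pow_two, ← H.ord, pow_orderOf_eq_one]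

theorem z_ne (H : Hyp n z) : z ≠ 1 := fun e => by
  have := H.ord; rw [e, orderOf_one] at this; norm_num at this

theorem p_z : H.p z = 1 := by rw [H.p_eq (mem_cent.mpr rfl)]; exact H.ker_z _

theorem comm_mul {g h : G} (hg : g * z = z * g) (hh : h * z = z * h) : g * h * z = z * (g * h) := by
  rw [mul_assoc, hh, ← mul_assoc, hg, mul_assoc]

theorem comm_inv {g : G} (hg : g * z = z * g) : g⁻¹ * z = z * g⁻¹ :=
  mem_cent.mp (inv_mem (mem_cent.mpr hg))

theorem comm_pow {g : G} (hg : g * z = z * g) (k : ℕ) : g ^ k * z = z * g ^ k :=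
  mem_cent.mp (pow_mem (mem_cent.mpr hg) k)

theorem p_pow {g : G} (hg : g * z = z * g) (k : ℕ) : H.p (g ^ k) = H.p g ^ k := by
  induction k with
  | zero => rw [pow_zero, pow_zero, H.p_one]
  | succ k ih => rw [pow_succ, pow_succ, H.p_mul (comm_pow hg k) hg, ih]

theorem five (H : Hyp n z) : 5 ≤ n := by have := H.cover.five; rwa [Fintype.card_fin] at this

variable [Finite G]

theorem eq_or_of_p_eq_one {g : G} (hg : g * z = z * g) (h : H.p g = 1) : g = 1 ∨ g = z := by
  rw [H.p_eq (mem_cent.mpr hg)] at h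
  by_cases h1 : g = 1
  · exact Or.inl h1
  refine Or.inr (congrArg Subtype.val (H.cover.eq_of_ne_one (k := ⟨g, mem_cent.mpr hg⟩)
    (l := ⟨z, mem_cent.mpr rfl⟩) h (H.ker_z _) ?_ ?_))
  · exact fun e => h1 (congrArg Subtype.val e)
  · exact fun e => H.z_ne (congrArg Subtype.val e)

theorem eq_or_of_p_eq {g h : G} (hg : g * z = z * g) (hh : h * z = z * h) (e : H.p g = H.p h) :
    g = h ∨ g = h * z := by
  rcases H.eq_or_of_p_eq_one (comm_mul (comm_inv hh) hg)
    (by rw [H.p_mul (comm_inv hh) hg, H.p_inv hh, e, inv_mul_cancel]) with e1 | e1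
  · exact Or.inl (inv_mul_eq_one.mp e1).symm
  · exact Or.inr (inv_mul_eq_iff_eq_mul.mp e1)

theorem p_alt {g : G} (hg : g * z = z * g) : H.p g ∈ alternatingGroup (Fin n) := by
  rw [H.p_eq (mem_cent.mpr hg)]; exact H.cover.pi_mem _

theorem exists_lift {s : Perm (Fin n)} (hs : s ∈ alternatingGroup (Fin n)) :
    ∃ g : G, g * z = z * g ∧ H.p g = s := by
  obtain ⟨g, hg⟩ := H.cover.exists_lift hs
  exact ⟨g.1, mem_cent.mp g.2, by rw [H.p_eq g.2]; exact hg⟩

theorem exists_odd_lift {s : Perm (Fin n)} (hs : Odd (orderOf s)) :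
    ∃ g : G, g * z = z * g ∧ H.p g = s ∧ g ^ orderOf s = 1 := by
  have hA : s ∈ alternatingGroup (Fin n) := by
    rw [mem_alternatingGroup]
    have h1 : Equiv.Perm.sign s ^ orderOf s = 1 := by rw [← map_pow, pow_orderOf_eq_one, map_one]
    rcases Int.units_eq_one_or (Equiv.Perm.sign s) with e | e
    · exact e
    · rw [e, hs.neg_one_pow] at h1; exact absurd h1 (by decide)
  obtain ⟨g, hg, hp⟩ := H.exists_lift hA
  have hk : H.p (g ^ orderOf s) = 1 := by rw [H.p_pow hg, hp, pow_orderOf_eq_one]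
  rcases H.eq_or_of_p_eq_one (comm_pow hg _) hk with e | e
  · exact ⟨g, hg, hp, e⟩
  · refine ⟨g * z, comm_mul hg rfl, by rw [H.p_mul hg rfl, H.p_z, mul_one, hp], ?_⟩
    rw [(show Commute g z from hg).mul_pow, e]
    obtain ⟨j, hj⟩ := hs
    rw [hj, pow_succ, pow_mul, pow_two, H.zz, one_pow, one_mul, H.zz]

/-- An element of odd order commutes with everything its image commutes with. -/
theorem commute_of_odd {g h : G} (hg : g * z = z * g) (hh : h * z = z * h) {k : ℕ} (hk : Odd k)
    (hgk : g ^ k = 1) (hc : Commute (H.p g) (H.p h)) : g * h = h * g := by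
  rcases H.eq_or_of_p_eq (comm_mul (comm_mul hh hg) (comm_inv hh)) hg
    (by rw [H.p_mul (comm_mul hh hg) (comm_inv hh), H.p_mul hh hg, H.p_inv hh, ← hc.eq,
      mul_inv_cancel_right]) with e | e
  · exact (mul_inv_eq_iff_eq_mul.mp e).symm
  · exfalso
    have h1 : (h * g * h⁻¹) ^ k = 1 := by rw [conj_pow, hgk, mul_one, mul_inv_cancel]
    rw [e, (show Commute g z from hg).mul_pow, hgk, one_mul] at h1
    obtain ⟨j, rfl⟩ := hk
    rw [pow_succ, pow_mul, pow_two, H.zz, one_pow, one_mul] at h1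
    exact H.z_ne h1

theorem sq_of_double {g : G} (hg : g * z = z * g) (hd : SpinAlt.IsDouble (H.p g)) : g * g = z := by
  have hp : H.p (g * g) = 1 := by
    rw [H.p_mul hg hg, ← pow_two, ← orderOf_dvd_iff_pow_eq_one, ← lcm_cycleType, hd.cycleType]
    decide
  rcases H.eq_or_of_p_eq_one (comm_mul hg hg) hp with e | e
  · exfalso
    refine H.cover.sq_ne_one (g := ⟨g, mem_cent.mpr hg⟩) ?_ (Subtype.ext e)
    rwa [H.p_eq (mem_cent.mpr hg)] at hd
  · exact e

theorem commute_of_disjoint {c r : G} (hc : c * z = z * c) (hr : r * z = z * r) {S : Finset (Fin n)}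
    (hcS : (H.p c).support ⊆ S) (hrS : _root_.Disjoint (H.p r).support S) : c * r = r * c := by
  rw [H.p_eq (mem_cent.mpr hc)] at hcS
  rw [H.p_eq (mem_cent.mpr hr)] at hrS
  exact congrArg Subtype.val (H.cover.commute_disjoint (c := ⟨c, mem_cent.mpr hc⟩)
    (r := ⟨r, mem_cent.mpr hr⟩) hcS hrS)

theorem not_commute_double {a b c e : Fin n} (hab : a ≠ b) (hce : c ≠ e) (hac : a ≠ c)
    (hae : a ≠ e) (hbc : b ≠ c) (hbe : b ≠ e) {g h : G} (hg : g * z = z * g) (hh : h * z = z * h)
    (pg : H.p g = swap a b * swap c e) (ph : H.p h = swap a c * swap b e) :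
    g * h * g⁻¹ * h⁻¹ = z := by
  have hc : (g * h * g⁻¹ * h⁻¹) * z = z * (g * h * g⁻¹ * h⁻¹) :=
    comm_mul (comm_mul (comm_mul hg hh) (comm_inv hg)) (comm_inv hh)
  rcases H.eq_or_of_p_eq_one hc (by
    rw [H.p_mul (comm_mul (comm_mul hg hh) (comm_inv hg)) (comm_inv hh),
      H.p_mul (comm_mul hg hh) (comm_inv hg), H.p_mul hg hh, H.p_inv hg, H.p_inv hh, pg, ph]
    obtain ⟨f1, f2⟩ := SpinAlt.four_points hab hce hac hae hbc hbe
    rw [mul_assoc _ (swap a b * swap c e)⁻¹, ← mul_inv_rev, f1, f2, mul_inv_cancel]) with e1 | e1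
  · exfalso
    have e2 : g * h = h * g := by
      have := mul_inv_eq_one.mp e1
      exact mul_inv_eq_iff_eq_mul.mp this
    refine H.cover.not_commute_double hab hce hac hae hbc hbe (x := ⟨g, mem_cent.mpr hg⟩)
      (y := ⟨h, mem_cent.mpr hh⟩) ?_ ?_ (Subtype.ext e2.symm)
    · rw [← H.p_eq (mem_cent.mpr hg)]; exact pg
    · rw [← H.p_eq (mem_cent.mpr hh)]; exact ph
  · exact e1

omit [Finite G] in
/-- The hypothesis passes to conjugates. -/
theorem conj (H : Hyp n z) (g : G) : Nonempty (Hyp n (g * z * g⁻¹)) := by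
  have hmap : ∀ x, x ∈ Subgroup.centralizer ({g * z * g⁻¹} : Set G) ↔
      g⁻¹ * x * g ∈ Subgroup.centralizer ({z} : Set G) := fun x => by
    rw [mem_cent, mem_cent]
    constructor <;> intro h
    · calc g⁻¹ * x * g * z = g⁻¹ * (x * (g * z * g⁻¹)) * g := by group
        _ = g⁻¹ * (g * z * g⁻¹ * x) * g := by rw [h]
        _ = _ := by group
    · calc x * (g * z * g⁻¹) = g * (g⁻¹ * x * g * z) * g⁻¹ := by group
        _ = g * (z * (g⁻¹ * x * g)) * g⁻¹ := by rw [h]
        _ = _ := by group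
  let e : ↥(Subgroup.centralizer ({g * z * g⁻¹} : Set G)) ≃* ↥(Subgroup.centralizer ({z} : Set G)) :=
    { toFun := fun x => ⟨g⁻¹ * x.1 * g, (hmap x.1).mp x.2⟩
      invFun := fun y => ⟨g * y.1 * g⁻¹, (hmap _).mpr (by
        rw [show g⁻¹ * (g * y.1 * g⁻¹) * g = y.1 by group]; exact y.2)⟩
      left_inv := fun x => Subtype.ext (by show g * (g⁻¹ * x.1 * g) * g⁻¹ = x.1; group)
      right_inv := fun y => Subtype.ext (by show g⁻¹ * (g * y.1 * g⁻¹) * g = y.1; group)
      map_mul' := fun a b => Subtype.ext (by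
        show g⁻¹ * (a.1 * b.1) * g = (g⁻¹ * a.1 * g) * (g⁻¹ * b.1 * g); group) }
  refine ⟨⟨H.hom.comp e.toMonoidHom, ⟨H.cover.five, ?_, ?_, ?_, ?_⟩, ?_, fun h => ?_⟩⟩
  · rw [MonoidHom.range_comp, MonoidHom.range_eq_top.mpr e.surjective, ← MonoidHom.range_eq_map]
    exact H.cover.range
  · intro x hx
    rw [Subgroup.mem_center_iff]
    intro y
    exact e.injective (by rw [map_mul, map_mul]; exact Subgroup.mem_center_iff.mp (H.cover.central hx) _)
  · have : (H.hom.comp e.toMonoidHom).ker = H.hom.ker.map e.symm.toMonoidHom := by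
      ext x
      rw [Subgroup.mem_map_equiv, MonoidHom.mem_ker, MonoidHom.mem_ker]
      rfl
    rw [this, Subgroup.card_map_of_injective e.symm.injective]
    exact H.cover.card
  · have := congrArg (Subgroup.map e.symm.toMonoidHom) H.cover.perfect
    rwa [commutator_def, Subgroup.map_commutator, Subgroup.map_top_of_surjective _ e.symm.surjective,
      ← commutator_def] at this
  · have := MulEquiv.orderOf_eq (MulAut.conj g) z
    rw [MulAut.conj_apply] at this
    rw [this, H.ord]
  · show H.hom (e ⟨g * z * g⁻¹, h⟩) = 1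
    rw [show e ⟨g * z * g⁻¹, h⟩ = ⟨z, mem_cent.mpr rfl⟩ from Subtype.ext (by
      show g⁻¹ * (g * z * g⁻¹) * g = z; group)]
    exact H.ker_z _

end Hyp

end CfsgLib.SpinCent
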