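import Cfsg.Agent.Lib.SpinCent.Twelve
import Cfsg.Agent.Lib.SpinCent.Reduce

/-!
# Up to twelve points a second involution has four pairs
-/

set_option autoImplicit false
set_option linter.unusedSectionVars false
set_option linter.style.haveILetI false

namespace CfsgLib.SpinCent

open Equiv Equiv.Perm

open scoped commutatorElement

variable {G : Type*} [Group G] [Finite G] {n m : ℕ} {z x : G}

theorem viaEmbedding_swap {α β : Type*} [DecidableEq α] [DecidableEq β] (e : α ↪ β) (a b : α) :
    Equiv.Perm.viaEmbedding (swap a b) e = swap (e a) (e b) := by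
  refine Equiv.ext fun q => ?_
  by_cases hq : q ∈ Set.range e
  · obtain ⟨u, rfl⟩ := hq
    rw [viaEmbedding_apply, swap_apply_def, swap_apply_def]
    simp only [e.injective.eq_iff]
    split_ifs <;> rfl
  · rw [viaEmbedding_apply_of_notMem _ _ _ hq, swap_apply_of_ne_of_ne] <;>
      exact fun h => hq ⟨_, h.symm⟩
theorem comm_of_squares {g h : G} (hzz : z * z = 1) (ch : h * z = z * h) (g2 : g * g = z)
    (h2 : h * h = z) (gh : (g * h) * (g * h) = z) : ⁅g, h⁆ = z := by
  have ig : g⁻¹ = g * z := inv_eq_of_mul_eq_one_right (by rw [← mul_assoc, g2, hzz])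
  have ih : h⁻¹ = h * z := inv_eq_of_mul_eq_one_right (by rw [← mul_assoc, h2, hzz])
  rw [commutatorElement_def, ig, ih]
  calc g * h * (g * z) * (h * z) = g * h * g * (z * h) * z := by group
    _ = g * h * g * (h * z) * z := by rw [ch]
    _ = (g * h) * (g * h) * (z * z) := by group
    _ = z := by rw [gh, hzz, mul_one]

namespace Frame

variable {H : Hyp n z}

theorem four_eq (F : Frame H x m) (hn : n ≤ 12) : m = 4 := by
  classical
  have := F.four_le
  have := F.P.card_le
  obtain ⟨l, hl⟩ := F.even
  by_contra hne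
  obtain rfl : m = 6 := by omega
  obtain ⟨g, hg, pg, g2⟩ := F.exists_pr_lift (show (0 : Fin 6) ≠ 1 by decide)
  obtain ⟨h, hh, ph, h2⟩ := F.exists_pr_lift (show (2 : Fin 6) ≠ 3 by decide)
  obtain ⟨k, hk, pk, k2⟩ := F.exists_pr_lift (show (4 : Fin 6) ≠ 5 by decide)
  have cg := (mem_both.mp hg.1).1
  have ch := (mem_both.mp hh.1).1
  have ck := (mem_both.mp hk.1).1
  have comm : ∀ {a b : G} {i i' j j' : Fin 6}, a * z = z * a → b * z = z * b →
      H.p a = F.pr i * F.pr i' → H.p b = F.pr j * F.pr j' → i ≠ j → i ≠ j' → i' ≠ j → i' ≠ j' →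
      a * b = b * a := by
    intro a b i i' j j' ca cb pa pb h1 h2 h3 h4
    refine H.commute_of_disjoint ca cb
      (S := {F.P.ψ (i, false), F.P.ψ (i, true), F.P.ψ (i', false), F.P.ψ (i', true)}) ?_ ?_
    · intro q hq
      rw [mem_support, pa] at hq
      by_contra hS
      simp only [Finset.mem_insert, Finset.mem_singleton, not_or] at hS
      exact hq (by rw [Perm.mul_apply, Frame.pr, Frame.pr, swap_apply_of_ne_of_ne hS.2.2.1 hS.2.2.2,
        swap_apply_of_ne_of_ne hS.1 hS.2.1])
    · rw [Finset.disjoint_right]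
      intro q hq
      rw [notMem_support, pb, Perm.mul_apply]
      simp only [Finset.mem_insert, Finset.mem_singleton] at hq
      rcases hq with rfl | rfl | rfl | rfl <;> rw [F.pr_apply, F.pr_apply] <;> simp [h1, h2, h3, h4]
  have gh := comm cg ch pg ph (by decide) (by decide) (by decide) (by decide)
  have gk := comm cg ck pg pk (by decide) (by decide) (by decide) (by decide)
  have hk' := comm ch ck ph pk (by decide) (by decide) (by decide) (by decide)
  have cghk := Hyp.comm_mul (Hyp.comm_mul cg ch) ck
  have sq : (g * h * k) * (g * h * k) = z := by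
    calc (g * h * k) * (g * h * k) = g * h * (k * g) * h * k := by group
      _ = g * (h * g) * k * h * k := by rw [← gk]; group
      _ = g * (g * h) * k * h * k := by rw [← gh]
      _ = g * g * h * (k * h) * k := by group
      _ = g * g * h * (h * k) * k := by rw [← hk']
      _ = (g * g) * (h * h) * (k * k) := by group
      _ = z := by rw [g2, h2, k2, H.zz, one_mul]
  have px : H.p (g * h * k) = H.p x := by
    rw [H.p_mul (Hyp.comm_mul cg ch) ck, H.p_mul cg ch, pg, ph, pk]
    refine Equiv.ext fun q => ?_
    simp only [Perm.mul_apply]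
    by_cases hq : q ∈ Set.range F.P.ψ
    · obtain ⟨⟨i, b⟩, rfl⟩ := hq
      rw [F.pr_apply, F.pr_apply, F.pr_apply, F.pr_apply, F.pr_apply, F.pr_apply, F.P.act]
      fin_cases i <;> simp
    · rw [F.pr_out _ hq, F.pr_out _ hq, F.pr_out _ hq, F.pr_out _ hq, F.pr_out _ hq, F.pr_out _ hq,
        F.P.fix q hq]
  rcases H.eq_or_of_p_eq F.xz cghk px.symm with e | e
  · rw [← e, F.xx] at sq
    exact H.z_ne sq.symm
  · have : x * x = z := by
      rw [e]
      calc g * h * k * z * (g * h * k * z) = g * h * k * (z * (g * h * k)) * z := by group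
        _ = g * h * k * (g * h * k * z) * z := by rw [← cghk]
        _ = (g * h * k) * (g * h * k) * (z * z) := by group
        _ = z := by rw [sq, H.zz, mul_one]
    rw [F.xx] at this
    exact H.z_ne this.symm

end Frame

end CfsgLib.SpinCent
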