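import Cfsg.Agent.Lib.SpinCent.Core
import Cfsg.Agent.Lib.SpinCent.Fuse

/-!
# Centralisers of three-cycle lifts: one involution, and the odd core
-/

set_option autoImplicit false
set_option linter.unusedSectionVars false
set_option linter.style.haveILetI false

namespace CfsgLib.SpinCent

open Equiv Equiv.Perm

/-- An involution commuting with a three-cycle fixes its points. -/
theorem fixed_of_three {α : Type*} [Fintype α] [DecidableEq α] {f v : Perm α} (hf : f.IsThreeCycle)
    (hv : v * v = 1) (hc : v * f = f * v) {q : α} (hq : f q ≠ q) : v q = q := by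
  have hcyc : f.IsCycle := hf.isCycle
  have hvq : f (v q) ≠ v q := by
    rw [← Perm.mul_apply, ← hc, Perm.mul_apply]
    exact fun e => hq (v.injective e)
  obtain ⟨i, hi⟩ := hcyc.exists_pow_eq hq hvq
  have hvf : ∀ k : ℕ, ∀ p, v ((f ^ k) p) = (f ^ k) (v p) := fun k p => by
    rw [← Perm.mul_apply, ((show Commute v f from hc).pow_right k).eq, Perm.mul_apply]
  have h2 : (f ^ (i + i)) q = q := by
    rw [pow_add, Perm.mul_apply, hi, ← hvf, hi]
    exact Equiv.ext_iff.mp hv q
  have h3 : f ^ 3 = 1 := by rw [← hf.orderOf, pow_orderOf_eq_one]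
  have h4 : ∀ l : ℕ, (f ^ (l * (i + i))) q = q := by
    intro l
    induction l with
    | zero => rw [Nat.zero_mul, pow_zero, Perm.one_apply]
    | succ l ih => rw [Nat.succ_mul, pow_add, Perm.mul_apply, h2, ih]
  have h5 := h4 2
  rw [show 2 * (i + i) = i + 3 * i by ring, pow_add, pow_mul, h3, one_pow, mul_one, hi] at h5
  exact h5

namespace Std

variable {G : Type*} [Group G] [Finite G] {n : ℕ} {z x : G} (S : Std n z x)

theorem card_support_of_inv (S : Std n z x) {v : G} (hv : v * z = z * v) (v2 : orderOf v = 2) (hvz : v ≠ z) :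
    (S.H.p v).support.card = 8 := by
  have vv : v * v = 1 := by rw [← pow_two, ← v2, pow_orderOf_eq_one]
  obtain ⟨k, hk, e⟩ := S.fused v hv vv (fun e => by rw [e, orderOf_one] at v2; norm_num at v2) hvz
  have hp : S.H.p v = S.H.p k * S.H.p x * (S.H.p k)⁻¹ := by
    rw [← e, S.H.p_mul (Hyp.comm_mul hk S.xz) (Hyp.comm_inv hk), S.H.p_mul hk S.xz, S.H.p_inv hk]
  rw [hp, card_support_conj, S.px,
    show (emb S.h9 permX).support.card = permX.support.card from card_support_extend_domain _]
  decide +kernel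

/-- No other involution of the centraliser of `z` centralises a lift of a three-cycle. -/
theorem uniq_inv (S : Std n z x) {c v : G} (hc : c * z = z * c) (hc3 : (S.H.p c).IsThreeCycle)
    (hv : v * z = z * v) (v2 : orderOf v = 2) (hvc : v * c = c * v) : v = z := by
  by_contra hvz
  have h8 := S.card_support_of_inv hv v2 hvz
  have vv : v * v = 1 := by rw [← pow_two, ← v2, pow_orderOf_eq_one]
  have hp2 : S.H.p v * S.H.p v = 1 := by rw [← S.H.p_mul hv hv, vv, S.H.p_one]
  have hcm : S.H.p v * S.H.p c = S.H.p c * S.H.p v := by rw [← S.H.p_mul hv hc, ← S.H.p_mul hc hv, hvc]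
  have hd : Finset.card ((S.H.p v).support ∪ (S.H.p c).support) = 8 + 3 := by
    rw [Finset.card_union_of_disjoint, h8, hc3.card_support]
    rw [Finset.disjoint_left]
    intro q h1 h2
    exact mem_support.mp h1 (fixed_of_three hc3 hp2 hcm (mem_support.mp h2))
  have := (Finset.card_le_univ ((S.H.p v).support ∪ (S.H.p c).support)).trans (le_of_eq (Fintype.card_fin n))
  rw [hd] at this
  have := S.h10
  omega

theorem three_emb (h : 9 ≤ n) {s : Perm (Fin 9)} (hs : s.support.card = 3) : (emb h s).IsThreeCycle :=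
  card_support_eq_three_iff.mp ((card_support_extend_domain _).trans hs)

theorem three₁ : (S.H.p S.c₁).IsThreeCycle := S.p₁ ▸ three_emb S.h9 (by decide +kernel)

theorem three₂ : (S.H.p S.c₂).IsThreeCycle := S.p₂ ▸ three_emb S.h9 (by decide +kernel)

theorem three₃ : (S.H.p S.c₃).IsThreeCycle := S.p₃ ▸ three_emb S.h9 (by decide +kernel)

/-- The centraliser of a set of lifts containing a three-cycle splits. -/
theorem exists_core (S : Std n z x) {s : Set G} {c : G} (hcs : c ∈ s) (hc : c * z = z * c)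
    (hc3 : (S.H.p c).IsThreeCycle) (hs : ∀ u ∈ s, u * z = z * u) :
    ∃ O, Split z (Subgroup.centralizer s) O :=
  exists_split S.H.ord (Subgroup.mem_centralizer_iff.mpr fun u hu => hs u hu)
    fun v hv hvz v2 => S.uniq_inv hc hc3 hvz v2 (Subgroup.mem_centralizer_iff.mp hv c hcs).symm

end Std

variable {G : Type*} [Group G] [Finite G] {z : G} {K O : Subgroup G}

/-- An element of odd order inverted by `z` lies in the core. -/
theorem Split.mem_of_inverted (P : Split z K O) (hzK : z ∈ K) {i : G} (hi : i ∈ K) (hodd : Odd (orderOf i))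
    (hinv : z * i * z⁻¹ = i⁻¹) : i ∈ O := by
  obtain ⟨c, hcK, hcz, o, ho, e⟩ := P.cover i hi
  have hO : ∀ k ∈ K, ∀ o ∈ O, k * o * k⁻¹ ∈ O := fun k hk o ho =>
    (Subgroup.mem_normalizer_iff.mp (P.stable k (Subgroup.le_normalizer hk)) o).mp ho
  have hsq : i * i ∈ O := by
    have h1 : c * (o * (z * o⁻¹ * z⁻¹)) * c⁻¹ ∈ O :=
      hO c hcK _ (O.mul_mem ho (hO z hzK _ (O.inv_mem ho)))
    have h2 : i * i = c * (o * (z * o⁻¹ * z⁻¹)) * c⁻¹ := by
      have e2 : i = (z * i * z⁻¹)⁻¹ := by rw [hinv, inv_inv]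
      have hzc : c * z⁻¹ = z⁻¹ * c := (show Commute c z from hcz).inv_right.eq
      calc i * i = i * (z * i * z⁻¹)⁻¹ := congrArg (i * ·) e2
        _ = c * o * (z * (c * o) * z⁻¹)⁻¹ := by rw [e]
        _ = c * (o * (z * o⁻¹)) * (c⁻¹ * z⁻¹) := by group
        _ = c * (o * (z * o⁻¹)) * (z⁻¹ * c⁻¹) := by
          rw [show c⁻¹ * z⁻¹ = (z * c)⁻¹ by group, ← hcz]; group
        _ = _ := by group
    rwa [h2]
  obtain ⟨l, hl⟩ := hodd
  have : (i * i) ^ (l + 1) = i := by
    rw [← pow_two, ← pow_mul, show 2 * (l + 1) = orderOf i + 1 by omega, pow_succ, pow_orderOf_eq_one, one_mul]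
  exact this ▸ O.pow_mem hsq _

end CfsgLib.SpinCent
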