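import Cfsg.Agent.Lib.SpinCent.Pairs
import Cfsg.Agent.S4337

/-!
# Two involutions of the cover on at least thirteen points

The group commuting with both involutions tells which of them is the centre of the cover, so they
are not conjugate.
-/

set_option autoImplicit false
set_option linter.unusedSectionVars false
set_option linter.style.haveILetI false

namespace CfsgLib.SpinCent

open Equiv Equiv.Perm

open scoped commutatorElement

theorem two_group_trivial {α : Type*} [Fintype α] [DecidableEq α] (h5 : 5 ≤ Fintype.card α)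
    (N : Subgroup (Perm α)) (h2 : IsPGroup 2 N)
    (hn : ∀ c : Perm α, c.IsThreeCycle → ∀ a ∈ N, c * a * c⁻¹ ∈ N) : N = ⊥ := by
  haveI : IsSimpleGroup (alternatingGroup α) :=
    alternatingGroup.isSimpleGroup (by rw [Nat.card_eq_fintype_card]; exact h5)
  have hle : alternatingGroup α ≤ Subgroup.normalizer (N : Set (Perm α)) := by
    rw [← closure_three_cycles_eq_alternating, Subgroup.closure_le]
    intro c hc
    rw [SetLike.mem_coe, Subgroup.mem_normalizer_iff]
    intro a
    refine ⟨hn c hc a, fun h => ?_⟩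
    have := hn c⁻¹ hc.inv _ h
    rwa [inv_inv, show c⁻¹ * (c * a * c⁻¹) * c = a by group] at this
  have hnor : (N.subgroupOf (alternatingGroup α)).Normal :=
    ⟨fun a ha g => (Subgroup.mem_normalizer_iff.mp (hle g.2) (a : Perm α)).mp ha⟩
  have hbot : N.subgroupOf (alternatingGroup α) = ⊥ := by
    refine hnor.eq_bot_or_eq_top.resolve_right fun htop => ?_
    have hA : alternatingGroup α ≤ N := Subgroup.subgroupOf_eq_top.mp htop
    obtain ⟨a, b, c, hab, hac, hbc⟩ := Fintype.two_lt_card_iff.mp (show 2 < Fintype.card α by omega)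
    have ht : (swap a b * swap a c).IsThreeCycle := isThreeCycle_swap_mul_swap_same hab hac hbc
    obtain ⟨k, hk⟩ := h2 ⟨_, hA ht.mem_alternatingGroup⟩
    have h3 := orderOf_dvd_of_pow_eq_one (show (swap a b * swap a c) ^ 2 ^ k = 1 from congrArg Subtype.val hk)
    rw [ht.orderOf] at h3
    have := (Nat.prime_three).dvd_of_dvd_pow h3
    omega
  rw [Subgroup.subgroupOf_eq_bot, Subgroup.disjoint_def] at hbot
  refine (Subgroup.eq_bot_iff_forall N).mpr fun a ha => ?_
  have hcomm : ∀ c : Perm α, c.IsThreeCycle → c * a = a * c := fun c hc => by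
    have h1 : c * a * c⁻¹ * a⁻¹ ∈ N := mul_mem (hn c hc a ha) (inv_mem ha)
    have h2' : c * a * c⁻¹ * a⁻¹ ∈ alternatingGroup α := by
      rw [mem_alternatingGroup, map_mul, map_mul, map_mul, map_inv, map_inv,
        mul_right_comm (Equiv.Perm.sign c) (Equiv.Perm.sign a), mul_inv_cancel, one_mul, mul_inv_cancel]
    exact mul_inv_eq_iff_eq_mul.mp (mul_inv_eq_one.mp (hbot h1 h2'))
  by_contra h1
  obtain ⟨p, hp⟩ : ∃ p, a p ≠ p := by
    by_contra hno; push Not at hno; exact h1 (Equiv.ext hno)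
  obtain ⟨q, r, hq, hr, hqr⟩ : ∃ q r, (q ≠ p ∧ q ≠ a p) ∧ (r ≠ p ∧ r ≠ a p) ∧ q ≠ r := by
    have : 1 < (Finset.univ \ ({p, a p} : Finset α)).card := by
      have := Finset.le_card_sdiff ({p, a p} : Finset α) Finset.univ
      have := Finset.card_le_two (a := p) (b := a p)
      rw [Finset.card_univ] at *
      omega
    obtain ⟨q, hq, r, hr, hqr⟩ := Finset.one_lt_card.mp this
    simp only [Finset.mem_sdiff, Finset.mem_univ, true_and, Finset.mem_insert, Finset.mem_singleton,
      not_or] at hq hr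
    exact ⟨q, r, hq, hr, hqr⟩
  have ht : (swap p q * swap p r).IsThreeCycle := isThreeCycle_swap_mul_swap_same hq.1.symm hr.1.symm hqr
  have e := DFunLike.congr_fun (hcomm _ ht) p
  simp only [Perm.mul_apply, swap_apply_left] at e
  rw [swap_apply_of_ne_of_ne hp hr.2.symm, swap_apply_of_ne_of_ne hp hq.2.symm,
    swap_apply_of_ne_of_ne hr.1 hqr.symm] at e
  exact hr.1 (a.injective e).symm

set_option synthInstance.maxHeartbeats 1000000 in
set_option synthInstance.maxSize 1000 in
theorem small_cond_comm : ∀ r ≤ 4, ∀ g h : Perm (Fin r), g ^ 8 = 1 → h ^ 8 = 1 →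
    (∀ c : Perm (Fin r), c ^ 3 = 1 → (g * (c * g * c⁻¹)) ^ 8 = 1) →
    (∀ c : Perm (Fin r), c ^ 3 = 1 → (h * (c * h * c⁻¹)) ^ 8 = 1) → g * h = h * g := by
  intro r hr
  interval_cases r <;> decide +kernel

theorem two_group_comm {α : Type*} [Fintype α] [DecidableEq α] (N : Subgroup (Perm α)) (h2 : IsPGroup 2 N)
    (hn : ∀ c : Perm α, c.IsThreeCycle → ∀ a ∈ N, c * a * c⁻¹ ∈ N) {a b : Perm α} (ha : a ∈ N) (hb : b ∈ N) :
    a * b = b * a := by
  rcases Nat.lt_or_ge (Fintype.card α) 5 with h4 | h5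
  swap
  · have hN := two_group_trivial h5 N h2 hn
    rw [hN, Subgroup.mem_bot] at ha hb
    rw [ha, hb]
  set e := (Fintype.equivFin α).permCongrHom with he
  have p8 : ∀ g ∈ N, g ^ 8 = 1 := fun g hg => by
    obtain ⟨k, hk⟩ := h2 ⟨g, hg⟩
    have h1 : orderOf g ∣ 2 ^ k := orderOf_dvd_of_pow_eq_one (congrArg Subtype.val hk)
    have h3 : orderOf g ∣ Nat.factorial 4 := by
      refine orderOf_dvd_natCard g |>.trans ?_
      rw [Nat.card_perm, Nat.card_eq_fintype_card]
      exact Nat.factorial_dvd_factorial (by omega)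
    obtain ⟨j, -, hj⟩ := (Nat.dvd_prime_pow Nat.prime_two).mp h1
    rw [hj] at h3
    have : j ≤ 3 := by
      by_contra hj4
      have h16 : 16 ∣ Nat.factorial 4 := (show 2 ^ 4 ∣ 2 ^ j from pow_dvd_pow 2 (by omega)).trans h3
      revert h16; decide
    exact orderOf_dvd_iff_pow_eq_one.mp (hj ▸ (pow_dvd_pow 2 this))
  have cnd : ∀ g ∈ N, ∀ c : Perm (Fin (Fintype.card α)), c ^ 3 = 1 → (e g * (c * e g * c⁻¹)) ^ 8 = 1 := by
    intro g hg c hc
    obtain ⟨c, rfl⟩ := e.surjective c
    rw [← map_pow] at hc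
    have hc3 : c ^ 3 = 1 := e.injective (hc.trans (map_one e).symm)
    have hmem : c * g * c⁻¹ ∈ N := by
      rcases eq_or_ne c 1 with rfl | hc1
      · simpa using hg
      refine hn c ?_ g hg
      rw [← card_support_eq_three_iff]
      obtain ⟨w, hw⟩ := Equiv.Perm.cycleType_prime_order (σ := c) (by
        rw [orderOf_eq_prime hc3 hc1]; exact Nat.prime_three)
      rw [orderOf_eq_prime hc3 hc1] at hw
      have := Equiv.Perm.sum_cycleType c
      rw [hw, Multiset.sum_replicate, smul_eq_mul] at this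
      have := c.support.card_le_univ
      omega
    rw [← map_inv, ← map_mul, ← map_mul, ← map_mul, ← map_pow, p8 _ (mul_mem hg hmem), map_one]
  apply e.injective
  rw [map_mul, map_mul]
  exact small_cond_comm _ (by omega) _ _ (by rw [← map_pow, p8 a ha, map_one])
    (by rw [← map_pow, p8 b hb, map_one]) (cnd a ha) (cnd b hb)

variable {G : Type*} [Group G] [Finite G] {n m : ℕ} {z x : G}

/-- The group commuting with both involutions. -/
def both (z x : G) : Subgroup G :=
  Subgroup.centralizer ({z} : Set G) ⊓ Subgroup.centralizer ({x} : Set G)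

theorem mem_both {g : G} : g ∈ both z x ↔ g * z = z * g ∧ g * x = x * g :=
  Subgroup.mem_inf.trans (and_congr mem_cent mem_cent)

theorem both_comm : both z x = both x z := inf_comm _ _

/-- The two involutions. -/
structure Frame (H : Hyp n z) (x : G) (m : ℕ) where
  xz : x * z = z * x
  xx : x * x = 1
  ne_z : x ≠ z
  ne_one : x ≠ 1
  P : Pairs (H.p x) m

theorem exists_frame (H : Hyp n z) {x : G} (xz : x * z = z * x) (xx : x * x = 1) (hz : x ≠ z)
    (h1 : x ≠ 1) : ∃ m, Nonempty (Frame H x m) := by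
  obtain ⟨m, ⟨P⟩⟩ := exists_pairs (s := H.p x) (by rw [← H.p_mul xz xz, xx, H.p_one])
  exact ⟨m, ⟨⟨xz, xx, hz, h1, P⟩⟩⟩

namespace Frame

variable {H : Hyp n z} (F : Frame H x m)

/-- The transposition of the `i`th pair. -/
noncomputable def pr (i : Fin m) : Perm (Fin n) := swap (F.P.ψ (i, false)) (F.P.ψ (i, true))

theorem comm_p (F : Frame H x m) {a : G} (ha : a ∈ both z x) : Commute (H.p a) (H.p x) := by
  obtain ⟨h1, h2⟩ := mem_both.mp ha
  show H.p a * H.p x = H.p x * H.p a
  rw [← H.p_mul h1 F.xz, ← H.p_mul F.xz h1, h2]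

theorem three_le (F : Frame H x m) : 3 ≤ m := by
  classical
  by_contra hm
  have hpx : H.p x ≠ 1 := fun e =>
    (H.eq_or_of_p_eq_one F.xz e).elim F.ne_one F.ne_z
  have hA := H.p_alt F.xz
  have ext1 : ∀ f : Perm (Fin n), (∀ i b, f (F.P.ψ (i, b)) = F.P.ψ (i, !b)) →
      (∀ q, q ∉ Set.range F.P.ψ → f q = q) → H.p x = f := fun f h1 h2 => Equiv.ext fun q => by
    by_cases hq : q ∈ Set.range F.P.ψ
    · obtain ⟨⟨i, b⟩, rfl⟩ := hq
      rw [F.P.act, h1]
    · rw [F.P.fix q hq, h2 q hq]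
  have hne : ∀ {u v : Fin m × Bool}, u ≠ v → F.P.ψ u ≠ F.P.ψ v := fun h e => h (F.P.ψ.injective e)
  have hout : ∀ {q : Fin n}, q ∉ Set.range F.P.ψ → ∀ p, q ≠ F.P.ψ p := fun hq p e => hq ⟨p, e.symm⟩
  interval_cases m
  · exact hpx (ext1 1 (fun i => i.elim0) fun q _ => rfl)
  · have e : H.p x = F.pr 0 := ext1 _ (fun i b => by
      obtain rfl : i = 0 := Subsingleton.elim _ _
      cases b <;> simp [pr]) (fun q hq => swap_apply_of_ne_of_ne (hout hq _) (hout hq _))
    rw [e, mem_alternatingGroup, pr,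
      sign_swap (show F.P.ψ (0, false) ≠ F.P.ψ (0, true) from F.P.ne_flip 0 false)] at hA
    exact absurd hA (by decide)
  · have e : H.p x = F.pr 0 * F.pr 1 := ext1 _ (fun i b => by
      fin_cases i <;> cases b <;>
        simp [pr, swap_apply_def, F.P.ψ.injective.eq_iff]) (fun q hq => by
      rw [Perm.mul_apply, pr, pr, swap_apply_of_ne_of_ne (hout hq _) (hout hq _),
        swap_apply_of_ne_of_ne (hout hq _) (hout hq _)])
    have hd : SpinAlt.IsDouble (H.p x) := by
      rw [e]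
      exact ⟨_, _, _, _, F.P.ne_flip 0 false, F.P.ne_flip 1 false, hne (by simp), hne (by simp),
        hne (by simp), hne (by simp), rfl⟩
    have := H.sq_of_double F.xz hd
    rw [F.xx] at this
    exact H.z_ne this.symm

theorem double_pr {i j : Fin m} (h : i ≠ j) : SpinAlt.IsDouble (F.pr i * F.pr j) := by
  have hne : ∀ {b c : Bool}, F.P.ψ (i, b) ≠ F.P.ψ (j, c) :=
    fun e => h (congrArg Prod.fst (F.P.ψ.injective e))
  exact ⟨_, _, _, _, F.P.ne_flip i false, F.P.ne_flip j false, hne, hne, hne, hne, rfl⟩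

theorem pr_apply (i k : Fin m) (b : Bool) :
    F.pr i (F.P.ψ (k, b)) = F.P.ψ (k, if k = i then !b else b) := by
  rcases eq_or_ne k i with rfl | h
  · cases b <;> simp [pr]
  · rw [if_neg h, pr, swap_apply_of_ne_of_ne] <;> exact fun e => h (congrArg Prod.fst (F.P.ψ.injective e))

theorem pr_out (i : Fin m) {q : Fin n} (hq : q ∉ Set.range F.P.ψ) : F.pr i q = q :=
  swap_apply_of_ne_of_ne (fun e => hq ⟨_, e.symm⟩) (fun e => hq ⟨_, e.symm⟩)

/-- Every point stays in its pair. -/
def Keeps (F : Frame H x m) (a : G) : Prop := ∀ q, H.p a q = q ∨ H.p a q = H.p x q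

theorem sx (F : Frame H x m) (q : Fin n) : H.p x (H.p x q) = q := by
  rw [← Perm.mul_apply, ← H.p_mul F.xz F.xz, F.xx, H.p_one, Perm.one_apply]

theorem pinv_apply (g : Perm (Fin n)) (q : Fin n) : g (g⁻¹ q) = q := by
  rw [← Perm.mul_apply, mul_inv_cancel, Perm.one_apply]

/-- The subgroup of those keeping every pair. -/
def keep (F : Frame H x m) : Subgroup G where
  carrier := {a | a ∈ both z x ∧ F.Keeps a}
  one_mem' := ⟨one_mem _, fun q => Or.inl (by rw [H.p_one, Perm.one_apply])⟩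
  mul_mem' := fun {a b} ha hb => ⟨mul_mem ha.1 hb.1, fun q => by
    rw [H.p_mul (mem_both.mp ha.1).1 (mem_both.mp hb.1).1, Perm.mul_apply]
    rcases hb.2 q with e | e <;> rw [e]
    · exact ha.2 q
    · rcases ha.2 (H.p x q) with e' | e' <;> rw [e']
      · exact Or.inr rfl
      · exact Or.inl (F.sx q)⟩
  inv_mem' := fun {a} ha => ⟨inv_mem ha.1, fun q => by
    rw [H.p_inv (mem_both.mp ha.1).1]
    rcases ha.2 ((H.p a)⁻¹ q) with e | e <;> rw [pinv_apply] at e
    · exact Or.inl e.symm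
    · refine Or.inr ?_
      conv_rhs => rw [e]
      rw [F.sx]⟩

theorem keep_conj {c a : G} (hc : c ∈ both z x) (ha : a ∈ F.keep) : c * a * c⁻¹ ∈ F.keep := by
  refine ⟨mul_mem (mul_mem hc ha.1) (inv_mem hc), fun q => ?_⟩
  have h1 := (mem_both.mp hc).1
  have h2 := (mem_both.mp ha.1).1
  rw [H.p_mul (Hyp.comm_mul h1 h2) (Hyp.comm_inv h1), H.p_mul h1 h2, H.p_inv h1, Perm.mul_apply,
    Perm.mul_apply]
  rcases ha.2 ((H.p c)⁻¹ q) with e | e <;> rw [e]
  · exact Or.inl (pinv_apply _ q)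
  · refine Or.inr ?_
    rw [← Perm.mul_apply, (F.comm_p hc).eq, Perm.mul_apply, pinv_apply]

theorem keep_two : IsPGroup 2 F.keep := fun a => ⟨2, Subtype.ext (by
  obtain ⟨hb, hk⟩ := a.2
  have h1 := (mem_both.mp hb).1
  have hsq : H.p ((a : G) * a) = 1 := Equiv.ext fun q => by
    rw [H.p_mul h1 h1, Perm.mul_apply, Perm.one_apply]
    rcases hk q with e | e <;> rw [e]
    · exact e
    · rw [← Perm.mul_apply, (F.comm_p hb).eq, Perm.mul_apply, e, F.sx]
  show (a : G) ^ 4 = 1
  rw [show 4 = 2 + 2 from rfl, pow_add, pow_two]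
  rcases H.eq_or_of_p_eq_one (Hyp.comm_mul h1 h1) hsq with e | e <;> rw [e]
  · rw [one_mul]
  · exact H.zz)⟩

theorem exists_pr_lift {i j : Fin m} (h : i ≠ j) :
    ∃ g ∈ F.keep, H.p g = F.pr i * F.pr j ∧ g * g = z := by
  classical
  have hd := F.double_pr h
  obtain ⟨g, hg, pg⟩ := H.exists_lift hd.mem_alt
  obtain ⟨r, hr, pr'⟩ := H.exists_lift (mul_mem hd.mem_alt (H.p_alt F.xz))
  have gg : g * g = z := H.sq_of_double hg (pg ▸ hd)
  have gr : g * r = r * g := by
    refine H.commute_of_disjoint hg hr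
      (S := {F.P.ψ (i, false), F.P.ψ (i, true), F.P.ψ (j, false), F.P.ψ (j, true)}) ?_ ?_
    · intro q hq
      rw [mem_support, pg] at hq
      by_contra hS
      simp only [Finset.mem_insert, Finset.mem_singleton, not_or] at hS
      refine hq ?_
      rw [Perm.mul_apply, Frame.pr, Frame.pr, swap_apply_of_ne_of_ne hS.2.2.1 hS.2.2.2,
        swap_apply_of_ne_of_ne hS.1 hS.2.1]
    · rw [Finset.disjoint_right]
      intro q hq
      rw [notMem_support, pr', Perm.mul_apply]
      simp only [Finset.mem_insert, Finset.mem_singleton] at hq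
      rcases hq with rfl | rfl | rfl | rfl <;>
        rw [F.P.act, Perm.mul_apply, F.pr_apply, F.pr_apply] <;> simp [h, h.symm]
  refine ⟨g, ⟨mem_both.mpr ⟨hg, ?_⟩, fun q => ?_⟩, pg, gg⟩
  · have hp2 : (F.pr i * F.pr j) * (F.pr i * F.pr j) = 1 := by
      rw [← pg, ← H.p_mul hg hg, gg, H.p_z]
    have hx' : H.p (g * r) = H.p x := by rw [H.p_mul hg hr, pg, pr', ← mul_assoc, hp2, one_mul]
    rcases H.eq_or_of_p_eq F.xz (Hyp.comm_mul hg hr) hx'.symm with e | e <;> rw [e]
    · rw [mul_assoc, ← gr, ← mul_assoc]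
    · calc g * (g * r * z) = g * (r * g) * z := by rw [← gr]; group
        _ = g * r * (g * z) := by group
        _ = g * r * (z * g) := by rw [hg]
        _ = g * r * z * g := by group
  · rw [pg, Perm.mul_apply]
    by_cases hq : q ∈ Set.range F.P.ψ
    · obtain ⟨⟨k, b⟩, rfl⟩ := hq
      rw [F.pr_apply, F.pr_apply, F.P.act]
      rcases eq_or_ne k i with rfl | h1
      · exact Or.inr (by simp [h])
      rcases eq_or_ne k j with rfl | h2
      · exact Or.inr (by simp [h.symm])
      · exact Or.inl (by simp [h1, h2])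
    · exact Or.inl (by rw [F.pr_out _ hq, F.pr_out _ hq])

/-- The centre of the cover is a commutator in a normal two-subgroup. -/
theorem exists_commutator (F : Frame H x m) : ∃ M : Subgroup G, M ≤ both z x ∧ IsPGroup 2 M ∧
    (∀ c ∈ both z x, ∀ a ∈ M, c * a * c⁻¹ ∈ M) ∧ ∃ a ∈ M, ∃ b ∈ M, a * b * a⁻¹ * b⁻¹ = z := by
  have hm := F.three_le
  have h01 : (⟨0, by omega⟩ : Fin m) ≠ ⟨1, by omega⟩ := by simp [Fin.ext_iff]
  have h12 : (⟨1, by omega⟩ : Fin m) ≠ ⟨2, by omega⟩ := by simp [Fin.ext_iff]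
  have h02 : (⟨0, by omega⟩ : Fin m) ≠ ⟨2, by omega⟩ := by simp [Fin.ext_iff]
  obtain ⟨g, hg, pg, gg⟩ := F.exists_pr_lift h01
  obtain ⟨h, hh, ph, hh2⟩ := F.exists_pr_lift h12
  have cg := (mem_both.mp hg.1).1
  have ch := (mem_both.mp hh.1).1
  have gh : (g * h) * (g * h) = z := by
    refine H.sq_of_double (Hyp.comm_mul cg ch) ?_
    have e2 : ∀ i : Fin m, F.pr i * F.pr i = 1 := fun i => by rw [Frame.pr, swap_mul_self]
    rw [H.p_mul cg ch, pg, ph, mul_assoc, ← mul_assoc (F.pr ⟨1, by omega⟩) (F.pr ⟨1, by omega⟩), e2,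
      one_mul]
    exact F.double_pr h02
  refine ⟨F.keep, fun a ha => ha.1, F.keep_two, fun c hc a ha => F.keep_conj hc ha, g, hg, h, hh, ?_⟩
  have ig : g⁻¹ = g * z := inv_eq_of_mul_eq_one_right (by rw [← mul_assoc, gg, H.zz])
  have ih : h⁻¹ = h * z := inv_eq_of_mul_eq_one_right (by rw [← mul_assoc, hh2, H.zz])
  rw [ig, ih]
  calc g * h * (g * z) * (h * z) = g * h * g * (z * h) * z := by group
    _ = g * h * g * (h * z) * z := by rw [ch]
    _ = (g * h) * (g * h) * (z * z) := by group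
    _ = z := by rw [gh, H.zz, mul_one]

/-- The action on the pairs. -/
noncomputable def blocks (F : Frame H x m) : ↥(both z x) →* Perm (Fin m) where
  toFun a := F.P.blk (H.p a) (F.comm_p a.2)
  map_one' := by
    refine Equiv.ext fun i => ?_
    show (F.P.act' (H.p (1 : G)) _ (i, false)).1 = i
    simp only [H.p_one, F.P.act'_one, Perm.one_apply]
  map_mul' a b := by
    rw [← F.P.blk_mul]
    congr 1
    exact H.p_mul (mem_both.mp a.2).1 (mem_both.mp b.2).1

/-- The action on the points outside the pairs. -/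
noncomputable def outs (F : Frame H x m) : ↥(both z x) →* Perm {q // q ∉ Set.range F.P.ψ} where
  toFun a := F.P.offPerm (H.p a) (F.comm_p a.2)
  map_one' := Equiv.ext fun q => Subtype.ext (by
    show H.p (1 : G) q.1 = q.1
    rw [H.p_one, Perm.one_apply])
  map_mul' a b := Equiv.ext fun q => Subtype.ext (by
    show H.p ((a : G) * b) q.1 = H.p a (H.p b q.1)
    rw [H.p_mul (mem_both.mp a.2).1 (mem_both.mp b.2).1, Perm.mul_apply])

theorem exists_block_lift {ρ : Perm (Fin m)} (hρ : ρ.IsThreeCycle) :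
    ∃ c : ↥(both z x), F.blocks c = ρ := by
  have h3 : F.P.blockPerm ρ ^ 3 = 1 := by
    rw [F.P.blockPerm_pow, ← hρ.orderOf, pow_orderOf_eq_one]
    exact (F.P.blockPerm_pow (ρ := 1) 0).symm.trans (pow_zero _)
  have ho : Odd (orderOf (F.P.blockPerm ρ)) :=
    Odd.of_dvd_nat (by decide : Odd 3) (orderOf_dvd_of_pow_eq_one h3)
  obtain ⟨g, hg, pg, g3⟩ := H.exists_odd_lift ho
  have hgx : g * x = x * g := H.commute_of_odd hg F.xz ho g3 (by rw [pg]; exact F.P.blockPerm_comm ρ)
  refine ⟨⟨g, mem_both.mpr ⟨hg, hgx⟩⟩, ?_⟩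
  show F.P.blk (H.p g) _ = ρ
  simp only [pg]
  exact F.P.blk_blockPerm ρ

open scoped _root_.Classical in
theorem exists_out_lift {τ : Perm {q // q ∉ Set.range F.P.ψ}} (hτ : τ.IsThreeCycle) :
    ∃ c : ↥(both z x), F.outs c = τ ∧ H.p c = Equiv.Perm.ofSubtype τ := by
  classical
  have h3 : (Equiv.Perm.ofSubtype τ) ^ 3 = 1 := by
    rw [← map_pow, ← hτ.orderOf, pow_orderOf_eq_one, map_one]
  have ho : Odd (orderOf (Equiv.Perm.ofSubtype τ)) :=
    Odd.of_dvd_nat (by decide : Odd 3) (orderOf_dvd_of_pow_eq_one h3)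
  obtain ⟨g, hg, pg, g3⟩ := H.exists_odd_lift ho
  have hc : Commute (Equiv.Perm.ofSubtype τ) (H.p x) := by
    refine (show Equiv.Perm.Disjoint (Equiv.Perm.ofSubtype τ) (H.p x) from fun q => ?_).commute
    by_cases hq : q ∈ Set.range F.P.ψ
    · exact Or.inl (Equiv.Perm.ofSubtype_apply_of_not_mem τ (not_not.mpr hq))
    · exact Or.inr (F.P.fix q hq)
  have hgx : g * x = x * g := H.commute_of_odd hg F.xz ho g3 (by rw [pg]; exact hc)
  refine ⟨⟨g, mem_both.mpr ⟨hg, hgx⟩⟩, Equiv.ext fun q => Subtype.ext ?_, pg⟩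
  show H.p g q.1 = _
  rw [pg, Equiv.Perm.ofSubtype_apply_coe]

open scoped _root_.Classical in
/-- With five or more pairs, normal two-subgroups have their commutators in the centre of the cover. -/
theorem commutator_mem (F : Frame H x m) (hm : 5 ≤ m) {M : Subgroup G} (hM : M ≤ both z x)
    (h2 : IsPGroup 2 M) (hn : ∀ c ∈ both z x, ∀ a ∈ M, c * a * c⁻¹ ∈ M) {a b : G} (ha : a ∈ M)
    (hb : b ∈ M) : a * b * a⁻¹ * b⁻¹ = 1 ∨ a * b * a⁻¹ * b⁻¹ = z := by
  classical
  set MD := M.subgroupOf (both z x) with hMD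
  have hMD2 : IsPGroup 2 MD := h2.comap_subtype
  have conjMD : ∀ (c : ↥(both z x)), ∀ d ∈ MD, c * d * c⁻¹ ∈ MD := fun c d hd => hn _ c.2 _ hd
  have nb : ∀ c : Perm (Fin m), c.IsThreeCycle → ∀ σ ∈ MD.map F.blocks, c * σ * c⁻¹ ∈ MD.map F.blocks := by
    rintro c hc _ ⟨d, hd, rfl⟩
    obtain ⟨g, rfl⟩ := F.exists_block_lift hc
    exact ⟨g * d * g⁻¹, conjMD g d hd, by rw [map_mul, map_mul, map_inv]⟩
  have no : ∀ c : Perm {q // q ∉ Set.range F.P.ψ}, c.IsThreeCycle → ∀ σ ∈ MD.map F.outs,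
      c * σ * c⁻¹ ∈ MD.map F.outs := by
    rintro c hc _ ⟨d, hd, rfl⟩
    obtain ⟨g, rfl, -⟩ := F.exists_out_lift hc
    exact ⟨g * d * g⁻¹, conjMD g d hd, by rw [map_mul, map_mul, map_inv]⟩
  have hblk : ∀ d : ↥(both z x), d ∈ MD → F.blocks d = 1 := fun d hd =>
    Subgroup.mem_bot.mp (two_group_trivial (by rwa [Fintype.card_fin]) _ (hMD2.map _) nb ▸
      Subgroup.mem_map_of_mem _ hd)
  let A : ↥(both z x) := ⟨a, hM ha⟩
  let B : ↥(both z x) := ⟨b, hM hb⟩
  have hA : A ∈ MD := ha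
  have hB : B ∈ MD := hb
  have ea := (mem_both.mp (hM ha)).1
  have eb := (mem_both.mp (hM hb)).1
  have hab : H.p a * H.p b = H.p b * H.p a := by
    refine F.P.ext_of ((F.comm_p (hM ha)).mul_left (F.comm_p (hM hb)))
      ((F.comm_p (hM hb)).mul_left (F.comm_p (hM ha))) ?_ ?_
    · rw [F.P.act'_mul (F.comm_p (hM ha)) (F.comm_p (hM hb)),
        F.P.act'_mul (F.comm_p (hM hb)) (F.comm_p (hM ha))]
      exact F.P.act'_comm_of_blk _ _ (hblk A hA) (hblk B hB)
    · have := two_group_comm _ (hMD2.map F.outs) no (Subgroup.mem_map_of_mem F.outs hA)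
        (Subgroup.mem_map_of_mem F.outs hB)
      refine Equiv.ext fun q => Subtype.ext ?_
      exact congrArg Subtype.val (DFunLike.congr_fun this q)
  refine H.eq_or_of_p_eq_one (Hyp.comm_mul (Hyp.comm_mul (Hyp.comm_mul ea eb) (Hyp.comm_inv ea))
    (Hyp.comm_inv eb)) ?_
  rw [H.p_mul (Hyp.comm_mul (Hyp.comm_mul ea eb) (Hyp.comm_inv ea)) (Hyp.comm_inv eb),
    H.p_mul (Hyp.comm_mul ea eb) (Hyp.comm_inv ea), H.p_mul ea eb, H.p_inv ea, H.p_inv eb, hab]
  group

/-- The covering map on the group commuting with both. -/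
noncomputable def cov (F : Frame H x m) : ↥(both z x) →* Perm (Fin n) where
  toFun a := H.p a
  map_one' := H.p_one
  map_mul' a b := H.p_mul (mem_both.mp a.2).1 (mem_both.mp b.2).1

open scoped _root_.Classical in
theorem z_mem_derived (F : Frame H x m) (hoff : 2 * m + 5 ≤ n) (j : ℕ) :
    (⟨z, mem_both.mpr ⟨rfl, F.xz.symm⟩⟩ : ↥(both z x)) ∈ derivedSeries ↥(both z x) j := by
  classical
  have hcard : 5 ≤ Fintype.card {q // q ∉ Set.range F.P.ψ} := by
    rw [Fintype.card_subtype_compl, Fintype.card_fin,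
      show Fintype.card {q // q ∈ Set.range F.P.ψ} = 2 * m from ?_]
    · omega
    rw [show Fintype.card {q // q ∈ Set.range F.P.ψ} = Fintype.card (Set.range F.P.ψ) from rfl,
      Set.card_range_of_injective F.P.ψ.injective, Fintype.card_prod, Fintype.card_fin, Fintype.card_bool]
    omega
  set A := (alternatingGroup {q // q ∉ Set.range F.P.ψ}).map
    (Equiv.Perm.ofSubtype (p := fun q => q ∉ Set.range F.P.ψ)) with hA
  have hle : ∀ j, A ≤ (derivedSeries ↥(both z x) j).map F.cov := by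
    intro j
    induction j with
    | zero =>
      rw [hA, ← closure_three_cycles_eq_alternating, MonoidHom.map_closure, Subgroup.closure_le]
      rintro _ ⟨τ, hτ, rfl⟩
      obtain ⟨c, -, hc⟩ := F.exists_out_lift hτ
      exact ⟨c, Subgroup.mem_top c, hc⟩
    | succ j ih =>
      rw [derivedSeries_succ, Subgroup.map_commutator]
      refine le_trans ?_ (Subgroup.commutator_mono ih ih)
      rw [hA, ← Subgroup.map_commutator,
        commutator_alternatingGroup_eq_self (by rwa [Nat.card_eq_fintype_card])]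
  cases j with
  | zero => exact Subgroup.mem_top _
  | succ j =>
    obtain ⟨e⟩ := Function.Embedding.nonempty_of_card_le
      (show Fintype.card (Fin 4) ≤ Fintype.card {q // q ∉ Set.range F.P.ψ} by rw [Fintype.card_fin]; omega)
    set a := e 0; set b := e 1; set c := e 2; set d := e 3
    have ne : ∀ {i k : Fin 4}, i ≠ k → e i ≠ e k := fun h h' => h (e.injective h')
    have ne' : ∀ {i k : Fin 4}, i ≠ k → (e i).1 ≠ (e k).1 := fun h h' => ne h (Subtype.ext h')
    obtain ⟨g, hg, pg⟩ := hle j (Subgroup.mem_map_of_mem _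
      (SpinAlt.IsDouble.mem_alt ⟨a, b, c, d, ne (by decide), ne (by decide), ne (by decide),
        ne (by decide), ne (by decide), ne (by decide), rfl⟩))
    obtain ⟨h, hh, ph⟩ := hle j (Subgroup.mem_map_of_mem _
      (SpinAlt.IsDouble.mem_alt ⟨a, c, b, d, ne (by decide), ne (by decide), ne (by decide),
        ne (by decide), ne (by decide), ne (by decide), rfl⟩))
    rw [map_mul, ofSubtype_swap_eq, ofSubtype_swap_eq] at pg ph
    have key := H.not_commute_double (ne' (show (0 : Fin 4) ≠ 1 by decide))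
      (ne' (show (2 : Fin 4) ≠ 3 by decide)) (ne' (show (0 : Fin 4) ≠ 2 by decide))
      (ne' (show (0 : Fin 4) ≠ 3 by decide)) (ne' (show (1 : Fin 4) ≠ 2 by decide))
      (ne' (show (1 : Fin 4) ≠ 3 by decide)) (mem_both.mp g.2).1 (mem_both.mp h.2).1 pg ph
    have : (⟨z, mem_both.mpr ⟨rfl, F.xz.symm⟩⟩ : ↥(both z x)) = ⁅g, h⁆ := Subtype.ext key.symm
    rw [this, derivedSeries_succ]
    exact Subgroup.commutator_mem_commutator hg hh

/-- With at most four pairs the second involution leaves the derived series. -/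
theorem exists_not_mem_derived (F : Frame H x m) (hm : m ≤ 4) :
    ∃ j, (⟨x, mem_both.mpr ⟨F.xz, rfl⟩⟩ : ↥(both z x)) ∉ derivedSeries ↥(both z x) j := by
  haveI : Group.IsSolvable (Perm (Fin m)) :=
    CfsgLib.SmallPerm.isSolvable_perm_card_le_four (by rwa [Fintype.card_fin])
  obtain ⟨i, hi⟩ := (Group.isSolvable_def (Perm (Fin m))).mp inferInstance
  let act : ↥(both z x) →* Perm (Fin m × Bool) :=
    { toFun := fun a => F.P.act' (H.p a) (F.comm_p a.2)
      map_one' := by simp only [Subgroup.coe_one, H.p_one]; exact F.P.act'_one _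
      map_mul' := fun a b => by
        rw [← F.P.act'_mul]
        congr 1
        exact H.p_mul (mem_both.mp a.2).1 (mem_both.mp b.2).1 }
  have hblk : ∀ d ∈ derivedSeries ↥(both z x) i, F.blocks d = 1 := fun d hd =>
    Subgroup.mem_bot.mp (hi ▸ map_derivedSeries_le_derivedSeries F.blocks i (Subgroup.mem_map_of_mem _ hd))
  have hcomm : (derivedSeries ↥(both z x) (i + 1)).map act = ⊥ := by
    rw [derivedSeries_succ, Subgroup.map_commutator, Subgroup.commutator_eq_bot_iff_le_centralizer]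
    rintro _ ⟨a, ha, rfl⟩
    rw [Subgroup.mem_centralizer_iff]
    rintro _ ⟨b, hb, rfl⟩
    exact F.P.act'_comm_of_blk _ _ (hblk b hb) (hblk a ha)
  refine ⟨i + 1, fun hx => ?_⟩
  have h1 : act ⟨x, mem_both.mpr ⟨F.xz, rfl⟩⟩ = 1 :=
    Subgroup.mem_bot.mp (hcomm ▸ Subgroup.mem_map_of_mem act hx)
  have h2 := F.P.act'_spec (H.p x) (F.comm_p (mem_both.mpr ⟨F.xz, rfl⟩))
    (⟨0, by have := F.three_le; omega⟩, false)
  rw [show F.P.act' (H.p x) _ = 1 from h1, Perm.one_apply, F.P.act] at h2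
  exact F.P.ne_flip _ _ h2

end Frame

/-- On thirteen points or more the two involutions are not conjugate. -/
theorem false_of_large (hn : 13 ≤ n) (H : Hyp n z) (K : Hyp n x) (xz : x * z = z * x) (hne : x ≠ z) :
    False := by
  obtain ⟨m, ⟨F⟩⟩ := exists_frame H xz K.zz hne K.z_ne
  obtain ⟨m', ⟨F'⟩⟩ := exists_frame K xz.symm H.zz hne.symm H.z_ne
  rcases Nat.lt_or_ge m 5 with hm | hm
  · rcases Nat.lt_or_ge m' 5 with hm' | hm'
    · obtain ⟨j, hj⟩ := F'.exists_not_mem_derived (by omega)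
      have h := F.z_mem_derived (by omega) j
      let e : ↥(both z x) ≃* ↥(both x z) := MulEquiv.subgroupCongr both_comm
      have := map_derivedSeries_le_derivedSeries e.toMonoidHom j (Subgroup.mem_map_of_mem _ h)
      exact hj this
    · obtain ⟨M, hM, h2, hn', a, ha, b, hb, hab⟩ := F.exists_commutator
      rw [both_comm] at hM hn'
      rcases F'.commutator_mem hm' hM h2 hn' ha hb with e | e <;> rw [hab] at e
      · exact H.z_ne e
      · exact hne e.symm
  · obtain ⟨M, hM, h2, hn', a, ha, b, hb, hab⟩ := F'.exists_commutator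
    rw [both_comm] at hM hn'
    rcases F.commutator_mem hm hM h2 hn' ha hb with e | e <;> rw [hab] at e
    · exact K.z_ne e
    · exact hne e

end CfsgLib.SpinCent
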