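import Cfsg.Agent.Lib.SpinCent.CaseA
import Cfsg.Agent.Lib.SpinCent.CaseB

/-!
# A centraliser covering an alternating group twice: the degree
-/

set_option autoImplicit false
set_option linter.unusedSectionVars false
set_option linter.style.haveILetI false

namespace CfsgLib.SpinCent

variable {G : Type*} [Group G] [Finite G] [IsSimpleGroup G] {n : ℕ} {z : G}

/-- Nine and ten points do not occur. -/
theorem false_of_nine_ten (H : Hyp n z) (h9 : 9 ≤ n) (h10 : n ≤ 10) : False := by
  obtain ⟨x, ⟨S⟩⟩ := exists_std H h9 h10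
  by_cases hA : ∀ g : G, g * S.c₁ = S.c₁ * g → g * S.c₂ = S.c₂ * g → g * S.c₃ = S.c₃ * g → g * z = z * g
  · exact false_of_caseA S hA
  · push Not at hA
    obtain ⟨g, h1, h2, h3, hgz⟩ := hA
    exact false_of_caseB S h1 h2 h3 hgz

/-- The degree is eight or eleven. -/
theorem degree_eq (H : Hyp n z) : n = 8 ∨ n = 11 := by
  obtain ⟨h8, h12⟩ := degree_bounds H
  by_contra hne
  push Not at hne
  rcases (show (9 ≤ n ∧ n ≤ 10) ∨ n = 12 by omega) with ⟨h9, h10⟩ | rfl
  · exact false_of_nine_ten H h9 h10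
  · obtain ⟨g, hg, hgne⟩ := exists_commuting H
    obtain ⟨K⟩ := H.conj g
    exact false_of_twelve H K hg hgne

end CfsgLib.SpinCent
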