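import Cfsg.Agent.Lib.SpinCent.Cover

/-!
# The pairs moved by an involution of the cover, and the group commuting with two involutions
-/

set_option autoImplicit false
set_option linter.unusedSectionVars false
set_option linter.style.haveILetI false

namespace CfsgLib.SpinCent

open Equiv Equiv.Perm

variable {n m : ℕ}

/-- The transpositions of a permutation of order two, numbered. -/
structure Pairs (s : Perm (Fin n)) (m : ℕ) where
  ψ : Fin m × Bool ↪ Fin n
  act : ∀ i b, s (ψ (i, b)) = ψ (i, !b)
  fix : ∀ q, q ∉ Set.range ψ → s q = q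

theorem exists_pairs {s : Perm (Fin n)} (hs : s * s = 1) : ∃ m, Nonempty (Pairs s m) := by
  classical
  set S := Finset.univ.filter (fun i => i < s i) with hS
  have hss : ∀ q, s (s q) = q := fun q => by rw [← Perm.mul_apply, hs, Perm.one_apply]
  let e := S.orderIsoOfFin rfl
  have hlt : ∀ i, (e i).1 < s (e i).1 := fun i => (Finset.mem_filter.mp (e i).2).2
  refine ⟨S.card, ⟨{ ψ := ⟨fun p => bif p.2 then s (e p.1).1 else (e p.1).1, ?_⟩, act := ?_, fix := ?_ }⟩⟩
  · rintro ⟨i, b⟩ ⟨j, c⟩ h
    cases b <;> cases c <;> dsimp only [cond_true, cond_false] at h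
    · exact Prod.ext (e.injective (Subtype.ext h)) rfl
    · exfalso
      have h1 := hlt i; rw [h, hss] at h1
      exact lt_asymm (hlt j) h1
    · exfalso
      have h1 := hlt j; rw [← h, hss] at h1
      exact lt_asymm (hlt i) h1
    · exact Prod.ext (e.injective (Subtype.ext (s.injective h))) rfl
  · intro i b
    cases b
    · rfl
    · show s (s (e i).1) = (e i).1
      exact hss _
  · intro q hq
    by_contra hne
    rcases lt_or_gt_of_ne hne with h | h
    · refine hq ⟨(e.symm ⟨s q, Finset.mem_filter.mpr ⟨Finset.mem_univ _, by rw [hss]; exact h⟩⟩, true), ?_⟩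
      show s (e (e.symm _)).1 = q
      rw [OrderIso.apply_symm_apply]
      exact hss q
    · refine hq ⟨(e.symm ⟨q, Finset.mem_filter.mpr ⟨Finset.mem_univ _, h⟩⟩, false), ?_⟩
      show (e (e.symm _)).1 = q
      rw [OrderIso.apply_symm_apply]

namespace Pairs

variable {s : Perm (Fin n)} (P : Pairs s m)

theorem card_le (P : Pairs s m) : 2 * m ≤ n := by
  have := Fintype.card_le_of_embedding P.ψ
  simp only [Fintype.card_prod, Fintype.card_fin, Fintype.card_bool] at this
  omega

theorem ne_flip (i : Fin m) (b : Bool) : P.ψ (i, b) ≠ P.ψ (i, !b) := fun h => by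
  have := congrArg Prod.snd (P.ψ.injective h); simp at this

theorem mem_range_iff (q : Fin n) : q ∈ Set.range P.ψ ↔ s q ≠ q := by
  constructor
  · rintro ⟨⟨i, b⟩, rfl⟩; rw [P.act]; exact (P.ne_flip i b).symm
  · intro h; by_contra hq; exact h (P.fix q hq)

theorem range_inv {a : Perm (Fin n)} (ha : Commute a s) (q : Fin n) :
    a q ∈ Set.range P.ψ ↔ q ∈ Set.range P.ψ := by
  rw [P.mem_range_iff, P.mem_range_iff, ← Perm.mul_apply, ← ha.eq, Perm.mul_apply]
  exact a.injective.ne_iff

/-- The action on the numbered points. -/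
noncomputable def act' (a : Perm (Fin n)) (ha : Commute a s) : Perm (Fin m × Bool) :=
  Equiv.ofBijective (fun p => ((P.range_inv ha (P.ψ p)).mpr ⟨p, rfl⟩).choose) (by
    refine Finite.injective_iff_bijective.mp fun p p' h => ?_
    have e1 := ((P.range_inv ha (P.ψ p)).mpr ⟨p, rfl⟩).choose_spec
    have e2 := ((P.range_inv ha (P.ψ p')).mpr ⟨p', rfl⟩).choose_spec
    rw [show _ = _ from h] at e1
    exact P.ψ.injective (a.injective (e1.symm.trans e2)))

theorem act'_spec (a : Perm (Fin n)) (ha : Commute a s) (p : Fin m × Bool) :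
    P.ψ (P.act' a ha p) = a (P.ψ p) :=
  ((P.range_inv ha (P.ψ p)).mpr ⟨p, rfl⟩).choose_spec

/-- The exchange of the two points in every pair. -/
def flip (m : ℕ) : Perm (Fin m × Bool) :=
  (Equiv.refl (Fin m)).prodCongr ⟨(!·), (!·), Bool.not_not, Bool.not_not⟩

theorem flip_apply (p : Fin m × Bool) : flip m p = (p.1, !p.2) := rfl

theorem act'_comm (a : Perm (Fin n)) (ha : Commute a s) (p : Fin m × Bool) :
    P.act' a ha (p.1, !p.2) = ((P.act' a ha p).1, !(P.act' a ha p).2) := by
  apply P.ψ.injective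
  rw [P.act'_spec, ← P.act p.1 p.2, ← Perm.mul_apply, ha.eq, Perm.mul_apply, ← P.act'_spec a ha, P.act]

/-- A permutation of the blocks, as a permutation of the points. -/
noncomputable def blockPerm (ρ : Perm (Fin m)) : Perm (Fin n) :=
  Equiv.Perm.viaEmbedding (ρ.prodCongr (Equiv.refl Bool)) P.ψ

theorem blockPerm_apply (ρ : Perm (Fin m)) (i : Fin m) (b : Bool) :
    P.blockPerm ρ (P.ψ (i, b)) = P.ψ (ρ i, b) := by
  rw [blockPerm, viaEmbedding_apply]; rfl

theorem blockPerm_out (ρ : Perm (Fin m)) {q : Fin n} (hq : q ∉ Set.range P.ψ) :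
    P.blockPerm ρ q = q :=
  viaEmbedding_apply_of_notMem _ _ _ hq

theorem blockPerm_comm (ρ : Perm (Fin m)) : Commute (P.blockPerm ρ) s := by
  refine Equiv.ext fun q => ?_
  simp only [Perm.mul_apply]
  by_cases hq : q ∈ Set.range P.ψ
  · obtain ⟨⟨i, b⟩, rfl⟩ := hq
    rw [P.act, P.blockPerm_apply, P.blockPerm_apply, P.act]
  · rw [P.fix q hq, P.blockPerm_out ρ hq, P.fix q hq]

theorem blockPerm_pow {ρ : Perm (Fin m)} (k : ℕ) : P.blockPerm ρ ^ k = P.blockPerm (ρ ^ k) := by
  induction k with
  | zero =>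
    refine Equiv.ext fun q => ?_
    by_cases hq : q ∈ Set.range P.ψ
    · obtain ⟨⟨i, b⟩, rfl⟩ := hq
      rw [P.blockPerm_apply]; simp
    · rw [P.blockPerm_out _ hq]; simp
  | succ k ih =>
    refine Equiv.ext fun q => ?_
    rw [pow_succ, ih, Perm.mul_apply]
    by_cases hq : q ∈ Set.range P.ψ
    · obtain ⟨⟨i, b⟩, rfl⟩ := hq
      rw [P.blockPerm_apply, P.blockPerm_apply, P.blockPerm_apply, pow_succ, Perm.mul_apply]
    · rw [P.blockPerm_out _ hq, P.blockPerm_out _ hq, P.blockPerm_out _ hq]

/-- The permutation of the points outside the pairs. -/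
noncomputable def offPerm (a : Perm (Fin n)) (ha : Commute a s) : Perm {q // q ∉ Set.range P.ψ} :=
  a.subtypePerm fun q => not_congr (P.range_inv ha q)

theorem ext_of {a b : Perm (Fin n)} (ha : Commute a s) (hb : Commute b s)
    (h1 : P.act' a ha = P.act' b hb) (h2 : P.offPerm a ha = P.offPerm b hb) : a = b := by
  refine Equiv.ext fun q => ?_
  by_cases hq : q ∈ Set.range P.ψ
  · obtain ⟨p, rfl⟩ := hq
    rw [← P.act'_spec a ha, ← P.act'_spec b hb, h1]
  · exact congrArg Subtype.val (DFunLike.congr_fun h2 ⟨q, hq⟩)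

theorem act'_one (h : Commute (1 : Perm (Fin n)) s) : P.act' 1 h = 1 :=
  Equiv.ext fun p => P.ψ.injective (by rw [P.act'_spec]; rfl)

theorem act'_mul {a b : Perm (Fin n)} (ha : Commute a s) (hb : Commute b s) :
    P.act' (a * b) (ha.mul_left hb) = P.act' a ha * P.act' b hb :=
  Equiv.ext fun p => P.ψ.injective (by
    rw [P.act'_spec, Perm.mul_apply, Perm.mul_apply, P.act'_spec, P.act'_spec])

/-- The permutation of the blocks. -/
noncomputable def blk (a : Perm (Fin n)) (ha : Commute a s) : Perm (Fin m) :=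
  Equiv.ofBijective (fun i => (P.act' a ha (i, false)).1) (by
    refine Finite.injective_iff_bijective.mp fun i j h => ?_
    rcases Bool.eq_or_eq_not (P.act' a ha (i, false)).2 (P.act' a ha (j, false)).2 with e | e
    · exact congrArg Prod.fst ((P.act' a ha).injective (Prod.ext h e))
    · have : P.act' a ha (i, false) = P.act' a ha (j, !false) := by
        rw [P.act'_comm a ha (j, false)]; exact Prod.ext h e
      exact congrArg Prod.fst ((P.act' a ha).injective this))

theorem blk_spec (a : Perm (Fin n)) (ha : Commute a s) (p : Fin m × Bool) :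
    (P.act' a ha p).1 = P.blk a ha p.1 := by
  obtain ⟨i, b⟩ := p
  cases b
  · rfl
  · exact (congrArg Prod.fst (show P.act' a ha (i, true) = _ from P.act'_comm a ha (i, false))).trans rfl

theorem blk_mul {a b : Perm (Fin n)} (ha : Commute a s) (hb : Commute b s) :
    P.blk (a * b) (ha.mul_left hb) = P.blk a ha * P.blk b hb := by
  refine Equiv.ext fun i => ?_
  show (P.act' (a * b) (ha.mul_left hb) (i, false)).1 = P.blk a ha (P.act' b hb (i, false)).1
  rw [P.act'_mul ha hb, Perm.mul_apply, P.blk_spec a ha]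

theorem blk_blockPerm (ρ : Perm (Fin m)) : P.blk (P.blockPerm ρ) (P.blockPerm_comm ρ) = ρ := by
  refine Equiv.ext fun i => ?_
  show (P.act' _ _ (i, false)).1 = ρ i
  rw [show P.act' (P.blockPerm ρ) (P.blockPerm_comm ρ) (i, false) = (ρ i, false) from
    P.ψ.injective (by rw [P.act'_spec, P.blockPerm_apply])]

/-- Permutations fixing every pair commute on the pairs. -/
theorem act'_comm_of_blk {a b : Perm (Fin n)} (ha : Commute a s) (hb : Commute b s)
    (h1 : P.blk a ha = 1) (h2 : P.blk b hb = 1) :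
    P.act' a ha * P.act' b hb = P.act' b hb * P.act' a ha := by
  refine Equiv.ext fun p => ?_
  have key : ∀ (c : Perm (Fin n)) (hc : Commute c s), P.blk c hc = 1 → ∀ q : Fin m × Bool,
      P.act' c hc q = q ∨ P.act' c hc q = (q.1, !q.2) := fun c hc hb1 q => by
    have e := P.blk_spec c hc q
    rw [hb1, Perm.one_apply] at e
    rcases Bool.eq_or_eq_not (P.act' c hc q).2 q.2 with e' | e'
    · exact Or.inl (Prod.ext e e')
    · exact Or.inr (Prod.ext e e')
  simp only [Perm.mul_apply]
  rcases key b hb h2 p with e | e <;> rcases key a ha h1 p with e' | e' <;>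
    simp [e, e', P.act'_comm a ha p, P.act'_comm b hb p]

end Pairs

end CfsgLib.SpinCent
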