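import Cfsg.Agent.Lib.SpinCent.Four
import Cfsg.Agent.Lib.SpinAlt.Refl

/-!
# The standard position of the second involution on nine or ten points

The points are renamed so that the second involution induces `(03)(14)(25)(67)`.
-/

set_option autoImplicit false
set_option linter.unusedSectionVars false
set_option linter.style.haveILetI false

namespace CfsgLib.SpinCent

open Equiv Equiv.Perm

/-- The first nine points. -/
def nineEquiv {n : ℕ} (h : 9 ≤ n) : Fin 9 ≃ {i : Fin n // (i : ℕ) < 9} where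
  toFun i := ⟨i.castLE h, i.2⟩
  invFun i := ⟨i.1, i.2⟩
  left_inv _ := rfl
  right_inv _ := rfl

/-- Permutations of the first nine points. -/
def emb {n : ℕ} (h : 9 ≤ n) : Perm (Fin 9) →* Perm (Fin n) :=
  Equiv.Perm.extendDomainHom (nineEquiv h)

/-- What the second involution induces. -/
def permX : Perm (Fin 9) := swap 0 3 * swap 1 4 * swap 2 5 * swap 6 7

/-- The three-cycle `(0 1 2)`. -/
def permA : Perm (Fin 9) := swap 0 1 * swap 1 2

/-- The three-cycle `(3 4 5)`. -/
def permB : Perm (Fin 9) := swap 3 4 * swap 4 5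

/-- The three-cycle `(6 7 8)`. -/
def permC : Perm (Fin 9) := swap 6 7 * swap 7 8

/-- The double transposition inverting the first two three-cycles. -/
def permD : Perm (Fin 9) := swap 1 2 * swap 4 5

theorem emb_injective {n : ℕ} (h : 9 ≤ n) : Function.Injective (emb h) :=
  Equiv.Perm.extendDomainHom_injective _

theorem emb_apply {n : ℕ} (h : 9 ≤ n) (σ : Perm (Fin 9)) (i : Fin 9) :
    emb h σ (i.castLE h) = (σ i).castLE h :=
  Equiv.Perm.extendDomain_apply_image σ (nineEquiv h) i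

theorem emb_apply_out {n : ℕ} (h : 9 ≤ n) (σ : Perm (Fin 9)) {q : Fin n} (hq : ¬ (q : ℕ) < 9) :
    emb h σ q = q :=
  Equiv.Perm.extendDomain_apply_not_subtype σ (nineEquiv h) hq

theorem sign_emb {n : ℕ} (h : 9 ≤ n) (σ : Perm (Fin 9)) : sign (emb h σ) = sign σ :=
  Equiv.Perm.sign_extendDomain σ (nineEquiv h)

variable {G : Type*} [Group G] [Finite G]

/-- The configuration on nine or ten points. -/
structure Std (n : ℕ) (z x : G) where
  h9 : 9 ≤ n
  h10 : n ≤ 10
  H : Hyp n z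
  xz : x * z = z * x
  xx : x * x = 1
  ne_z : x ≠ z
  ne_one : x ≠ 1
  px : H.p x = emb h9 permX
  conj : IsConj z x
  fused : ∀ u : G, u * z = z * u → u * u = 1 → u ≠ 1 → u ≠ z →
    ∃ k : G, k * z = z * k ∧ k * x * k⁻¹ = u
  c₁ : G
  c₂ : G
  c₃ : G
  comm₁ : c₁ * z = z * c₁
  comm₂ : c₂ * z = z * c₂
  comm₃ : c₃ * z = z * c₃
  p₁ : H.p c₁ = emb h9 permA
  p₂ : H.p c₂ = emb h9 permB
  p₃ : H.p c₃ = emb h9 permC
  cube₁ : c₁ ^ 3 = 1
  cube₂ : c₂ ^ 3 = 1
  cube₃ : c₃ ^ 3 = 1

end CfsgLib.SpinCent
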