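import Cfsg.Agent.Lib.SpinCent.Std

/-!
# The standard position is attained
-/

set_option autoImplicit false
set_option linter.unusedSectionVars false
set_option linter.style.haveILetI false

namespace CfsgLib.SpinCent

open Equiv Equiv.Perm

variable {G : Type*} [Group G] {n m : ℕ} {z x : G}

theorem ker_conj {K : Type*} [Group K] (σ : Perm (Fin n)) (f : K →* Perm (Fin n)) :
    ((MulAut.conj σ).toMonoidHom.comp f).ker = f.ker := by
  ext g
  exact (MulAut.conj σ).map_eq_one_iff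

/-- Renaming the points. -/
noncomputable def Hyp.relabel (H : Hyp n z) (σ : Perm (Fin n)) : Hyp n z where
  hom := (MulAut.conj σ).toMonoidHom.comp H.hom
  cover :=
    { five := H.cover.five
      range := by
        rw [MonoidHom.range_comp, H.cover.range]
        ext g
        rw [Subgroup.mem_map_equiv, mem_alternatingGroup, mem_alternatingGroup,
          MulAut.conj_symm_apply, map_mul, map_mul, map_inv, mul_right_comm, inv_mul_cancel, one_mul]
      central := by rw [ker_conj]; exact H.cover.central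
      card := by rw [ker_conj]; exact H.cover.card
      perfect := H.cover.perfect }
  ord := H.ord
  ker_z h := by
    show σ * H.hom ⟨z, h⟩ * σ⁻¹ = 1
    rw [H.ker_z h, mul_one, mul_inv_cancel]

theorem Hyp.relabel_p (H : Hyp n z) (σ : Perm (Fin n)) {g : G} (hg : g * z = z * g) :
    (H.relabel σ).p g = σ * H.p g * σ⁻¹ := by
  rw [Hyp.p_eq _ (mem_cent.mpr hg), H.p_eq (mem_cent.mpr hg)]
  rfl

variable [Finite G]

theorem cycleType_permX (h : 9 ≤ n) : (emb h permX).cycleType = Multiset.replicate 4 2 := by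
  rw [show (emb h permX).cycleType = permX.cycleType from cycleType_extendDomain _,
    SpinAlt.cycleType_of_mul_self (show permX * permX = 1 by decide +kernel),
    show permX.support.card = 8 by decide +kernel]

/-- A second involution induces four transpositions. -/
theorem Frame.cycleType_eq {H : Hyp n z} (F : Frame H x m) (hn : n ≤ 12) :
    (H.p x).cycleType = Multiset.replicate 4 2 := by
  have hm := F.four_eq hn
  rw [SpinAlt.cycleType_of_mul_self (by rw [← H.p_mul F.xz F.xz, F.xx, H.p_one]), F.card_support, hm]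

/-- A lift exchanging a second involution with its product by `z`. -/
theorem exists_swap_lift (H : Hyp n z) (h : 9 ≤ n) (xz : x * z = z * x) (px : H.p x = emb h permX) :
    ∃ d : G, d * z = z * d ∧ H.p d = emb h permD ∧ d * x * d⁻¹ = x * z := by
  have hA : ∀ σ : Perm (Fin 9), sign σ = 1 → emb h σ ∈ alternatingGroup (Fin n) := fun σ hs => by
    rw [mem_alternatingGroup, sign_emb, hs]
  obtain ⟨d, hd, pd⟩ := H.exists_lift (hA permD (by decide +kernel))
  obtain ⟨g, hg, pg⟩ := H.exists_lift (hA (swap 1 4 * swap 2 5) (by decide +kernel))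
  obtain ⟨g', hg', pg'⟩ := H.exists_lift (hA (swap 0 3 * swap 6 7) (by decide +kernel))
  refine ⟨d, hd, pd, ?_⟩
  have e1 : g * d * g⁻¹ * d⁻¹ = z := by
    have hne : ∀ i j : Fin 9, i ≠ j → i.castLE h ≠ j.castLE h := fun i j hij e => hij (Fin.castLE_injective h e)
    have hsw : ∀ i j : Fin 9, emb h (swap i j) = swap (i.castLE h) (j.castLE h) := fun i j => by
      refine Equiv.ext fun q => ?_
      by_cases hq : (q : ℕ) < 9
      · obtain ⟨a, rfl⟩ : ∃ a : Fin 9, a.castLE h = q := ⟨⟨q.1, hq⟩, rfl⟩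
        rw [emb_apply, swap_apply_def, swap_apply_def]
        simp only [(Fin.castLE_injective h).eq_iff]
        split_ifs <;> rfl
      · rw [emb_apply_out h _ hq, swap_apply_of_ne_of_ne] <;>
          intro e <;> exact hq (by rw [e]; simp only [Fin.val_castLE]; exact Fin.isLt _)
    refine H.not_commute_double (a := (1 : Fin 9).castLE h) (b := (4 : Fin 9).castLE h)
      (c := (2 : Fin 9).castLE h) (e := (5 : Fin 9).castLE h) (hne _ _ (by decide)) (hne _ _ (by decide))
      (hne _ _ (by decide)) (hne _ _ (by decide)) (hne _ _ (by decide)) (hne _ _ (by decide)) hg hd ?_ ?_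
    · rw [pg, map_mul, hsw, hsw]
    · rw [pd, permD, map_mul, hsw, hsw]
  have e2 : d * g' = g' * d := by
    refine H.commute_of_disjoint hd hg'
      (S := ({1, 2, 4, 5} : Finset (Fin 9)).map ⟨Fin.castLE h, Fin.castLE_injective h⟩) ?_ ?_
    · intro q hq
      rw [mem_support, pd] at hq
      by_cases h9 : (q : ℕ) < 9
      · obtain ⟨a, rfl⟩ : ∃ a : Fin 9, a.castLE h = q := ⟨⟨q.1, h9⟩, rfl⟩
        refine Finset.mem_map.mpr ⟨a, ?_, rfl⟩
        have hmv : ∀ a : Fin 9, permD a ≠ a → a ∈ ({1, 2, 4, 5} : Finset (Fin 9)) := by decide +kernel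
        exact hmv a fun e => hq (by rw [emb_apply, e])
      · exact absurd (emb_apply_out h _ h9) hq
    · rw [Finset.disjoint_left]
      intro q hq hS
      obtain ⟨a, ha, rfl⟩ := Finset.mem_map.mp hS
      rw [mem_support, pg', Function.Embedding.coeFn_mk, emb_apply, Ne, (Fin.castLE_injective h).eq_iff] at hq
      have hfx : ∀ a : Fin 9, a ∈ ({1, 2, 4, 5} : Finset (Fin 9)) → (swap 0 3 * swap 6 7 : Perm (Fin 9)) a = a := by
        decide +kernel
      exact hq (hfx a ha)
  have hgg := Hyp.comm_mul hg hg'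
  have key : d * (g * g') * d⁻¹ = g * g' * z := by
    have e4 : d * g * d⁻¹ = g * z := by
      have : d * g * d⁻¹ * g⁻¹ = z := by
        rw [show d * g * d⁻¹ * g⁻¹ = (g * d * g⁻¹ * d⁻¹)⁻¹ by group, e1, inv_eq_of_mul_eq_one_right H.zz]
      rw [hg]; exact mul_inv_eq_iff_eq_mul.mp this
    calc d * (g * g') * d⁻¹ = (d * g * d⁻¹) * (d * g' * d⁻¹) := by group
      _ = g * z * g' := by rw [e4, mul_inv_eq_iff_eq_mul.mpr e2]
      _ = _ := by rw [mul_assoc, ← hg', ← mul_assoc]
  rcases H.eq_or_of_p_eq xz hgg (by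
    rw [px, H.p_mul hg hg', pg, pg', ← map_mul]
    exact congrArg _ (by decide +kernel)) with e | e
  · rw [e]; exact key
  · rw [e, show d * (g * g' * z) * d⁻¹ = d * (g * g') * d⁻¹ * (d * z * d⁻¹) by group, key,
      mul_inv_eq_iff_eq_mul.mpr hd]

/-- The standard position. -/
theorem exists_std [IsSimpleGroup G] (H : Hyp n z) (h9 : 9 ≤ n) (h10 : n ≤ 10) :
    ∃ x : G, Nonempty (Std n z x) := by
  obtain ⟨g, hg, hne⟩ := exists_commuting H
  obtain ⟨K⟩ := H.conj g
  set x := g * z * g⁻¹ with hx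
  refine ⟨x, ?_⟩
  obtain ⟨m, ⟨F⟩⟩ := exists_frame H hg K.zz hne K.z_ne
  obtain ⟨σ, hσ⟩ := isConj_iff.mp (isConj_iff_cycleType_eq.mpr
    ((F.cycleType_eq (by omega)).trans (cycleType_permX h9).symm))
  set H' := H.relabel σ
  have px : H'.p x = emb h9 permX := by rw [H.relabel_p σ hg, hσ]
  have hA : ∀ s : Perm (Fin 9), s ^ 3 = 1 → s ≠ 1 → ∃ c : G, c * z = z * c ∧ H'.p c = emb h9 s ∧ c ^ 3 = 1 :=
    fun s hs hs1 => by
      have ho : orderOf (emb h9 s) = 3 := by
        rw [orderOf_injective _ (emb_injective h9), orderOf_eq_prime_iff]; exact ⟨hs, hs1⟩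
      obtain ⟨c, hc, pc, hp⟩ := H'.exists_odd_lift (s := emb h9 s) (by rw [ho]; decide)
      exact ⟨c, hc, pc, by rwa [ho] at hp⟩
  obtain ⟨c₁, hc₁, pc₁, k₁⟩ := hA permA (by decide +kernel) (by decide +kernel)
  obtain ⟨c₂, hc₂, pc₂, k₂⟩ := hA permB (by decide +kernel) (by decide +kernel)
  obtain ⟨c₃, hc₃, pc₃, k₃⟩ := hA permC (by decide +kernel) (by decide +kernel)
  refine ⟨⟨h9, h10, H', hg, K.zz, hne, K.z_ne, px, isConj_iff.mpr ⟨g, rfl⟩, ?_, c₁, c₂, c₃, hc₁, hc₂, hc₃,
    pc₁, pc₂, pc₃, k₁, k₂, k₃⟩⟩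
  intro u hu uu u1 uz
  obtain ⟨m', ⟨F'⟩⟩ := exists_frame H' hu uu uz u1
  obtain ⟨τ, hτ⟩ := isConj_iff.mp (isConj_iff_cycleType_eq.mpr
    ((cycleType_permX h9).trans (F'.cycleType_eq (by omega)).symm))
  have hodd : ∀ τ : Perm (Fin n), τ * emb h9 permX * τ⁻¹ = H'.p u → ∃ τ' ∈ alternatingGroup (Fin n),
      τ' * emb h9 permX * τ'⁻¹ = H'.p u := by
    intro τ hτ
    rcases Int.units_eq_one_or (sign τ) with e | e
    · exact ⟨τ, mem_alternatingGroup.mpr e, hτ⟩
    · refine ⟨τ * emb h9 (swap 0 3), ?_, ?_⟩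
      · rw [mem_alternatingGroup, map_mul, e, sign_emb, sign_swap (by decide)]; rfl
      · rw [mul_inv_rev, ← hτ]
        have : emb h9 (swap 0 3) * emb h9 permX * (emb h9 (swap 0 3))⁻¹ = emb h9 permX := by
          rw [← map_inv, ← map_mul, ← map_mul]; exact congrArg _ (by decide +kernel)
        calc τ * emb h9 (swap 0 3) * emb h9 permX * ((emb h9 (swap 0 3))⁻¹ * τ⁻¹)
            = τ * (emb h9 (swap 0 3) * emb h9 permX * (emb h9 (swap 0 3))⁻¹) * τ⁻¹ := by group
          _ = _ := by rw [this]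
  obtain ⟨τ', hτA, hτ'⟩ := hodd τ hτ
  obtain ⟨k, hk, pk⟩ := H'.exists_lift hτA
  have hkx := Hyp.comm_mul (Hyp.comm_mul hk hg) (Hyp.comm_inv hk)
  rcases H'.eq_or_of_p_eq hkx hu (by
    rw [H'.p_mul (Hyp.comm_mul hk hg) (Hyp.comm_inv hk), H'.p_mul hk hg, H'.p_inv hk, pk, px, hτ']) with e | e
  · exact ⟨k, hk, e⟩
  · obtain ⟨d, hd, -, hdx⟩ := exists_swap_lift H' h9 hg px
    refine ⟨k * d, Hyp.comm_mul hk hd, ?_⟩
    calc k * d * x * (k * d)⁻¹ = k * (d * x * d⁻¹) * k⁻¹ := by group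
      _ = k * x * k⁻¹ * (k * z * k⁻¹) := by rw [hdx]; group
      _ = u * z * z := by rw [e, mul_inv_eq_iff_eq_mul.mpr hk]
      _ = u := by rw [mul_assoc, H.zz, mul_one]

end CfsgLib.SpinCent
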