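import Cfsg.Agent.Lib.SpinCent.Large
import Cfsg.Agent.Lib.SpinAlt.Refl

/-!
# Two involutions of the cover on twelve points

Every element of order three commuting with both involutions has the centre of the cover in its
normal closure, but a three-cycle on the four points outside the pairs keeps the second involution
out of it. So the two involutions are not conjugate.
-/

set_option autoImplicit false
set_option linter.unusedSectionVars false
set_option linter.style.haveILetI false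

namespace CfsgLib.SpinCent

open Equiv Equiv.Perm

theorem exists_out_partner : ∀ τ : Perm (Fin 4), τ * τ * τ = 1 → τ ≠ 1 →
    ∃ σ : Perm (Fin 4), (σ * σ * σ = 1 ∧ σ ≠ 1) ∧
      ∃ a b c e : Fin 4, (a ≠ b ∧ c ≠ e ∧ a ≠ c ∧ a ≠ e ∧ b ≠ c ∧ b ≠ e) ∧
        τ⁻¹ * σ * τ * σ⁻¹ = swap a b * swap c e := by
  decide +kernel

variable {G : Type*} [Group G] [Finite G] {n m : ℕ} {z x : G}

namespace Frame

variable {H : Hyp n z} (F : Frame H x m)

theorem sign_px (F : Frame H x m) : Equiv.Perm.sign (H.p x) = (-1) ^ m := by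
  classical
  have hsq : H.p x * H.p x = 1 := by rw [← H.p_mul F.xz F.xz, F.xx, H.p_one]
  have hsupp : (H.p x).support = Finset.univ.map F.P.ψ := by
    ext q
    rw [mem_support, ← F.P.mem_range_iff, Finset.mem_map]
    simp [Set.mem_range]
  rw [sign_of_cycleType, SpinAlt.cycleType_of_mul_self hsq, hsupp, Finset.card_map, Finset.card_univ,
    Fintype.card_prod, Fintype.card_fin, Fintype.card_bool, Nat.mul_div_cancel _ two_pos,
    Multiset.sum_replicate, Multiset.card_replicate, smul_eq_mul, pow_add, Even.neg_one_pow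
    (even_iff_two_dvd.mpr ⟨m, by ring⟩), one_mul]

theorem even_m (F : Frame H x m) : Even m := by
  by_contra h
  have h1 := F.sign_px
  rw [mem_alternatingGroup.mp (H.p_alt F.xz), (Nat.not_even_iff_odd.mp h).neg_one_pow] at h1
  exact absurd h1 (by decide)

theorem pr_comm (i j : Fin m) : F.pr i * F.pr j = F.pr j * F.pr i := by
  rcases eq_or_ne i j with rfl | h
  · rfl
  refine Equiv.ext fun q => ?_
  simp only [Perm.mul_apply]
  by_cases hq : q ∈ Set.range F.P.ψ
  · obtain ⟨⟨k, b⟩, rfl⟩ := hq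
    rw [F.pr_apply, F.pr_apply, F.pr_apply, F.pr_apply]
    by_cases h1 : k = i <;> by_cases h2 : k = j <;> simp [h1, h2, h, h.symm]
  · rw [F.pr_out _ hq, F.pr_out _ hq, F.pr_out _ hq]

theorem pr_sq (i : Fin m) : F.pr i * F.pr i = 1 := by rw [Frame.pr, swap_mul_self]

theorem not_six (F : Frame H x 6) : False := by
  obtain ⟨a, ha, pa, a2⟩ := F.exists_pr_lift (show (0 : Fin 6) ≠ 1 by decide)
  obtain ⟨b, hb, pb, b2⟩ := F.exists_pr_lift (show (2 : Fin 6) ≠ 3 by decide)
  obtain ⟨c, hc, pc, c2⟩ := F.exists_pr_lift (show (4 : Fin 6) ≠ 5 by decide)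
  have za := (mem_both.mp ha.1).1
  have zb := (mem_both.mp hb.1).1
  have zc := (mem_both.mp hc.1).1
  have ne : ∀ {u v : Fin 6 × Bool}, u ≠ v → F.P.ψ u ≠ F.P.ψ v := fun h e => h (F.P.ψ.injective e)
  have moved : ∀ {i j : Fin 6} {q : Fin n}, (F.pr i * F.pr j) q ≠ q →
      ∃ β, q = F.P.ψ (i, β) ∨ q = F.P.ψ (j, β) := by
    intro i j q h
    by_cases hq : q ∈ Set.range F.P.ψ
    · obtain ⟨⟨k, β⟩, rfl⟩ := hq
      refine ⟨β, ?_⟩
      rcases eq_or_ne k i with rfl | h1
      · exact Or.inl rfl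
      rcases eq_or_ne k j with rfl | h2
      · exact Or.inr rfl
      rw [Perm.mul_apply, F.pr_apply, if_neg h2, F.pr_apply, if_neg h1] at h
      exact absurd rfl h
    · rw [Perm.mul_apply, F.pr_out _ hq, F.pr_out _ hq] at h
      exact absurd rfl h
  have com : ∀ {i j k l : Fin 6} {g h : G}, g * z = z * g → h * z = z * h →
      H.p g = F.pr i * F.pr j → H.p h = F.pr k * F.pr l → i ≠ k → i ≠ l → j ≠ k → j ≠ l →
      Commute g h := by
    intro i j k l g h hg hh eg eh h1 h2 h3 h4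
    refine H.commute_of_disjoint hg hh (S := (H.p g).support) (Finset.Subset.refl _) ?_
    rw [Finset.disjoint_left]
    intro q hq hq'
    rw [mem_support, eh] at hq
    rw [mem_support, eg] at hq'
    obtain ⟨β, hβ⟩ := moved hq
    obtain ⟨γ, hγ⟩ := moved hq'
    rcases hβ with rfl | rfl <;> rcases hγ with e | e <;>
      have := congrArg Prod.fst (F.P.ψ.injective e)
    · exact h1 this.symm
    · exact h3 this.symm
    · exact h2 this.symm
    · exact h4 this.symm
  have cab : Commute a b := com za zb pa pb (by decide) (by decide) (by decide) (by decide)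
  have cac : Commute a c := com za zc pa pc (by decide) (by decide) (by decide) (by decide)
  have cbc : Commute b c := com zb zc pb pc (by decide) (by decide) (by decide) (by decide)
  have zab := Hyp.comm_mul za zb
  have zabc := Hyp.comm_mul zab zc
  have hp : H.p (a * b * c) = H.p x := by
    rw [H.p_mul zab zc, H.p_mul za zb, pa, pb, pc]
    refine Equiv.ext fun q => ?_
    simp only [Perm.mul_apply]
    by_cases hq : q ∈ Set.range F.P.ψ
    · obtain ⟨⟨k, β⟩, rfl⟩ := hq
      rw [F.P.act, F.pr_apply, F.pr_apply, F.pr_apply, F.pr_apply, F.pr_apply, F.pr_apply]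
      fin_cases k <;> simp
    · rw [F.P.fix q hq, F.pr_out _ hq, F.pr_out _ hq, F.pr_out _ hq, F.pr_out _ hq, F.pr_out _ hq,
        F.pr_out _ hq]
  have hsq : (a * b * c) * (a * b * c) = z := by
    rw [((cac.mul_left cbc).symm).mul_mul_mul_comm, cab.symm.mul_mul_mul_comm, a2, b2, c2, H.zz,
      one_mul]
  rcases H.eq_or_of_p_eq F.xz zabc hp.symm with e | e
  · rw [← e, F.xx] at hsq
    exact H.z_ne hsq.symm
  · have e1 : x * x = a * b * c * (a * b * c) := by
      rw [e, (show Commute (a * b * c) z from zabc).symm.mul_mul_mul_comm, H.zz, mul_one]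
    rw [hsq, F.xx] at e1
    exact H.z_ne e1.symm

theorem pr_conj {d : G} (hd : d ∈ both z x) (k : Fin m) :
    H.p d * F.pr k * (H.p d)⁻¹ = F.pr (F.P.blk (H.p d) (F.comm_p hd) k) := by
  set a := H.p d with ha
  have hc := F.comm_p hd
  rw [Frame.pr, ← Equiv.swap_apply_apply]
  rw [← F.P.act'_spec a hc, ← F.P.act'_spec a hc,
    show F.P.act' a hc (k, true) = ((F.P.act' a hc (k, false)).1, !(F.P.act' a hc (k, false)).2) from
      F.P.act'_comm a hc (k, false)]
  rw [show F.P.act' a hc (k, false) = (F.P.blk a hc k, (F.P.act' a hc (k, false)).2) from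
    Prod.ext (F.P.blk_spec a hc (k, false)) rfl]
  cases (F.P.act' a hc (k, false)).2
  · rfl
  · exact swap_comm _ _

end Frame

theorem four_of_twelve {H : Hyp 12 z} (F : Frame H x m) : m = 4 := by
  have h1 := F.three_le
  have h2 := F.P.card_le
  obtain ⟨k, hk⟩ := F.even_m
  rcases (show m = 4 ∨ m = 6 by omega) with e | e
  · exact e
  · subst e; exact F.not_six.elim

section Twelve

variable {H : Hyp 12 z} (F : Frame H x 4)

theorem card_out (F : Frame H x 4) :
    Fintype.card {q // q ∉ Set.range F.P.ψ} = 4 := by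
  classical
  rw [Fintype.card_subtype_compl, Fintype.card_fin,
    show Fintype.card {q // q ∈ Set.range F.P.ψ} = 8 from ?_]
  rw [show Fintype.card {q // q ∈ Set.range F.P.ψ} = Fintype.card (Set.range F.P.ψ) from rfl,
    Set.card_range_of_injective F.P.ψ.injective, Fintype.card_prod, Fintype.card_fin, Fintype.card_bool]

/-- The four points outside the pairs. -/
noncomputable def outEmb (F : Frame H x 4) : Fin 4 ↪ Fin 12 :=
  open scoped _root_.Classical in
  (Fintype.equivFinOfCardEq (card_out F)).symm.toEmbedding.trans (Function.Embedding.subtype _)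

theorem range_outEmb (q : Fin 12) : q ∈ Set.range (outEmb F) ↔ q ∉ Set.range F.P.ψ := by
  classical
  constructor
  · rintro ⟨i, rfl⟩
    exact ((Fintype.equivFinOfCardEq (card_out F)).symm i).2
  · intro h
    exact ⟨Fintype.equivFinOfCardEq (card_out F) ⟨q, h⟩, by simp [outEmb]⟩

theorem via_fix (σ : Perm (Fin 4)) {q : Fin 12} (hq : q ∈ Set.range F.P.ψ) :
    Equiv.Perm.viaEmbeddingHom (outEmb F) σ q = q := by
  rw [viaEmbeddingHom_apply, viaEmbedding_apply_of_notMem]
  exact fun h => (range_outEmb F q).mp h hq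

theorem via_swap (a b : Fin 4) :
    Equiv.Perm.viaEmbeddingHom (outEmb F) (swap a b) = swap (outEmb F a) (outEmb F b) := by
  refine Equiv.ext fun q => ?_
  rw [viaEmbeddingHom_apply]
  by_cases hq : q ∈ Set.range (outEmb F)
  · obtain ⟨i, rfl⟩ := hq
    rw [viaEmbedding_apply, (outEmb F).injective.map_swap]
  · rw [viaEmbedding_apply_of_notMem _ _ _ hq, swap_apply_of_ne_of_ne] <;>
      exact fun e => hq ⟨_, e.symm⟩

theorem exists_via_lift {σ : Perm (Fin 4)} (h3 : σ * σ * σ = 1) :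
    ∃ g ∈ both z x, H.p g = Equiv.Perm.viaEmbeddingHom (outEmb F) σ ∧ g ^ 3 = 1 := by
  set f := Equiv.Perm.viaEmbeddingHom (outEmb F) σ with hf
  have hf3 : f ^ 3 = 1 := by
    rw [hf, ← map_pow, pow_succ, pow_two, h3, map_one]
  have hd := orderOf_dvd_of_pow_eq_one hf3
  have ho : Odd (orderOf f) := Odd.of_dvd_nat (by decide : Odd 3) hd
  obtain ⟨g, hg, pg, gk⟩ := H.exists_odd_lift ho
  have hc : Commute f (H.p x) := by
    refine (show Equiv.Perm.Disjoint f (H.p x) from fun q => ?_).commute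
    by_cases hq : q ∈ Set.range F.P.ψ
    · exact Or.inl (via_fix F σ hq)
    · exact Or.inr (F.P.fix q hq)
  refine ⟨g, mem_both.mpr ⟨hg, H.commute_of_odd hg F.xz ho gk (by rw [pg]; exact hc)⟩, pg, ?_⟩
  obtain ⟨l, hl⟩ := hd
  rw [hl, pow_mul, gk, one_pow]

/-- Every element of order three has the centre in its normal closure. -/
theorem z_mem_of_three (F : Frame H x 4) {c : G} (hc : c ∈ both z x) (c3 : c ^ 3 = 1) (c1 : c ≠ 1) {N : Subgroup G}
    (hN : ∀ d ∈ both z x, ∀ a ∈ N, d * a * d⁻¹ ∈ N) (hcN : c ∈ N) : z ∈ N := by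
  classical
  have zc := (mem_both.mp hc).1
  set a := H.p c with ha
  have hca : Commute a (H.p x) := F.comm_p hc
  have a3 : a ^ 3 = 1 := by rw [ha, ← H.p_pow zc, c3, H.p_one]
  have fin : ∀ g ∈ N, g * z = z * g → SpinAlt.IsDouble (H.p g) → z ∈ N := fun g hg hgz hd => by
    rw [← H.sq_of_double hgz hd]; exact mul_mem hg hg
  have hout : ∀ i, ∃ j, a (outEmb F i) = outEmb F j := fun i => by
    obtain ⟨j, hj⟩ := (range_outEmb F (a (outEmb F i))).mpr
      (fun h => (range_outEmb F _).mp ⟨i, rfl⟩ ((F.P.range_inv hca _).mp h))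
    exact ⟨j, hj.symm⟩
  choose τf hτf using hout
  let τ : Perm (Fin 4) := Equiv.ofBijective τf (Finite.injective_iff_bijective.mp fun i j h =>
    (outEmb F).injective (a.injective (by rw [hτf, hτf, h])))
  have hτ : ∀ i, a (outEmb F i) = outEmb F (τ i) := hτf
  have τ3 : τ * τ * τ = 1 := Equiv.ext fun i => (outEmb F).injective (by
    simp only [Perm.mul_apply, Perm.one_apply, ← hτ]
    rw [← Perm.mul_apply, ← Perm.mul_apply, ← pow_two, ← pow_succ, a3, Perm.one_apply])
  by_cases hτ1 : τ = 1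
  · have hfix : ∀ q, q ∉ Set.range F.P.ψ → a q = q := fun q hq => by
      obtain ⟨i, rfl⟩ := (range_outEmb F q).mpr hq
      rw [hτ, hτ1, Perm.one_apply]
    set ρ := F.blocks ⟨c, hc⟩ with hρ
    have ρ3 : ρ * ρ * ρ = 1 := by
      rw [hρ, ← map_mul, ← map_mul]
      convert map_one F.blocks using 2
      exact Subtype.ext (by show c * c * c = 1; rw [← c3, pow_succ, pow_two])
    obtain ⟨i, hi⟩ : ∃ i, ρ i ≠ i := by
      by_contra hno
      push Not at hno
      have hk : F.Keeps c := fun q => by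
        by_cases hq : q ∈ Set.range F.P.ψ
        · obtain ⟨⟨k, b⟩, rfl⟩ := hq
          rw [← ha, ← F.P.act'_spec a hca, F.P.act]
          have e := (F.P.blk_spec a hca (k, b)).trans (hno k)
          rcases Bool.eq_or_eq_not (F.P.act' a hca (k, b)).2 b with e' | e'
          · exact Or.inl (congrArg _ (Prod.ext e e'))
          · exact Or.inr (congrArg _ (Prod.ext e e'))
        · exact Or.inl (hfix q hq)
      have a2 : a * a = 1 := Equiv.ext fun q => by
        rw [Perm.mul_apply, Perm.one_apply]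
        rcases hk q with e | e <;> rw [← ha] at e
        · rw [e, e]
        · rw [e, ← Perm.mul_apply, hca.eq, Perm.mul_apply, e, F.sx]
      have a1 : a = 1 := by
        rw [pow_succ, pow_two, a2, one_mul] at a3; exact a3
      rcases H.eq_or_of_p_eq_one zc a1 with e | e
      · exact c1 e
      · rw [e, pow_succ, pow_two, H.zz, one_mul] at c3; exact H.z_ne c3
    have hij : i ≠ ρ i := fun e => hi e.symm
    have hjk : ρ (ρ i) ≠ i := fun e => by
      have h := DFunLike.congr_fun ρ3 i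
      rw [Perm.mul_apply, Perm.mul_apply, Perm.one_apply, e] at h
      exact hi h
    obtain ⟨g, hg, pg, -⟩ := F.exists_pr_lift hij
    have zg := (mem_both.mp hg.1).1
    have zz1 := Hyp.comm_mul (Hyp.comm_mul zc zg) (Hyp.comm_inv zc)
    refine fin (c * g * c⁻¹ * g⁻¹) ?_ (Hyp.comm_mul zz1 (Hyp.comm_inv zg)) ?_
    · rw [show c * g * c⁻¹ * g⁻¹ = c * (g * c⁻¹ * g⁻¹) by group]
      exact mul_mem hcN (hN g hg.1 _ (inv_mem hcN))
    · rw [H.p_mul zz1 (Hyp.comm_inv zg), H.p_mul (Hyp.comm_mul zc zg) (Hyp.comm_inv zc),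
        H.p_mul zc zg, H.p_inv zc, H.p_inv zg, pg]
      have e0 : H.p c * (F.pr i * F.pr (ρ i)) * (H.p c)⁻¹ = F.pr (ρ i) * F.pr (ρ (ρ i)) := by
        rw [show H.p c * (F.pr i * F.pr (ρ i)) * (H.p c)⁻¹ =
          (H.p c * F.pr i * (H.p c)⁻¹) * (H.p c * F.pr (ρ i) * (H.p c)⁻¹) by group,
          F.pr_conj hc, F.pr_conj hc]
        rfl
      rw [e0, mul_inv_rev, inv_eq_of_mul_eq_one_right (F.pr_sq i),
        inv_eq_of_mul_eq_one_right (F.pr_sq (ρ i)), F.pr_comm (ρ i) (ρ (ρ i)), mul_assoc,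
        ← mul_assoc (F.pr (ρ i)), F.pr_sq, one_mul]
      exact F.double_pr hjk
  · obtain ⟨σ, ⟨σ3, -⟩, u, v, s, t, ⟨huv, hst, hus, hut, hvs, hvt⟩, he⟩ :=
      exists_out_partner τ τ3 hτ1
    obtain ⟨e, heb, pe, -⟩ := exists_via_lift F σ3
    have ze := (mem_both.mp heb).1
    have zz1 := Hyp.comm_mul (Hyp.comm_mul (Hyp.comm_inv zc) ze) zc
    refine fin (c⁻¹ * e * c * e⁻¹) ?_ (Hyp.comm_mul zz1 (Hyp.comm_inv ze)) ?_
    · rw [show c⁻¹ * e * c * e⁻¹ = c⁻¹ * (e * c * e⁻¹) by group]
      exact mul_mem (inv_mem hcN) (hN e heb _ hcN)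
    · rw [H.p_mul zz1 (Hyp.comm_inv ze), H.p_mul (Hyp.comm_mul (Hyp.comm_inv zc) ze) zc,
        H.p_mul (Hyp.comm_inv zc) ze, H.p_inv zc, H.p_inv ze, pe, ← ha]
      have key : a⁻¹ * Equiv.Perm.viaEmbeddingHom (outEmb F) σ * a =
          Equiv.Perm.viaEmbeddingHom (outEmb F) (τ⁻¹ * σ * τ) := by
        rw [mul_assoc, inv_mul_eq_iff_eq_mul]
        refine Equiv.ext fun q => ?_
        simp only [Perm.mul_apply]
        by_cases hq : q ∈ Set.range F.P.ψ
        · rw [via_fix F _ hq, via_fix F σ ((F.P.range_inv hca q).mpr hq)]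
        · obtain ⟨i, rfl⟩ := (range_outEmb F q).mpr hq
          rw [hτ, viaEmbeddingHom_apply, viaEmbeddingHom_apply, viaEmbedding_apply, viaEmbedding_apply,
            hτ, Perm.mul_apply, Perm.mul_apply, Frame.pinv_apply]
      rw [key, ← map_inv, ← map_mul, he, map_mul, via_swap, via_swap]
      have ne : ∀ {i k : Fin 4}, i ≠ k → outEmb F i ≠ outEmb F k := fun h h' => h ((outEmb F).injective h')
      exact ⟨_, _, _, _, ne huv, ne hst, ne hus, ne hut, ne hvs, ne hvt, rfl⟩

/-- The elements fixing the points in the pairs. -/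
def inner (F : Frame H x 4) : Subgroup G where
  carrier := {g | g ∈ both z x ∧ ∀ p, H.p g (F.P.ψ p) = F.P.ψ p}
  one_mem' := ⟨one_mem _, fun p => by rw [H.p_one, Perm.one_apply]⟩
  mul_mem' := fun {a b} ha hb => ⟨mul_mem ha.1 hb.1, fun p => by
    rw [H.p_mul (mem_both.mp ha.1).1 (mem_both.mp hb.1).1, Perm.mul_apply, hb.2, ha.2]⟩
  inv_mem' := fun {a} ha => ⟨inv_mem ha.1, fun p => by
    rw [H.p_inv (mem_both.mp ha.1).1, Equiv.Perm.inv_eq_iff_eq, ha.2]⟩

theorem inner_conj {d a : G} (hd : d ∈ both z x) (ha : a ∈ inner F) : d * a * d⁻¹ ∈ inner F := by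
  refine ⟨mul_mem (mul_mem hd ha.1) (inv_mem hd), fun p => ?_⟩
  have h1 := (mem_both.mp hd).1
  have h2 := (mem_both.mp ha.1).1
  obtain ⟨p', hp'⟩ := (F.P.range_inv (F.comm_p (inv_mem hd)) (F.P.ψ p)).mpr ⟨p, rfl⟩
  rw [H.p_inv h1] at hp'
  rw [H.p_mul (Hyp.comm_mul h1 h2) (Hyp.comm_inv h1), H.p_mul h1 h2, H.p_inv h1, Perm.mul_apply,
    Perm.mul_apply, ← hp', ha.2, hp', Frame.pinv_apply]

theorem exists_outer_three (F : Frame H x 4) :
    ∃ c ∈ inner F, c ^ 3 = 1 ∧ c ≠ 1 := by
  have hσ : ((swap 0 1 * swap 0 2 : Perm (Fin 4)) * (swap 0 1 * swap 0 2) * (swap 0 1 * swap 0 2) = 1) ∧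
      (swap 0 1 * swap 0 2 : Perm (Fin 4)) 0 ≠ 0 := by decide
  obtain ⟨g, hg, pg, g3⟩ := exists_via_lift F hσ.1
  refine ⟨g, ⟨hg, fun p => by rw [pg, via_fix F _ ⟨p, rfl⟩]⟩, g3, fun e => hσ.2 ?_⟩
  have e1 := DFunLike.congr_fun pg (outEmb F 0)
  rw [e, H.p_one, Perm.one_apply, viaEmbeddingHom_apply, viaEmbedding_apply] at e1
  exact ((outEmb F).injective e1).symm

end Twelve

/-- On twelve points the two involutions are not conjugate. -/
theorem false_of_twelve (H : Hyp 12 z) (K : Hyp 12 x) (xz : x * z = z * x) (hne : x ≠ z) :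
    False := by
  obtain ⟨m, ⟨F⟩⟩ := exists_frame H xz K.zz hne K.z_ne
  obtain ⟨m', ⟨F'⟩⟩ := exists_frame K xz.symm H.zz hne.symm H.z_ne
  obtain rfl := four_of_twelve F
  obtain rfl := four_of_twelve F'
  obtain ⟨c, hc, c3, c1⟩ := exists_outer_three F
  have hb : both x z = both z x := both_comm
  have hc' : c ∈ both x z := hb.symm ▸ hc.1
  have hN : ∀ d ∈ both x z, ∀ a ∈ inner F, d * a * d⁻¹ ∈ inner F :=
    fun d hd a ha => inner_conj F (hb ▸ hd) ha
  have hxN : x ∈ inner F := z_mem_of_three F' hc' c3 c1 hN hc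
  have h := hxN.2 (0, false)
  rw [F.P.act] at h
  exact F.P.ne_flip 0 false h.symm

end CfsgLib.SpinCent
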